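import Groth.Agent.LimTop.Descend

/-!
Irreducibility and connectedness along limits.
-/

universe u

open CategoryTheory AlgebraicGeometry Limits Topology TopologicalSpace Opposite

namespace Groth.Agent.LimTop

variable {I : Type u} [SmallCategory I] {D : I ⥤ Scheme.{u}} {c : Cone D}
variable [∀ (i j : I) (f : i ⟶ j), IsAffineHom (D.map f)] [IsCofiltered I]

/-- If the limit is empty then some stage is empty. -/
theorem exists_isEmpty (hc : IsLimit c) (i₀ : I) [CompactSpace (D.obj i₀)] [IsEmpty c.pt] :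
    ∃ (j : I) (_ : j ⟶ i₀), IsEmpty (D.obj j) := by
  obtain ⟨j, φ, h⟩ := exists_subset hc (i₀ := i₀) (fun _ _ ↦ Set.univ) (fun _ _ ↦ ∅)
    (fun _ _ ↦ isProConstructible_of_isLocallyConstructible .univ)
    (fun _ _ ↦ isIndConstructible_of_isLocallyConstructible .empty)
    (fun _ _ _ _ ↦ Set.subset_univ _) (fun _ _ _ _ ↦ Set.empty_subset _) (fun s ↦ isEmptyElim s)
  exact ⟨j, φ, ⟨fun x ↦ (h (Set.mem_univ x) : x ∈ (∅ : Set (D.obj j)))⟩⟩

/-- The transition maps being eventually dominant, the limit of nonempty stages is nonempty. -/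
theorem nonempty_of_forall (hc : IsLimit c) (i₀ : I) [CompactSpace (D.obj i₀)]
    (h : ∀ (j : I), (j ⟶ i₀) → Nonempty (D.obj j)) : Nonempty c.pt := by
  by_contra hne
  rw [not_nonempty_iff] at hne
  obtain ⟨j, φ, hj⟩ := exists_isEmpty hc i₀
  exact hj.elim (h j φ).some

/-- An open subset with empty preimage under a dominant projection is empty. -/
lemma eq_empty_of_preimage_eq_empty {X Y : Scheme.{u}} (f : X ⟶ Y) [IsDominant f] {V : Set Y}
    (hV : IsOpen V) (h : f ⁻¹' V = ∅) : V = ∅ := by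
  by_contra hne
  obtain ⟨_, hx, x, rfl⟩ := dense_iff_inter_open.mp f.denseRange V hV
    (Set.nonempty_iff_ne_empty.mpr hne)
  exact (Set.eq_empty_iff_forall_notMem.mp h) x hx

theorem isDominant_π (hc : IsLimit c) (i : I) (h : ∀ (j : I) (φ : j ⟶ i), IsDominant (D.map φ)) :
    IsDominant (c.π.app i) := by
  refine ⟨?_⟩
  rw [DenseRange, dense_iff_inter_open]
  intro W hW ⟨x, hxW⟩
  obtain ⟨_, ⟨V, hV, rfl⟩, hxV, hVW⟩ :=
    (D.obj i).isBasis_affineOpens.exists_subset_of_mem_open hxW hW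
  by_contra hne
  obtain ⟨j, φ, hj⟩ := exists_inter_subset hc V hV.isCompact (fun _ _ ↦ Set.univ)
    (fun _ _ ↦ ∅)
    (fun _ _ ↦ isProConstructible_of_isLocallyConstructible .univ)
    (fun _ _ ↦ isIndConstructible_of_isLocallyConstructible .empty)
    (fun _ _ _ _ ↦ Set.subset_univ _) (fun _ _ _ _ ↦ Set.empty_subset _)
    (fun s hs _ ↦ (hne ⟨c.π.app i s, hVW hs, s, rfl⟩).elim)
  obtain ⟨_, hy, ⟨y, rfl⟩⟩ :=
    dense_iff_inter_open.mp (h j φ).1 (V : Set (D.obj i)) V.2 ⟨x, hxV⟩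
  exact hj ⟨hy, trivial⟩

/-- The closure of the image of the whole space of a dominant irreducible map is everything. -/
lemma irreducibleSpace_of_isDominant {X Y : Scheme.{u}} (f : X ⟶ Y) [IsDominant f]
    [IrreducibleSpace X] : IrreducibleSpace Y := by
  have h := ((IrreducibleSpace.isIrreducible_univ X).image f f.continuous.continuousOn).closure
  rw [Set.image_univ, f.denseRange.closure_range] at h
  exact irreducibleSpace_def _ |>.mpr h

lemma connectedSpace_of_isDominant {X Y : Scheme.{u}} (f : X ⟶ Y) [IsDominant f]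
    [ConnectedSpace X] : ConnectedSpace Y := by
  have h := ((isConnected_univ (α := X)).image f f.continuous.continuousOn).closure
  rw [Set.image_univ, f.denseRange.closure_range] at h
  exact connectedSpace_iff_univ.mpr h

/-- Quasi-compact opens of the limit come from quasi-compact opens of a stage over `i₀`. -/
theorem exists_open_preimage (hc : IsLimit c) (i₀ : I) {U : Set c.pt} (ho : IsOpen U)
    (hU : IsCompact U) :
    ∃ (j : I) (_ : j ⟶ i₀) (V : (D.obj j).Opens), IsCompact (V : Set (D.obj j)) ∧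
      c.π.app j ⁻¹' (V : Set (D.obj j)) = U := by
  obtain ⟨i, V, hV, e⟩ := exists_preimage_eq D c hc ⟨U, ho⟩ hU
  refine ⟨IsCofiltered.min i i₀, IsCofiltered.minToRight _ _,
    D.map (IsCofiltered.minToLeft i i₀) ⁻¹ᵁ V,
    QuasiCompact.isCompact_preimage (f := D.map (IsCofiltered.minToLeft i i₀)) _ V.2 hV, ?_⟩
  rw [Scheme.Hom.coe_preimage, preimage_π]
  exact congrArg (fun W : c.pt.Opens ↦ (W : Set c.pt)) e

/-- Two quasi-compact opens of the limit come from quasi-compact opens of a common stage. -/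
theorem exists_open_preimage₂ (hc : IsLimit c) (i₀ : I) {U U' : Set c.pt} (ho : IsOpen U)
    (hU : IsCompact U) (ho' : IsOpen U') (hU' : IsCompact U') :
    ∃ (j : I) (_ : j ⟶ i₀) (V V' : (D.obj j).Opens), IsCompact (V : Set (D.obj j)) ∧
      IsCompact (V' : Set (D.obj j)) ∧
      c.π.app j ⁻¹' (V : Set (D.obj j)) = U ∧ c.π.app j ⁻¹' (V' : Set (D.obj j)) = U' := by
  obtain ⟨a, fa, V, hV, e⟩ := exists_open_preimage hc i₀ ho hU
  obtain ⟨b, fb, V', hV', e'⟩ := exists_open_preimage hc i₀ ho' hU'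
  obtain ⟨j, p, q, -⟩ := IsCofiltered.cospan fa fb
  refine ⟨j, p ≫ fa, D.map p ⁻¹ᵁ V, D.map q ⁻¹ᵁ V',
    QuasiCompact.isCompact_preimage (f := D.map p) _ V.2 hV,
    QuasiCompact.isCompact_preimage (f := D.map q) _ V'.2 hV', ?_, ?_⟩
  · rw [Scheme.Hom.coe_preimage, preimage_π, e]
  · rw [Scheme.Hom.coe_preimage, preimage_π, e']

/-- Disjoint quasi-compact opens in the limit are disjoint at a qcqs stage. -/
theorem exists_disjoint (hc : IsLimit c) {j : I} [QuasiSeparatedSpace (D.obj j)]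
    (V V' : (D.obj j).Opens) (hV : IsCompact (V : Set (D.obj j))) (hV' : IsCompact (V' : Set (D.obj j)))
    (h : c.π.app j ⁻¹' ((V : Set (D.obj j)) ∩ V') = ∅) :
    ∃ (k : I) (ψ : k ⟶ j), D.map ψ ⁻¹' ((V : Set (D.obj j)) ∩ V') = ∅ := by
  obtain ⟨k, ψ, hk⟩ := exists_map_preimage_le_map_preimage D c hc (U := V ⊓ V') (V := ⊥)
    (QuasiSeparatedSpace.inter_isCompact _ _ V.2 hV V'.2 hV')
    (fun x hx ↦ ((Set.eq_empty_iff_forall_notMem.mp h) x hx).elim)
  exact ⟨k, ψ, Set.eq_empty_iff_forall_notMem.mpr fun x hx ↦ hk (show x ∈ D.map ψ ⁻¹ᵁ (V ⊓ V') from hx)⟩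

theorem eventually_not_irreducibleSpace (hc : IsLimit c) (i₀ : I) [CompactSpace (D.obj i₀)]
    [QuasiSeparatedSpace (D.obj i₀)] [NoetherianSpace c.pt] (h : ¬ IrreducibleSpace c.pt) :
    ∃ (i : I) (_ : i ⟶ i₀), ∀ (j : I) (_ : j ⟶ i), ¬ IrreducibleSpace (D.obj j) := by
  rcases isEmpty_or_nonempty c.pt with he | hne
  · obtain ⟨i, φ, hi⟩ := exists_isEmpty hc i₀
    exact ⟨i, φ, fun j ψ hj ↦ hi.elim (D.map ψ hj.toNonempty.some)⟩
  obtain ⟨U, U', ho, ho', ⟨x, hx⟩, ⟨y, hy⟩, hUU'⟩ :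
      ∃ U U' : Set c.pt, IsOpen U ∧ IsOpen U' ∧ U.Nonempty ∧ U'.Nonempty ∧ U ∩ U' = ∅ := by
    by_contra! hcon
    have : PreirreducibleSpace c.pt := ⟨?_⟩
    · exact h { toNonempty := hne }
    rintro U V hU hV ⟨x, -, hx⟩ ⟨y, -, hy⟩
    simpa using hcon U V hU hV ⟨x, hx⟩ ⟨y, hy⟩
  obtain ⟨j, φ, V, V', hV, hV', rfl, rfl⟩ := exists_open_preimage₂ hc i₀ ho
    (NoetherianSpace.isCompact U) ho' (NoetherianSpace.isCompact U')
  have : QuasiSeparatedSpace (D.obj j) := quasiSeparatedSpace_of_quasiSeparated (D.map φ)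
  obtain ⟨k, ψ, hk⟩ := exists_disjoint hc V V' hV hV' hUU'
  refine ⟨k, ψ ≫ φ, fun l χ hl ↦ ?_⟩
  obtain ⟨z, -, hz⟩ := hl.toPreirreducibleSpace.isPreirreducible_univ
    (D.map (χ ≫ ψ) ⁻¹' V) (D.map (χ ≫ ψ) ⁻¹' V') (V.2.preimage (D.map _).continuous)
    (V'.2.preimage (D.map _).continuous)
    ⟨c.π.app l x, trivial, show D.map (χ ≫ ψ) (c.π.app l x) ∈ V by rw [π_apply]; exact hx⟩
    ⟨c.π.app l y, trivial, show D.map (χ ≫ ψ) (c.π.app l y) ∈ V' by rw [π_apply]; exact hy⟩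
  refine (Set.eq_empty_iff_forall_notMem.mp hk) (D.map χ z) ?_
  show D.map ψ (D.map χ z) ∈ (V : Set (D.obj j)) ∩ V'
  rw [← map_comp_apply]
  exact hz

theorem eventually_not_preconnectedSpace (hc : IsLimit c) (i₀ : I) [CompactSpace (D.obj i₀)]
    [QuasiSeparatedSpace (D.obj i₀)] (h : ¬ PreconnectedSpace c.pt) :
    ∃ (i : I) (_ : i ⟶ i₀), ∀ (j : I) (_ : j ⟶ i), ¬ PreconnectedSpace (D.obj j) := by
  have : IsAffineHom (c.π.app i₀) := isAffineHom_π_app _ _ hc i₀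
  have : CompactSpace c.pt := QuasiCompact.compactSpace_of_compactSpace (c.π.app i₀)
  obtain ⟨U, hUc, hU0, hU1⟩ : ∃ U : Set c.pt, IsClopen U ∧ U.Nonempty ∧ Uᶜ.Nonempty := by
    by_contra! hcon
    refine h (preconnectedSpace_of_forall_constant fun f hf x y ↦ ?_)
    by_contra hne
    have := hcon (f ⁻¹' {f x}) ((isClopen_discrete _).preimage hf) ⟨x, rfl⟩
    exact (Set.eq_empty_iff_forall_notMem.mp this) y (fun e ↦ hne (Eq.symm e))
  obtain ⟨j, φ, V, V', hV, hV', e, e'⟩ := exists_open_preimage₂ hc i₀ hUc.isOpen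
    hUc.isClosed.isCompact hUc.compl.isOpen hUc.compl.isClosed.isCompact
  have : QuasiSeparatedSpace (D.obj j) := quasiSeparatedSpace_of_quasiSeparated (D.map φ)
  have : CompactSpace (D.obj j) := QuasiCompact.compactSpace_of_compactSpace (D.map φ)
  obtain ⟨k, ψ, hk⟩ := exists_disjoint hc V V' hV hV' (by
    rw [Set.preimage_inter, e, e', Set.inter_compl_self])
  obtain ⟨k', ψ', hk'⟩ := exists_map_preimage_le_map_preimage D c hc (U := ⊤) (V := V ⊔ V')
    isCompact_univ (fun x _ ↦ by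
      show x ∈ c.π.app j ⁻¹' ((V : Set (D.obj j)) ∪ V')
      rw [Set.preimage_union, e, e', Set.union_compl_self]
      trivial)
  obtain ⟨m, p, q, hpq⟩ := IsCofiltered.cospan ψ ψ'
  refine ⟨m, p ≫ ψ ≫ φ, fun l χ hl ↦ ?_⟩
  obtain ⟨x, hx⟩ := hU0
  obtain ⟨y, hy⟩ := hU1
  rw [← e] at hx
  rw [← e'] at hy
  set g := (χ ≫ p) ≫ ψ with hg
  have hcov : Set.univ ⊆ D.map g ⁻¹' V ∪ D.map g ⁻¹' V' := fun z _ ↦ by
    have hz := hk' (show D.map (χ ≫ q) z ∈ D.map ψ' ⁻¹ᵁ (⊤ : (D.obj j).Opens) from trivial)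
    have hz' : D.map ((χ ≫ q) ≫ ψ') z ∈ (V : Set (D.obj j)) ∪ V' := by
      rw [map_comp_apply]
      exact hz
    rw [Category.assoc, ← hpq, ← Category.assoc] at hz'
    exact hz'
  obtain ⟨z, -, hz⟩ := hl.isPreconnected_univ (D.map g ⁻¹' V) (D.map g ⁻¹' V')
    (V.2.preimage (D.map g).continuous) (V'.2.preimage (D.map g).continuous) hcov
    ⟨c.π.app l x, trivial, show D.map g (c.π.app l x) ∈ V by rw [π_apply]; exact hx⟩
    ⟨c.π.app l y, trivial, show D.map g (c.π.app l y) ∈ V' by rw [π_apply]; exact hy⟩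
  refine (Set.eq_empty_iff_forall_notMem.mp hk) (D.map (χ ≫ p) z) ?_
  show D.map ψ (D.map (χ ≫ p) z) ∈ (V : Set (D.obj j)) ∩ V'
  rw [← map_comp_apply]
  exact hz

/-- Irreducibility of a limit with dominant transition maps. -/
theorem irreducibleSpace_of_stages (hc : IsLimit c) (i₀ : I) [CompactSpace (D.obj i₀)]
    (hd : ∀ (j k : I) (φ : j ⟶ k) (_ : k ⟶ i₀), IsDominant (D.map φ))
    (h : ∀ (j : I) (_ : j ⟶ i₀), IrreducibleSpace (D.obj j)) : IrreducibleSpace c.pt := by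
  have := nonempty_of_forall hc i₀ fun j φ ↦ (h j φ).toNonempty
  have hne := this
  suffices PreirreducibleSpace c.pt from { toNonempty := hne }
  refine ⟨?_⟩
  rintro U U' hU hU' ⟨x, -, hx⟩ ⟨y, -, hy⟩
  obtain ⟨a, fa, V, -, hxV, hVU⟩ := exists_nhd hc i₀ hU hx
  obtain ⟨b, fb, V', -, hyV, hVU'⟩ := exists_nhd hc i₀ hU' hy
  obtain ⟨j, p, q, -⟩ := IsCofiltered.cospan fa fb
  have := h j (p ≫ fa)
  have : IsDominant (c.π.app j) := isDominant_π hc j fun k φ ↦ hd k j φ (p ≫ fa)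
  have hO := PreirreducibleSpace.isPreirreducible_univ (X := D.obj j)
    (D.map p ⁻¹' V) (D.map q ⁻¹' V') (V.2.preimage (D.map _).continuous)
    (V'.2.preimage (D.map _).continuous)
    ⟨c.π.app j x, trivial, show D.map p (c.π.app j x) ∈ V by rwa [π_apply]⟩
    ⟨c.π.app j y, trivial, show D.map q (c.π.app j y) ∈ V' by rwa [π_apply]⟩
  rw [Set.univ_inter] at hO
  obtain ⟨_, ⟨hw, hw'⟩, w, rfl⟩ := dense_iff_inter_open.mp (c.π.app j).denseRange _
    ((V.2.preimage (D.map p).continuous).inter (V'.2.preimage (D.map q).continuous)) hO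
  refine ⟨w, trivial, hVU ?_, hVU' ?_⟩
  · show c.π.app a w ∈ (V : Set (D.obj a))
    rw [← π_apply c p]; exact hw
  · show c.π.app b w ∈ (V' : Set (D.obj b))
    rw [← π_apply c q]; exact hw'

/-- Preconnectedness of a limit with dominant transition maps. -/
theorem connectedSpace_of_stages (hc : IsLimit c) (i₀ : I) [CompactSpace (D.obj i₀)]
    (hd : ∀ (j k : I) (φ : j ⟶ k) (_ : k ⟶ i₀), IsDominant (D.map φ))
    (h : ∀ (j : I) (_ : j ⟶ i₀), ConnectedSpace (D.obj j)) : ConnectedSpace c.pt := by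
  have hne := nonempty_of_forall hc i₀ fun j φ ↦ (h j φ).toNonempty
  have : IsAffineHom (c.π.app i₀) := isAffineHom_π_app _ _ hc i₀
  have : CompactSpace c.pt := QuasiCompact.compactSpace_of_compactSpace (c.π.app i₀)
  refine connectedSpace_iff_univ.mpr ⟨Set.univ_nonempty, ?_⟩
  rintro U U' hU hU' hcov ⟨x, -, hx⟩ ⟨y, -, hy⟩
  by_contra hne'
  rw [Set.univ_inter, Set.not_nonempty_iff_eq_empty] at hne'
  have hclU : IsClopen U := by
    refine ⟨⟨?_⟩, hU⟩
    have : Uᶜ = U' := by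
      ext z
      exact ⟨fun hz ↦ (hcov (Set.mem_univ z)).resolve_left hz,
        fun hz hz' ↦ Set.eq_empty_iff_forall_notMem.mp hne' z ⟨hz', hz⟩⟩
    rw [this]; exact hU'
  obtain ⟨j, φ, V, V', hV, hV', e, e'⟩ := exists_open_preimage₂ hc i₀ hclU.isOpen
    hclU.isClosed.isCompact hclU.compl.isOpen hclU.compl.isClosed.isCompact
  have : CompactSpace (D.obj j) := QuasiCompact.compactSpace_of_compactSpace (D.map φ)
  obtain ⟨k, ψ, hk⟩ := exists_map_preimage_le_map_preimage D c hc (U := ⊤) (V := V ⊔ V')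
    isCompact_univ (fun x _ ↦ by
      show x ∈ c.π.app j ⁻¹' ((V : Set (D.obj j)) ∪ V')
      rw [Set.preimage_union, e, e', Set.union_compl_self]
      trivial)
  have := h k (ψ ≫ φ)
  have : IsDominant (c.π.app k) := isDominant_π hc k fun l χ ↦ hd l k χ (ψ ≫ φ)
  rw [← e] at hx
  have hy' : y ∈ c.π.app j ⁻¹' V' := by
    rw [e']
    exact fun hyU ↦ Set.eq_empty_iff_forall_notMem.mp hne' y ⟨hyU, hy⟩
  obtain ⟨z, -, hz⟩ := (isConnected_univ (α := D.obj k)).isPreconnected (D.map ψ ⁻¹' V)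
    (D.map ψ ⁻¹' V') (V.2.preimage (D.map ψ).continuous) (V'.2.preimage (D.map ψ).continuous)
    (fun z _ ↦ hk (show z ∈ D.map ψ ⁻¹ᵁ (⊤ : (D.obj j).Opens) from trivial))
    ⟨c.π.app k x, trivial, show D.map ψ (c.π.app k x) ∈ V by rw [π_apply]; exact hx⟩
    ⟨c.π.app k y, trivial, show D.map ψ (c.π.app k y) ∈ V' by rw [π_apply]; exact hy'⟩
  have hempty : c.π.app k ⁻¹' (D.map ψ ⁻¹' ((V : Set (D.obj j)) ∩ V')) = ∅ := by
    rw [preimage_π, Set.preimage_inter, e, e', Set.inter_compl_self]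
  exact Set.eq_empty_iff_forall_notMem.mp (eq_empty_of_preimage_eq_empty (c.π.app k)
    ((V.2.inter V'.2).preimage (D.map ψ).continuous) hempty) z hz

end Groth.Agent.LimTop
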