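import Groth.Agent.LimTop.FlatLim
import Groth.Agent.LimTop.Connected
import Mathlib.AlgebraicGeometry.Properties
import Mathlib.RingTheory.Flat.FaithfullyFlat.Algebra

/-!
Reducedness along limits.
-/

universe u

open CategoryTheory AlgebraicGeometry Limits Topology TopologicalSpace Opposite

namespace Groth.Agent.LimTop

/-- Reducedness descends along flat surjective morphisms. -/
theorem isReduced_of_flat_surjective {X Y : Scheme.{u}} (f : X ⟶ Y) [Flat f] [Surjective f]
    [IsReduced X] : IsReduced Y := by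
  have : ∀ y : Y, _root_.IsReduced (Y.presheaf.stalk y) := by
    intro y
    obtain ⟨x, rfl⟩ := f.surjective y
    have hinj : Function.Injective (f.stalkMap x).hom := by
      have hloc : IsLocalHom (f.stalkMap x).hom := inferInstance
      have hfl := Flat.stalkMap f x
      algebraize [(f.stalkMap x).hom]
      have : IsLocalHom (algebraMap (Y.presheaf.stalk (f x)) (X.presheaf.stalk x)) := hloc
      have : Module.FaithfullyFlat (Y.presheaf.stalk (f x)) (X.presheaf.stalk x) :=
        Module.FaithfullyFlat.of_flat_of_isLocalHom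
      exact FaithfulSMul.algebraMap_injective _ _
    exact isReduced_of_injective _ hinj
  exact isReduced_of_isReduced_stalk Y

variable {I : Type u} [SmallCategory I] [IsCofiltered I] {D : I ⥤ Scheme.{u}} {c : Cone D}
variable [∀ (i j : I) (f : i ⟶ j), IsAffineHom (D.map f)]

/-- If the limit is not reduced then eventually no stage is reduced. -/
theorem exists_not_isReduced (hc : IsLimit c) (i₀ : I) (h : ¬ IsReduced c.pt) :
    ∃ (i : I) (_ : i ⟶ i₀), ∀ (j : I) (_ : j ⟶ i), ¬ IsReduced (D.obj j) := by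
  classical
  obtain ⟨U, hU, hred⟩ : ∃ U : (D.obj i₀).Opens, IsAffineOpen U ∧
      ¬ IsReduced (c.π.app i₀ ⁻¹ᵁ U).toScheme := by
    by_contra! hcon
    refine h ((IsReduced.iff_of_openCover _ (c.pt.openCoverOfIsOpenCover
      (fun U : (D.obj i₀).affineOpens ↦ c.π.app i₀ ⁻¹ᵁ (U : (D.obj i₀).Opens))
      (TopologicalSpace.IsOpenCover.comap ((D.obj i₀).isBasis_affineOpens.isOpenCover)
        (c.π.app i₀).base.hom))).mpr fun U ↦ hcon U.1 U.2)
  have haff (j : Over i₀) : IsAffine ((opensDiagram D i₀ U).obj j) := hU.preimage _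
  have (j : (Over i₀)ᵒᵖ) : IsAffine ((opensDiagram D i₀ U).op.obj j).unop := haff _
  have : IsAffine (opensCone D c i₀ U).pt :=
    Scheme.isAffine_of_isLimit _ (isLimitOpensCone D c hc i₀ U)
  have hcol := isColimitOfPreserves Scheme.Γ (isLimitOpensCone D c hc i₀ U).op
  have hF := isColimitOfPreserves (forget CommRingCat.{u}) hcol
  have hnr : ¬ _root_.IsReduced Γ((opensCone D c i₀ U).pt, ⊤) := fun hr ↦
    hred (isReduced_of_isAffine_isReduced (X := (opensCone D c i₀ U).pt))
  obtain ⟨x, ⟨n, hn⟩, hx0⟩ :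
      ∃ x : Γ((opensCone D c i₀ U).pt, ⊤), IsNilpotent x ∧ x ≠ 0 := by
    by_contra! hcon
    exact hnr ⟨hcon⟩
  obtain ⟨a, y', hy⟩ := Types.jointly_surjective_of_isColimit hF x
  let y : Γ((opensDiagram D i₀ U).obj a.unop, ⊤) := y'
  have hy' : ((opensCone D c i₀ U).π.app a.unop).appTop y = x := hy
  have hpow : ((opensCone D c i₀ U).π.app a.unop).appTop (y ^ n) = 0 := by
    rw [map_pow, hy', hn]
  obtain ⟨b, p, q, e⟩ := (Types.FilteredColimit.isColimit_eq_iff _ hF
    (xi := (show (((opensDiagram D i₀ U).op ⋙ Scheme.Γ) ⋙ forget CommRingCat.{u}).obj a from y ^ n))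
    (xj := (show (((opensDiagram D i₀ U).op ⋙ Scheme.Γ) ⋙ forget CommRingCat.{u}).obj a from
      (0 : Γ((opensDiagram D i₀ U).obj a.unop, ⊤))))).mp
    (show ((opensCone D c i₀ U).π.app a.unop).appTop (y ^ n) =
      ((opensCone D c i₀ U).π.app a.unop).appTop 0 by rw [hpow, map_zero])
  have e' : ((opensDiagram D i₀ U).map p.unop).appTop (y ^ n) =
      ((opensDiagram D i₀ U).map q.unop).appTop 0 := e
  rw [map_zero, map_pow] at e'
  refine ⟨b.unop.left, b.unop.hom, fun j ψ hj ↦ ?_⟩
  let J : Over i₀ := Over.mk (ψ ≫ b.unop.hom)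
  let r : J ⟶ b.unop := Over.homMk ψ
  have : IsReduced ((opensDiagram D i₀ U).obj J) :=
    @isReduced_of_isOpenImmersion _ _ (Scheme.Opens.ι (D.map (ψ ≫ b.unop.hom) ⁻¹ᵁ U))
      (inferInstanceAs (IsOpenImmersion (Scheme.Opens.ι _))) hj
  have hzero : ((opensDiagram D i₀ U).map r).appTop (((opensDiagram D i₀ U).map p.unop).appTop y) = 0 :=
    IsReduced.eq_zero _ ⟨n, by rw [← map_pow, e', map_zero]⟩
  apply hx0
  rw [← hy', ← (opensCone D c i₀ U).w p.unop, ← (opensCone D c i₀ U).w r, Scheme.Hom.comp_appTop,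
    Scheme.Hom.comp_appTop, CommRingCat.comp_apply, CommRingCat.comp_apply, hzero, map_zero]

end Groth.Agent.LimTop
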