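import Groth.Agent.QCoh.Pullback
import Groth.Agent.PullStalk.Exact
import Groth.Agent.PullStalk.Basic
import Mathlib.RingTheory.Localization.BaseChange
import Mathlib.RingTheory.LocalProperties.Exactness

/-!
# Sections of pullbacks of quasi-coherent modules over affine opens

`unitSec g M h : Γ(M, U) →+ Γ(g^* M, W)` for `W ≤ g⁻¹ U` is the canonical map; for affine `U`, `W` and
quasi-coherent `M` it exhibits `Γ(g^* M, W)` as the base change of `Γ(M, U)` (`isBaseChange_unitSec`).
-/

universe u

open CategoryTheory Limits AlgebraicGeometry Opposite TopologicalSpace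
open scoped TensorProduct

namespace Groth.Agent.LimTop

open Groth.Agent.PullStalk.Sky Groth.Agent.PullStalk Groth.Agent.QCoh

variable {X Y Z : Scheme.{u}}

/-- The canonical map on sections to a pullback. -/
noncomputable def unitSec (g : X ⟶ Y) (M : Y.Modules) {U : Y.Opens} {W : X.Opens}
    (h : W ≤ g ⁻¹ᵁ U) : Γ(M, U) →+ Γ((Scheme.Modules.pullback g).obj M, W) :=
  (res ((Scheme.Modules.pullback g).obj M) h).hom.comp
    (((Scheme.Modules.pullbackPushforwardAdjunction g).unit.app M).app U).hom

variable (g : X ⟶ Y) (M : Y.Modules) {U : Y.Opens} {W : X.Opens} (h : W ≤ g ⁻¹ᵁ U)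

lemma unitSec_apply (m : Γ(M, U)) :
    unitSec g M h m = res ((Scheme.Modules.pullback g).obj M) h
      (((Scheme.Modules.pullbackPushforwardAdjunction g).unit.app M).app U m) := rfl

lemma unitSec_smul (r : Γ(Y, U)) (m : Γ(M, U)) :
    unitSec g M h (r • m) = g.appLE U W h r • unitSec g M h m := by
  rw [unitSec_apply, Scheme.Modules.Hom.app_smul]
  exact res_smul _ h (g.app U r) _

lemma res_unitSec {W' : X.Opens} (h' : W' ≤ W) (m : Γ(M, U)) :
    res _ h' (unitSec g M h m) = unitSec g M (h'.trans h) m :=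
  res_res _ _ _ _

lemma unitSec_res {U' : Y.Opens} (hU : U' ≤ U) {W' : X.Opens} (h' : W' ≤ g ⁻¹ᵁ U') (m : Γ(M, U)) :
    unitSec g M h' (res M hU m) = unitSec g M (h'.trans (g.preimage_mono hU)) m := by
  refine (congrArg (res ((Scheme.Modules.pullback g).obj M) h')
    (app_res ((Scheme.Modules.pullbackPushforwardAdjunction g).unit.app M) hU m)).trans ?_
  exact res_res ((Scheme.Modules.pullback g).obj M) (g.preimage_mono hU) h' _

lemma unitSec_map {N : Y.Modules} (φ : M ⟶ N) (m : Γ(M, U)) :
    ((Scheme.Modules.pullback g).map φ).app W (unitSec g M h m) = unitSec g N h (φ.app U m) := by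
  rw [unitSec_apply, app_res]
  exact congrArg (res _ h) (congr(Scheme.Modules.Hom.app
    $((Scheme.Modules.pullbackPushforwardAdjunction g).unit.naturality φ) U m)).symm

lemma unitSec_congr {g' : X ⟶ Y} (e : g = g') (m : Γ(M, U)) :
    ((Scheme.Modules.pullbackCongr e).hom.app M).app W (unitSec g M h m) =
      unitSec g' M (e ▸ h) m := by
  subst e; rfl

lemma unitSec_comp (p : Z ⟶ X) {V : Z.Opens} (h' : V ≤ p ⁻¹ᵁ W) (m : Γ(M, U)) :
    ((Scheme.Modules.pullbackComp p g).hom.app M).app V
        (unitSec p ((Scheme.Modules.pullback g).obj M) h' (unitSec g M h m)) =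
      unitSec (p ≫ g) M (h'.trans (p.preimage_mono h)) m := by
  have hu := unit_conjugateEquiv ((Scheme.Modules.pullbackPushforwardAdjunction g).comp
      (Scheme.Modules.pullbackPushforwardAdjunction p))
    (Scheme.Modules.pullbackPushforwardAdjunction (p ≫ g)) (Scheme.Modules.pullbackComp p g).inv M
  rw [Scheme.Modules.conjugateEquiv_pullbackComp_inv] at hu
  have key : ((Scheme.Modules.pullbackComp p g).inv.app M).app V
      (unitSec (p ≫ g) M (h'.trans (p.preimage_mono h)) m) =
      unitSec p ((Scheme.Modules.pullback g).obj M) h' (unitSec g M h m) := by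
    rw [unitSec_apply (g := p ≫ g), app_res, unitSec_apply g M h, unitSec_res, unitSec_apply]
    exact congrArg (res _ _) congr(Scheme.Modules.Hom.app $hu.symm U m)
  rw [← key, ← ConcreteCategory.comp_apply, ← Scheme.Modules.Hom.comp_app, ← NatTrans.comp_app,
    Iso.inv_hom_id]
  rfl

lemma germ_unitSec {x : X} (hx : x ∈ W) (m : Γ(M, U)) :
    germM ((Scheme.Modules.pullback g).obj M) W x hx (unitSec g M h m) =
      Basic.unitStalkHom g M x (germM M U (g x) (h hx) m) := by
  rw [Basic.unitStalkHom_germ]
  exact ((Scheme.Modules.pullback g).obj M).presheaf.germ_res_apply (homOfLE h) x hx _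

/-- The stalk as a module over sections of the structure sheaf. -/
noncomputable abbrev stalkModule (N : X.Modules) {x : X} (hx : x ∈ W) :
    Module Γ(X, W) (N.presheaf.stalk x) :=
  Module.compHom _ (X.presheaf.germ W x hx).hom

/-- The germ map, linear over sections of the structure sheaf. -/
noncomputable def germLin (N : X.Modules) {x : X} (hx : x ∈ W) :
    letI := stalkModule N hx
    Γ(N, W) →ₗ[Γ(X, W)] N.presheaf.stalk x :=
  letI := stalkModule N hx
  { toFun := germM N W x hx
    map_add' := map_add (N.presheaf.germ W x hx).hom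
    map_smul' := germM_smul N W x hx }

/-- Stalks of quasi-coherent modules are localizations of sections over affine opens. -/
theorem isLocalizedModule_germLin (N : X.Modules) [N.IsQuasicoherent] (hW : IsAffineOpen W) {x : X}
    (hx : x ∈ W) :
    letI := stalkModule N hx
    IsLocalizedModule.AtPrime (hW.primeIdealOf ⟨x, hx⟩).asIdeal (germLin N hx) := by
  letI := stalkModule N hx
  letI := TopCat.Presheaf.algebra_section_stalk X.presheaf ⟨x, hx⟩
  have hloc := hW.isLocalization_stalk ⟨x, hx⟩
  refine ⟨?_, fun t => ?_, fun {m m'} e => ?_⟩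
  · intro s
    have hu : IsUnit (X.presheaf.germ W x hx s.1) := IsLocalization.map_units (X.presheaf.stalk x) s
    rw [Module.End.isUnit_iff]
    constructor
    · intro a b (hab : X.presheaf.germ W x hx s.1 • a = X.presheaf.germ W x hx s.1 • b)
      exact hu.smul_left_cancel.mp hab
    · intro a
      obtain ⟨v, hv⟩ := hu
      refine ⟨(↑v⁻¹ : X.presheaf.stalk x) • a, ?_⟩
      show X.presheaf.germ W x hx s.1 • (↑v⁻¹ : X.presheaf.stalk x) • a = a
      rw [← hv, smul_smul, v.mul_inv, one_smul]
  · obtain ⟨V, hxV, m, rfl⟩ := exists_germM_eq N x t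
    obtain ⟨r, hrle, hxr⟩ := hW.exists_basicOpen_le ⟨x, hxV⟩ hx
    obtain ⟨n, m', hm'⟩ := (isLocalizingAt N hW r).surj (res N hrle m)
    have hr : r ∈ (hW.primeIdealOf ⟨x, hx⟩).asIdeal.primeCompl := by
      refine (IsLocalization.AtPrime.isUnit_to_map_iff (X.presheaf.stalk x)
        (hW.primeIdealOf ⟨x, hx⟩).asIdeal r).mp ?_
      exact (X.mem_basicOpen r x hx).mp hxr
    refine ⟨⟨m', ⟨r ^ n, pow_mem hr n⟩⟩, ?_⟩
    show X.presheaf.germ W x hx (r ^ n) • germM N V x hxV m = germM N W x hx m'
    have e1 : germM N (X.basicOpen r) x hxr (res N (X.basicOpen_le r) m') = germM N W x hx m' :=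
      N.presheaf.germ_res_apply _ x hxr m'
    have e2 : germM N (X.basicOpen r) x hxr (res N hrle m) = germM N V x hxV m :=
      N.presheaf.germ_res_apply _ x hxr m
    rw [← e1, ← e2, hm', germM_smul, map_pow, map_pow, X.presheaf.germ_res_apply]
  · obtain ⟨V, hxV, i₁, i₂, eV⟩ := N.presheaf.germ_eq x hx hx m m' e
    obtain ⟨r, hrle, hxr⟩ := hW.exists_basicOpen_le ⟨x, hxV⟩ hx
    have hr : r ∈ (hW.primeIdealOf ⟨x, hx⟩).asIdeal.primeCompl := by
      refine (IsLocalization.AtPrime.isUnit_to_map_iff (X.presheaf.stalk x)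
        (hW.primeIdealOf ⟨x, hx⟩).asIdeal r).mp ?_
      exact (X.mem_basicOpen r x hx).mp hxr
    obtain ⟨n, hn⟩ := (isLocalizingAt N hW r).eq_zero (m - m') (by
      have h2 := congrArg (res N hrle) (show res N (leOfHom i₁) m = res N (leOfHom i₂) m' from eV)
      rw [res_res, res_res] at h2
      rw [map_sub]
      exact sub_eq_zero.mpr h2)
    refine ⟨⟨r ^ n, pow_mem hr n⟩, ?_⟩
    rwa [smul_sub, sub_eq_zero] at hn

/-- `unitSec` as a semilinear map, for the algebra structure given by `appLE`. -/
noncomputable abbrev secModule : Module Γ(Y, U) Γ((Scheme.Modules.pullback g).obj M, W) :=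
  Module.compHom _ (g.appLE U W h).hom

/-- `unitSec`, linear over the sections of the base. -/
noncomputable def unitSecLin :
    letI := secModule g M h
    Γ(M, U) →ₗ[Γ(Y, U)] Γ((Scheme.Modules.pullback g).obj M, W) :=
  letI := secModule g M h
  { toFun := unitSec g M h
    map_add' := map_add _
    map_smul' := unitSec_smul g M h }

/-- Sections of the pullback of a quasi-coherent module over affine opens are the base change. -/
theorem isBaseChange_unitSec [M.IsQuasicoherent] (hU : IsAffineOpen U) (hW : IsAffineOpen W) :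
    letI := (g.appLE U W h).hom.toAlgebra
    letI := secModule g M h
    haveI : IsScalarTower Γ(Y, U) Γ(X, W) Γ((Scheme.Modules.pullback g).obj M, W) :=
      IsScalarTower.of_algebraMap_smul fun _ _ => rfl
    IsBaseChange Γ(X, W) (unitSecLin g M h) := by
  let N := (Scheme.Modules.pullback g).obj M
  letI := (g.appLE U W h).hom.toAlgebra
  letI := secModule g M h
  haveI hBN : IsScalarTower Γ(Y, U) Γ(X, W) Γ(N, W) :=
    IsScalarTower.of_algebraMap_smul fun _ _ => rfl
  let θ : Γ(X, W) ⊗[Γ(Y, U)] Γ(M, U) →ₗ[Γ(X, W)] Γ(N, W) := (unitSecLin g M h).liftBaseChange _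
  have key : ∀ (x : X) (hx : x ∈ W),
      letI := stalkModule N hx
      IsLocalizedModule.AtPrime (hW.primeIdealOf ⟨x, hx⟩).asIdeal ((germLin N hx).comp θ) := by
    intro x hx
    letI : Algebra Γ(Y, U) (Y.presheaf.stalk (g x)) :=
      (Y.presheaf.germ U (g x) (h hx)).hom.toAlgebra
    letI : Algebra Γ(X, W) (X.presheaf.stalk x) := (X.presheaf.germ W x hx).hom.toAlgebra
    letI : Algebra (Y.presheaf.stalk (g x)) (X.presheaf.stalk x) := (g.stalkMap x).hom.toAlgebra
    letI : Algebra Γ(Y, U) (X.presheaf.stalk x) :=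
      ((X.presheaf.germ W x hx).hom.comp (g.appLE U W h).hom).toAlgebra
    haveI : IsScalarTower Γ(Y, U) Γ(X, W) (X.presheaf.stalk x) :=
      IsScalarTower.of_algebraMap_eq fun _ => rfl
    haveI : IsScalarTower Γ(Y, U) (Y.presheaf.stalk (g x)) (X.presheaf.stalk x) :=
      IsScalarTower.of_algebraMap_eq fun r => by
        show X.presheaf.germ W x hx (g.appLE U W h r) =
          g.stalkMap x (Y.presheaf.germ U (g x) (h hx) r)
        rw [Scheme.Hom.germ_stalkMap_apply, Scheme.Hom.appLE, CommRingCat.comp_apply]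
        exact X.presheaf.germ_res_apply (homOfLE h) x hx _
    letI := stalkModule N hx
    letI : Module Γ(Y, U) (M.presheaf.stalk (g x)) := stalkModule M (h hx)
    letI : Module Γ(Y, U) (N.presheaf.stalk x) :=
      Module.compHom _ ((X.presheaf.germ W x hx).hom.comp (g.appLE U W h).hom)
    letI : Module (Y.presheaf.stalk (g x)) (N.presheaf.stalk x) := Basic.moduleOver g M x
    haveI : IsScalarTower Γ(Y, U) (Y.presheaf.stalk (g x)) (M.presheaf.stalk (g x)) :=
      IsScalarTower.of_algebraMap_smul fun _ _ => rfl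
    haveI : IsScalarTower Γ(X, W) (X.presheaf.stalk x) (N.presheaf.stalk x) :=
      IsScalarTower.of_algebraMap_smul fun _ _ => rfl
    haveI : IsScalarTower (Y.presheaf.stalk (g x)) (X.presheaf.stalk x) (N.presheaf.stalk x) :=
      IsScalarTower.of_algebraMap_smul fun _ _ => rfl
    haveI : IsScalarTower Γ(Y, U) (X.presheaf.stalk x) (N.presheaf.stalk x) :=
      IsScalarTower.of_algebraMap_smul fun _ _ => rfl
    haveI : IsScalarTower Γ(Y, U) Γ(X, W) (N.presheaf.stalk x) :=
      IsScalarTower.of_algebraMap_smul fun _ _ => rfl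
    haveI : IsScalarTower Γ(Y, U) (Y.presheaf.stalk (g x)) (N.presheaf.stalk x) :=
      IsScalarTower.of_algebraMap_smul fun r t => by
        show g.stalkMap x (Y.presheaf.germ U (g x) (h hx) r) • t =
          X.presheaf.germ W x hx (g.appLE U W h r) • t
        congr 1
        exact (IsScalarTower.algebraMap_apply Γ(Y, U) (Y.presheaf.stalk (g x))
          (X.presheaf.stalk x) r).symm
    haveI := hU.isLocalization_stalk ⟨g x, h hx⟩
    haveI := hW.isLocalization_stalk ⟨x, hx⟩
    have h1 : IsBaseChange (Y.presheaf.stalk (g x)) (germLin M (h hx)) :=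
      (isLocalizedModule_iff_isBaseChange (hU.primeIdealOf ⟨g x, h hx⟩).asIdeal.primeCompl _ _).mp
        (isLocalizedModule_germLin M hU (h hx))
    have h2 := h1.comp (Basic.isBaseChange_unitStalk g M x)
    refine (isLocalizedModule_iff_isBaseChange (hW.primeIdealOf ⟨x, hx⟩).asIdeal.primeCompl
      (X.presheaf.stalk x) _).mpr ?_
    refine IsBaseChange.of_comp (TensorProduct.isBaseChange Γ(Y, U) Γ(M, U) Γ(X, W)) ?_
    convert h2 using 1
    refine LinearMap.ext fun m => ?_
    show germM N W x hx (θ (1 ⊗ₜ m)) = Basic.unitStalkHom g M x (germM M U (g x) (h hx) m)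
    simp only [θ, LinearMap.liftBaseChange_tmul, one_smul]
    exact germ_unitSec g M h hx m
  have hpt : ∀ P : Ideal Γ(X, W), P.IsMaximal → ∃ x : W, (hW.primeIdealOf x).asIdeal = P := by
    intro P hP
    have hm : hW.fromSpec ⟨P, hP.isPrime⟩ ∈ W := hW.range_fromSpec.le ⟨_, rfl⟩
    refine ⟨⟨_, hm⟩, congrArg PrimeSpectrum.asIdeal
      (hW.fromSpec.isOpenEmbedding.injective (hW.fromSpec_primeIdealOf ⟨_, hm⟩))⟩
  choose pt hpt using hpt
  have hbij : Function.Bijective θ := by
    letI (P : Ideal Γ(X, W)) [hP : P.IsMaximal] :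
        Module Γ(X, W) (N.presheaf.stalk (pt P hP).1) := stalkModule N (pt P hP).2
    haveI (P : Ideal Γ(X, W)) [hP : P.IsMaximal] :
        IsLocalizedModule.AtPrime P ((germLin N (pt P hP).2).comp θ) := by
      convert key _ (pt P hP).2
      exact (hpt P hP).symm
    haveI (P : Ideal Γ(X, W)) [hP : P.IsMaximal] :
        IsLocalizedModule.AtPrime P (germLin N (pt P hP).2) := by
      convert isLocalizedModule_germLin N hW (pt P hP).2
      exact (hpt P hP).symm
    refine bijective_of_isLocalized_maximal (fun P hP => N.presheaf.stalk (pt P hP).1)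
      (fun P hP => (germLin N (pt P hP).2).comp θ) (fun P hP => N.presheaf.stalk (pt P hP).1)
      (fun P hP => germLin N (pt P hP).2) θ fun P hP => ?_
    have e : IsLocalizedModule.map P.primeCompl ((germLin N (pt P hP).2).comp θ)
        (germLin N (pt P hP).2) θ = LinearMap.id := by
      refine IsLocalizedModule.linearMap_ext P.primeCompl ((germLin N (pt P hP).2).comp θ)
        ((germLin N (pt P hP).2).comp θ) (LinearMap.ext fun y => ?_)
      exact IsLocalizedModule.map_apply _ _ _ _ _
    rw [e]
    exact Function.bijective_id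
  exact IsBaseChange.of_equiv (LinearEquiv.ofBijective θ hbij) fun m => by
    simp [θ]

end Groth.Agent.LimTop
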