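import Groth.Agent.LimTop.ModDescend
import Groth.Agent.Props.QApproxMain

/-!
# Descent of finitely presented modules along limits of schemes

A finitely presented module on the limit is the cokernel of a map between pullbacks of finitely
presented modules on the base stage; that map descends.
-/

universe u

open CategoryTheory Limits AlgebraicGeometry Opposite TopologicalSpace

namespace Groth.Agent.LimTop

open Groth.Agent.QCoh Groth.Agent.Props

variable {X Z : Scheme.{u}}

theorem isFT_of_finOn (M : X.Modules) [M.IsQuasicoherent] (h : FinOn M ⊤) : CohB1.IsFT M :=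
  isFiniteType_of_forall_exists M fun x => by
    obtain ⟨U, hU, hxU, -, hf⟩ := h x trivial
    exact ⟨U, hU, hxU, hf⟩

lemma fpOn_bot (M : X.Modules) : QApprox.FPOn M ⊥ := fun V _ hle => by
  have hV0 : V = ⊥ := le_bot_iff.mp hle
  subst hV0
  have : Subsingleton Γ(X, (⊥ : X.Opens)) :=
    CommRingCat.subsingleton_of_isTerminal (X.sheaf.isTerminalOfEqEmpty rfl)
  have : Subsingleton Γ(M, (⊥ : X.Opens)) := Module.subsingleton Γ(X, (⊥ : X.Opens)) _
  exact Module.finitePresentation_of_projective _ _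

/-- Finitely many sections over affine opens are hit by one finitely presented module. -/
theorem exists_fp_hitting [CompactSpace X] [QuasiSeparatedSpace X] (M : X.Modules)
    [M.IsQuasicoherent] {ι : Type*} [Finite ι] (W : ι → X.Opens) (hW : ∀ i, IsAffineOpen (W i))
    (s : ∀ i, Γ(M, W i)) :
    ∃ (P : X.Modules) (ψ : P ⟶ M), P.IsQuasicoherent ∧ QApprox.FPOn P ⊤ ∧
      ∀ i, s i ∈ Set.range (ψ.app (W i)) := by
  classical
  suffices H : ∀ τ : Finset ι, ∃ (P : X.Modules) (ψ : P ⟶ M), P.IsQuasicoherent ∧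
      QApprox.FPOn P ⊤ ∧ ∀ i ∈ τ, s i ∈ Set.range (ψ.app (W i)) by
    have := Fintype.ofFinite ι
    obtain ⟨P, ψ, hP, hfp, hs⟩ := H Finset.univ
    exact ⟨P, ψ, hP, hfp, fun i => hs i (Finset.mem_univ i)⟩
  intro τ
  induction τ using Finset.induction with
  | empty =>
    obtain ⟨G, θ, hG, hfp, -⟩ := QApproxMain.exists_fp_isoOn M (U := ⊥) (by simp) (fpOn_bot M)
    exact ⟨G, θ, hG, hfp, by simp⟩
  | insert a τ _ ih =>
    obtain ⟨P, ψ, hP, hfp, hs⟩ := ih
    obtain ⟨S, hS, y, hy⟩ := SubExt.exists_sub_through_section M (W a) (hW a) (s a)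
    have := SubSheaf.isQuasicoherent_sub hS
    obtain ⟨Q, θ, hQ, hQfp, hθ, -⟩ := QApproxMain.exists_fp_epi (SubSheaf.sub S)
      (SubSheaf.isFiniteType_sub hS) (U := ⊥) (by simp) (fpOn_bot _)
    refine ⟨P ⊞ Q, biprod.desc ψ (θ ≫ SubSheaf.incl S), SubExt.isQuasicoherent_biprod P Q,
      QApproxMain.fpOn_biprod hfp hQfp, fun i hi => ?_⟩
    rcases Finset.mem_insert.mp hi with rfl | hi
    · obtain ⟨q, rfl⟩ := app_surjective_of_epi θ (hW i) y
      refine ⟨(biprod.inr : Q ⟶ P ⊞ Q).app (W i) q, ?_⟩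
      rw [← hy, ← ConcreteCategory.comp_apply, ← Scheme.Modules.Hom.comp_app, biprod.inr_desc]
      rfl
    · obtain ⟨p, hp⟩ := hs i hi
      refine ⟨(biprod.inl : P ⟶ P ⊞ Q).app (W i) p, ?_⟩
      rw [← ConcreteCategory.comp_apply, ← Scheme.Modules.Hom.comp_app, biprod.inl_desc, hp]

/-- A finite type module over a scheme affine over a qcqs one is a quotient of the pullback of a
finitely presented module. -/
theorem exists_fp_epi_pullback [CompactSpace X] [QuasiSeparatedSpace X] (g : Z ⟶ X)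
    [IsAffineHom g] (F : Z.Modules) [F.IsQuasicoherent] (hF : FinOn F ⊤) :
    ∃ (P : X.Modules) (q : (Scheme.Modules.pullback g).obj P ⟶ F),
      P.IsQuasicoherent ∧ CohB1.IsFP P ∧ Epi q := by
  classical
  have hFT := isFT_of_finOn F hF
  have hM : ((Scheme.Modules.pushforward g).obj F).IsQuasicoherent :=
    isQuasicoherent_pushforward g F
  obtain ⟨σ, hσ⟩ := QApproxMain.exists_affine_finite_cover X
  choose n t ht using fun W : σ =>
    (show Module.Finite Γ(Z, g ⁻¹ᵁ W.1.1) Γ(F, g ⁻¹ᵁ W.1.1) from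
      finite_sections_of_isFiniteType F (W.1.2.preimage g)).exists_fin
  obtain ⟨P, ψ, hP, hfp, hs⟩ := exists_fp_hitting ((Scheme.Modules.pushforward g).obj F)
    (fun i : (W : σ) × Fin (n W) => i.1.1.1) (fun i => i.1.1.2) (fun i => t i.1 i.2)
  let adj := Scheme.Modules.pullbackPushforwardAdjunction g
  let q : (Scheme.Modules.pullback g).obj P ⟶ F := (adj.homEquiv _ _).symm ψ
  have hq : adj.unit.app P ≫ (Scheme.Modules.pushforward g).map q = ψ :=
    (adj.homEquiv_unit _ _ q).symm.trans ((adj.homEquiv _ _).apply_symm_apply ψ)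
  refine ⟨P, q, hP, QApproxMain.isFP_of_fpOn hfp, QApproxMain.epi_of_cover q fun x => ?_⟩
  obtain ⟨W, hWσ, hxW⟩ := hσ (g x)
  refine ⟨g ⁻¹ᵁ W.1, W.2.preimage g, hxW, ?_⟩
  have hr : LinearMap.range (LimTop.appLin q (g ⁻¹ᵁ W.1)) = ⊤ := by
    refine top_le_iff.mp (ht ⟨W, hWσ⟩ ▸ Submodule.span_le.mpr ?_)
    rintro _ ⟨k, rfl⟩
    obtain ⟨p, hp⟩ := hs ⟨⟨W, hWσ⟩, k⟩
    refine ⟨(adj.unit.app P).app W.1 p, ?_⟩
    rw [← hq] at hp
    exact hp
  exact fun y => hr.ge (trivial : y ∈ (⊤ : Submodule Γ(Z, g ⁻¹ᵁ W.1) Γ(F, g ⁻¹ᵁ W.1)))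

section limit

variable {I : Type u} [SmallCategory I] [IsCofiltered I] {D : I ⥤ Scheme.{u}} {c : Cone D}
  (hc : IsLimit c) [∀ (i j : I) (f : i ⟶ j), IsAffineHom (D.map f)] {i₀ : I}

/-- The cokernel of a map into a finitely presented module from one of finite type. -/
theorem isFP_cokernel {A B : X.Modules} [A.IsQuasicoherent] [B.IsQuasicoherent]
    (hA : CohB1.IsFT A) (hB : CohB1.IsFP B) (f : A ⟶ B) : CohB1.IsFP (cokernel f) := by
  have : (cokernel f).IsQuasicoherent := isQuasicoherent_cokernel f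
  refine (QFP.isFP_iff _).mpr fun V hV => ?_
  have := (QFP.isFP_iff B).mp hB V hV
  have := (isFiniteType_iff A).mp hA V hV
  have hs : Function.Surjective (LimTop.appLin (cokernel.π f) V) :=
    app_surjective_of_epi (cokernel.π f) hV
  refine Module.finitePresentation_of_surjective _ hs ?_
  let S := ShortComplex.mk f (cokernel.π f) (cokernel.condition f)
  have hS : S.Exact := S.exact_of_g_is_cokernel (cokernelIsCokernel f)
  obtain ⟨U, hU⟩ : ∃ U : X.Opens, U = V := ⟨V, rfl⟩
  have e : LinearMap.ker (LimTop.appLin (cokernel.π f) V) =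
      LinearMap.range (LimTop.appLin f V) := by
    refine le_antisymm (fun b hb => ?_) ?_
    · let S' := ShortComplex.mk (Abelian.image.ι f) (cokernel.π f) (kernel.condition _)
      have hS' : S'.Exact := ShortComplex.exact_of_f_is_kernel _ (kernelIsKernel _)
      have : (kernel (cokernel.π f)).IsQuasicoherent := isQuasicoherent_kernel _
      obtain ⟨k, hk⟩ := exists_app_eq_of_app_eq_zero S' hS' V b hb
      have : Epi (Abelian.factorThruImage f) := inferInstance
      obtain ⟨a, rfl⟩ := app_surjective_of_epi (Abelian.factorThruImage f) hV k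
      refine ⟨a, Eq.trans ?_ hk⟩
      show f.app V a = _
      conv_lhs => rw [← Abelian.image.fac f]
      rfl
    · rintro _ ⟨a, rfl⟩
      exact app_app_eq_zero S V a
  rw [e]
  exact Module.Finite.iff_fg.mp (Module.Finite.range _)

include hc in
/-- Finitely presented quotients of a pullback descend to a stage. -/
theorem exists_quotient_descend [CompactSpace (D.obj i₀)] [QuasiSeparatedSpace (D.obj i₀)]
    (A : (D.obj i₀).Modules) [A.IsQuasicoherent] (hA : CohB1.IsFP A) (F : c.pt.Modules)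
    [F.IsQuasicoherent] (hF : CohB1.IsFP F)
    (p : (Scheme.Modules.pullback (c.π.app i₀)).obj A ⟶ F) [Epi p] :
    ∃ (j : I) (φ : j ⟶ i₀) (G : (D.obj j).Modules) (_ : G.IsQuasicoherent)
      (pj : (Scheme.Modules.pullback (D.map φ)).obj A ⟶ G)
      (e : (Scheme.Modules.pullback (c.π.app j)).obj G ≅ F),
      CohB1.IsFP G ∧ Epi pj ∧
        ((compIso (c.π.app j) (D.map φ) (c.w φ)).app A).inv ≫
          (Scheme.Modules.pullback (c.π.app j)).map pj ≫ e.hom = p := by
  have : IsAffineHom (c.π.app i₀) := isAffineHom_π_app _ _ hc i₀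
  have hAon := fpOn_of_isFP A hA ⊤
  have : (kernel p).IsQuasicoherent := isQuasicoherent_kernel p
  have hK : FinOn (kernel p) ⊤ :=
    finOn_kernel (hAon.finOn.pullback _ le_top) (fpOn_of_isFP F hF ⊤) p
  obtain ⟨P, q, hP, hPfp, hq⟩ := exists_fp_epi_pullback (c.π.app i₀) (kernel p) hK
  obtain ⟨j, φ, hj, hhj⟩ := exists_hom_descend hc P A (fpOn_of_isFP P hPfp ⊤) (q ≫ kernel.ι p)
  let T := Scheme.Modules.pullback (c.π.app j)
  let cA := (compIso (c.π.app j) (D.map φ) (c.w φ)).app A
  let cP := (compIso (c.π.app j) (D.map φ) (c.w φ)).app P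
  have hTj : T.map hj ≫ cA.hom = cP.hom ≫ q ≫ kernel.ι p := by
    rw [← hhj]
    exact (cP.hom_inv_id_assoc _).symm
  have hw : T.map hj ≫ cA.hom ≫ p = 0 := by
    rw [← Category.assoc, hTj]
    simp
  have hFT : CohB1.IsFT ((Scheme.Modules.pullback (D.map φ)).obj P) :=
    isFT_of_finOn _ ((fpOn_of_isFP P hPfp ⊤).finOn.pullback _ le_top)
  have hfp : CohB1.IsFP ((Scheme.Modules.pullback (D.map φ)).obj A) :=
    isFP_of_fpOn _ (hAon.pullback _ le_top)
  have : (cokernel hj).IsQuasicoherent := isQuasicoherent_cokernel hj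
  let v : T.obj (cokernel hj) ⟶ F :=
    (PreservesCokernel.iso T hj).hom ≫ cokernel.desc (T.map hj) (cA.hom ≫ p) hw
  have hv : T.map (cokernel.π hj) ≫ v = cA.hom ≫ p := by
    rw [PreservesCokernel.π_iso_hom_assoc, cokernel.π_desc]
  let u : F ⟶ T.obj (cokernel hj) :=
    Abelian.epiDesc p (cA.inv ≫ T.map (cokernel.π hj)) (by
      rw [← cancel_epi q, comp_zero]
      have : q ≫ kernel.ι p ≫ cA.inv = cP.inv ≫ T.map hj := by
        rw [← Category.assoc, ← cancel_mono cA.hom]
        simp only [Category.assoc, Iso.inv_hom_id, Category.comp_id]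
        rw [hTj, cP.inv_hom_id_assoc]
      rw [← Category.assoc (kernel.ι p), ← Category.assoc q, this, Category.assoc, ← T.map_comp,
        cokernel.condition, T.map_zero, comp_zero])
  have hu : p ≫ u = cA.inv ≫ T.map (cokernel.π hj) := Abelian.comp_epiDesc _ _ _
  have : Epi (T.map (cokernel.π hj)) := inferInstance
  refine ⟨j, φ, cokernel hj, inferInstance, cokernel.π hj,
    { hom := v
      inv := u
      hom_inv_id := by
        rw [← cancel_epi (T.map (cokernel.π hj)), ← Category.assoc, hv, Category.assoc, hu,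
          cA.hom_inv_id_assoc]
        exact (Category.comp_id _).symm
      inv_hom_id := by
        rw [← cancel_epi p, ← Category.assoc, hu, Category.assoc, hv]
        simp },
    isFP_cokernel hFT hfp hj, inferInstance, ?_⟩
  show cA.inv ≫ T.map (cokernel.π hj) ≫ v = p
  rw [hv, cA.inv_hom_id_assoc]

include hc in
/-- Finitely presented modules on the limit come from a stage. -/
theorem exists_model [CompactSpace (D.obj i₀)] [QuasiSeparatedSpace (D.obj i₀)]
    (F : c.pt.Modules) [F.IsQuasicoherent] (hF : CohB1.IsFP F) :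
    ∃ (j : I) (_ : j ⟶ i₀) (G : (D.obj j).Modules), G.IsQuasicoherent ∧ CohB1.IsFP G ∧
      Nonempty ((Scheme.Modules.pullback (c.π.app j)).obj G ≅ F) := by
  have : IsAffineHom (c.π.app i₀) := isAffineHom_π_app _ _ hc i₀
  obtain ⟨P, q, hP, hPfp, hq⟩ :=
    exists_fp_epi_pullback (c.π.app i₀) F (fpOn_of_isFP F hF ⊤).finOn
  obtain ⟨j, φ, G, hG, -, e, hGfp, -, -⟩ := exists_quotient_descend hc P hPfp F hF q
  exact ⟨j, φ, G, hG, hGfp, ⟨e⟩⟩

end limit

end Groth.Agent.LimTop
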