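import Groth.Agent.LimTop.LocCrit
import Groth.Agent.KFlat.StalkTensor
import Groth.Agent.QCoh.FiniteType

/-!
# Tensor products of quasi-coherent modules
-/

universe u

open CategoryTheory Limits AlgebraicGeometry Opposite TopologicalSpace MonoidalCategory
open scoped TensorProduct

noncomputable section

namespace Groth.Agent.LimTop.TensorQC

open Groth.Agent.PullStalk.Sky Groth.Agent.QCoh Groth.Agent.KFlat.StalkTensor

variable {X : Scheme.{u}} (F G : X.Modules)

/-- The canonical map from the tensor product of sections. -/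
def secMap (U : X.Opens) : Γ(F, U) ⊗[Γ(X, U)] Γ(G, U) →ₗ[Γ(X, U)] Γ(tensM F G, U) :=
  TensorProduct.lift (LinearMap.mk₂ Γ(X, U) (tmulSec U) (tmulSec_add_left U)
    (tmulSec_smul_left U) (tmulSec_add_right U) (tmulSec_smul_right U))

lemma secMap_tmul (U : X.Opens) (m : Γ(F, U)) (n : Γ(G, U)) :
    secMap F G U (m ⊗ₜ n) = tmulSec U m n := rfl

variable [F.IsQuasicoherent] [G.IsQuasicoherent]

/-- The tensor product of sections localizes to the tensor product of stalks. -/
theorem isStalkwiseLoc_secMap {U : X.Opens} (hU : IsAffineOpen U) :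
    IsStalkwiseLoc hU (secMap F G U) := by
  intro x hx
  letI := stalkModule (tensM F G) hx
  letI := stalkModule F hx
  letI := stalkModule G hx
  letI : Algebra Γ(X, U) (X.presheaf.stalk x) := (X.presheaf.germ U x hx).hom.toAlgebra
  haveI : IsScalarTower Γ(X, U) (X.presheaf.stalk x) (F.presheaf.stalk x) :=
    IsScalarTower.of_algebraMap_smul fun _ _ => rfl
  haveI : IsScalarTower Γ(X, U) (X.presheaf.stalk x) (G.presheaf.stalk x) :=
    IsScalarTower.of_algebraMap_smul fun _ _ => rfl
  haveI : IsScalarTower Γ(X, U) (X.presheaf.stalk x) ((tensM F G).presheaf.stalk x) :=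
    IsScalarTower.of_algebraMap_smul fun _ _ => rfl
  haveI := hU.isLocalization_stalk ⟨x, hx⟩
  have hF : IsBaseChange (X.presheaf.stalk x) (germLin F hx) :=
    (isLocalizedModule_iff_isBaseChange (hU.primeIdealOf ⟨x, hx⟩).asIdeal.primeCompl _ _).mp
      (isLocalizedModule_germLin F hU hx)
  have hG : IsBaseChange (X.presheaf.stalk x) (germLin G hx) :=
    (isLocalizedModule_iff_isBaseChange (hU.primeIdealOf ⟨x, hx⟩).asIdeal.primeCompl _ _).mp
      (isLocalizedModule_germLin G hU hx)
  let e := TensorProduct.AlgebraTensorModule.distribBaseChange Γ(X, U) (X.presheaf.stalk x)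
      Γ(F, U) Γ(G, U) ≪≫ₗ TensorProduct.congr hF.equiv hG.equiv ≪≫ₗ (stalkTensorEquiv F G x).symm
  refine (isLocalizedModule_iff_isBaseChange (hU.primeIdealOf ⟨x, hx⟩).asIdeal.primeCompl
    (X.presheaf.stalk x) _).mpr (IsBaseChange.of_equiv e fun t => ?_)
  induction t using TensorProduct.induction_on with
  | zero => rw [TensorProduct.tmul_zero, map_zero, map_zero]
  | tmul m n =>
    show (stalkTensorEquiv F G x).symm (TensorProduct.congr hF.equiv hG.equiv
      (TensorProduct.AlgebraTensorModule.distribBaseChange Γ(X, U) (X.presheaf.stalk x)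
        Γ(F, U) Γ(G, U) ((1 : X.presheaf.stalk x) ⊗ₜ (m ⊗ₜ n)))) = _
    rw [TensorProduct.AlgebraTensorModule.distribBaseChange_tmul, TensorProduct.congr_tmul,
      hF.equiv_tmul, hG.equiv_tmul, one_smul, one_smul]
    exact fromTensor_germ U hx m n
  | add a b ha hb => rw [TensorProduct.tmul_add, map_add, map_add, ha, hb]

theorem isQuasicoherent_tensM : (tensM F G).IsQuasicoherent := by
  rw [isQuasicoherent_iff_forall_isAffineOpen]
  exact fun U hU f => isLocalizingAt_of_stalkwise (isStalkwiseLoc_secMap F G hU) f

theorem isFT_tensM [F.IsFiniteType] [G.IsFiniteType] : (tensM F G).IsFiniteType := by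
  have := isQuasicoherent_tensM F G
  refine (isFiniteType_iff (tensM F G)).mpr fun U hU => ?_
  have := finite_sections_of_isFiniteType F hU
  have := finite_sections_of_isFiniteType G hU
  exact Module.Finite.of_surjective (secMap F G U)
    (surjective_of_stalkwise (isStalkwiseLoc_secMap F G hU))

omit [F.IsQuasicoherent] [G.IsQuasicoherent] in
lemma tensM_eq : CohB1.tensorMod F G = tensM F G := rfl

/-- The stalk of a finite type quasi-coherent module is finite. -/
theorem finite_stalk [F.IsFiniteType] (x : X) :
    Module.Finite (X.presheaf.stalk x) (F.presheaf.stalk x) := by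
  obtain ⟨U, hU, hx, -⟩ := exists_isAffineOpen_mem_and_subset (Opens.mem_top x)
  letI := stalkModule F hx
  letI : Algebra Γ(X, U) (X.presheaf.stalk x) := (X.presheaf.germ U x hx).hom.toAlgebra
  haveI : IsScalarTower Γ(X, U) (X.presheaf.stalk x) (F.presheaf.stalk x) :=
    IsScalarTower.of_algebraMap_smul fun _ _ => rfl
  haveI := hU.isLocalization_stalk ⟨x, hx⟩
  have := finite_sections_of_isFiniteType F hU
  exact Module.Finite.equiv
    ((isLocalizedModule_iff_isBaseChange (hU.primeIdealOf ⟨x, hx⟩).asIdeal.primeCompl _ _).mp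
      (isLocalizedModule_germLin F hU hx)).equiv

omit [F.IsQuasicoherent] [G.IsQuasicoherent] in
open IsLocalRing in
/-- A tensor product of finite modules over a local ring vanishes only if a factor does. -/
theorem subsingleton_tensor {R M N : Type*} [CommRing R] [IsLocalRing R] [AddCommGroup M]
    [Module R M] [AddCommGroup N] [Module R N] [Module.Finite R M] [Module.Finite R N]
    (h : Subsingleton (M ⊗[R] N)) : Subsingleton M ∨ Subsingleton N := by
  by_contra hc
  push Not at hc
  obtain ⟨hM, hN⟩ := hc
  let k := ResidueField R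
  have hM' : Nontrivial (k ⊗[R] M) := not_subsingleton_iff_nontrivial.mp fun h' =>
    not_subsingleton_iff_nontrivial.mpr hM (subsingleton_tensorProduct.mp h')
  have hN' : Nontrivial (k ⊗[R] N) := not_subsingleton_iff_nontrivial.mp fun h' =>
    not_subsingleton_iff_nontrivial.mpr hN (subsingleton_tensorProduct.mp h')
  have h2 : Subsingleton ((k ⊗[R] M) ⊗[k] (k ⊗[R] N)) :=
    (TensorProduct.AlgebraTensorModule.distribBaseChange R k M N).symm.toEquiv.subsingleton
  rw [Module.FaithfullyFlat.subsingleton_tensorProduct_iff_right] at h2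
  exact not_nontrivial_iff_subsingleton.mpr h2 hN'

/-- The support of a tensor product of finite type modules. -/
theorem mem_support_tensM [F.IsFiniteType] [G.IsFiniteType] (x : X) :
    x ∈ CohB1.support (tensM F G) ↔ x ∈ CohB1.support F ∧ x ∈ CohB1.support G := by
  show ¬ Subsingleton _ ↔ ¬ Subsingleton _ ∧ ¬ Subsingleton _
  have := finite_stalk F x
  have := finite_stalk G x
  rw [(stalkTensorEquiv F G x).toEquiv.subsingleton_congr]
  constructor
  · intro h
    exact ⟨fun _ => h inferInstance, fun _ => h inferInstance⟩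
  · rintro ⟨h1, h2⟩ h
    exact (subsingleton_tensor h).elim h1 h2

end Groth.Agent.LimTop.TensorQC
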