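import Groth.Agent.Props.GenTensor
import Groth.Agent.QCoh.Qcqs
import Groth.Prelude.Def_SecTwist

/-!
# Sections of twists by an invertible module: annihilation and extension
-/

universe u

open CategoryTheory Limits AlgebraicGeometry Opposite TopologicalSpace MonoidalCategory
open scoped TensorProduct

noncomputable section

namespace Groth.Agent.LimTop.TwistSec

open Groth.Agent.QCoh Groth.Agent.Props.GenLocus Groth.Agent.Props.GenTensor

variable {X : Scheme.{u}}

lemma tmul_eq (M N : X.Modules) (U : X.Opens) (m : Γ(M, U)) (n : Γ(N, U)) :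
    SecTwist.tmul M N U m n = tmul m n := rfl

lemma pow_eq {L : X.Modules} (s : Coh.structureModule X ⟶ L) (n : ℕ) (U : X.Opens) :
    SecTwist.pow s n U = pw L (sec s U) n := by
  induction n with
  | zero => rfl
  | succ n ih => exact congrArg (fun q => tmul q (sec s U)) ih

lemma tmul_zero_left {M N : X.Modules} {V : X.Opens} (n : Γ(N, V)) :
    tmul (0 : Γ(M, V)) n = 0 := by
  rw [← zero_smul Γ(X, V) (0 : Γ(M, V)), tmul_smul_left, zero_smul]

lemma tmul_sub_left {M N : X.Modules} {V : X.Opens} (a b : Γ(M, V)) (n : Γ(N, V)) :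
    tmul (a - b) n = tmul a n - tmul b n := by
  show (η M N).app (op V) (show (pre M N).obj (op V) from
    ((a - b) ⊗ₜ[Γ(X, V)] n : Γ(M, V) ⊗[Γ(X, V)] Γ(N, V))) = _
  rw [TensorProduct.sub_tmul]
  exact map_sub ((η M N).app (op V)).hom _ _

variable {F P : X.Modules} {U : X.Opens} {g : Γ(P, U)}

lemma exists_tmul_eq (hg : IsGen P U g) {V : X.Opens} (h : V ≤ U)
    (t : Γ(F, V) ⊗[Γ(X, V)] Γ(P, V)) :
    ∃ m : Γ(F, V), t = m ⊗ₜ[Γ(X, V)] res P h g := by
  induction t using TensorProduct.induction_on with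
  | zero => exact ⟨0, (TensorProduct.zero_tmul _ _).symm⟩
  | tmul m n =>
    obtain ⟨b, hb, -⟩ := hg.exists_eq h n
    exact ⟨b • m, by rw [hb, TensorProduct.tmul_smul, TensorProduct.smul_tmul']⟩
  | add x y hx hy =>
    obtain ⟨a, rfl⟩ := hx
    obtain ⟨b, rfl⟩ := hy
    exact ⟨a + b, (TensorProduct.add_tmul _ _ _).symm⟩

lemma eq_zero_of_tmul_eq_zero (hg : IsGen P U g) {V : X.Opens} (h : V ≤ U) {m : Γ(F, V)}
    (hm : m ⊗ₜ[Γ(X, V)] res P h g = 0) : m = 0 := by
  let eP : Γ(X, V) ≃ₗ[Γ(X, V)] Γ(P, V) :=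
    LinearEquiv.ofBijective (LinearMap.toSpanSingleton Γ(X, V) Γ(P, V) (res P h g)) (hg V h)
  have h3 := congrArg (TensorProduct.congr (LinearEquiv.refl Γ(X, V) Γ(F, V)) eP.symm) hm
  rw [map_zero, TensorProduct.congr_tmul, ← show eP 1 = res P h g from one_smul _ _,
    eP.symm_apply_apply] at h3
  have h4 := congrArg (TensorProduct.rid Γ(X, V) Γ(F, V)) h3
  rwa [TensorProduct.rid_tmul, map_zero, LinearEquiv.refl_apply, one_smul] at h4

/-- Tensoring with a generator is injective on sections. -/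
theorem tmul_gen_injective (hg : IsGen P U g) {V : X.Opens} (h : V ≤ U) :
    Function.Injective fun m : Γ(F, V) => tmul m (res P h g) := by
  intro a b hab
  refine sub_eq_zero.mp ?_
  set d := a - b with hd
  have hd0 : tmul d (res P h g) = 0 := by rw [hd, tmul_sub_left, sub_eq_zero]; exact hab
  have hmem := Presheaf.equalizerSieve_mem (Opens.grothendieckTopology X) (η F P)
    (show (pre F P).presheaf.obj (op V) from
      (d ⊗ₜ[Γ(X, V)] res P h g : Γ(F, V) ⊗[Γ(X, V)] Γ(P, V))) 0
    (hd0.trans (map_zero _).symm)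
  choose W i hW hxW using fun z : V => hmem z.1 z.2
  refine eq_zero_of_locally_eq_zero F (fun z => (i z).le)
    (fun x hx => Opens.mem_iSup.mpr ⟨⟨x, hx⟩, hxW _⟩) d fun z => ?_
  refine eq_zero_of_tmul_eq_zero hg ((i z).le.trans h) ?_
  rw [← res_res P h (i z).le]
  exact (hW z).trans (map_zero _)

/-- Tensoring with a generator is surjective on sections. -/
theorem tmul_gen_surjective (hg : IsGen P U g) {V : X.Opens} (h : V ≤ U) :
    Function.Surjective fun m : Γ(F, V) => tmul m (res P h g) := by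
  intro y
  have hmem := Presheaf.imageSieve_mem (Opens.grothendieckTopology X) (η F P) (U := op V) y
  choose W i hW hxW using fun z : V => hmem z.1 z.2
  choose t ht using hW
  choose m hm using fun z : V => exists_tmul_eq hg ((i z).le.trans h) (t z)
  have hres : ∀ z : V, tmul (m z) (res P ((i z).le.trans h) g) =
      res (CohB1.tensorMod F P) (i z).le y := fun z => by
    refine Eq.trans ?_ (ht z)
    exact congrArg (fun q => (η F P).app (op (W z)) (show (pre F P).obj (op (W z)) from q))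
      (hm z).symm
  have hcov : V ≤ iSup W := fun x hx => Opens.mem_iSup.mpr ⟨⟨x, hx⟩, hxW _⟩
  obtain ⟨s, hs⟩ := exists_glue F (fun z => (i z).le) hcov m fun p q => by
    refine tmul_gen_injective hg (inf_le_left.trans ((i p).le.trans h)) ?_
    have e1 := congrArg (res (CohB1.tensorMod F P) (inf_le_left : W p ⊓ W q ≤ W p)) (hres p)
    have e2 := congrArg (res (CohB1.tensorMod F P) (inf_le_right : W p ⊓ W q ≤ W q)) (hres q)
    rw [res_tmul, res_res, res_res] at e1 e2
    exact e1.trans e2.symm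
  refine ⟨s, eq_of_locally_eq _ (fun z => (i z).le) hcov _ _ fun z => ?_⟩
  rw [res_tmul, res_res, hs]
  exact hres z

variable {L : X.Modules}

lemma twist_res (s : Coh.structureModule X ⟶ L) (n : ℕ) (F : X.Modules) {V W : X.Opens}
    (h : W ≤ V) (t : Γ(F, V)) :
    res (CohB1.tensorMod F (CohB1.tensorPow L n)) h (SecTwist.twist s n F V t) =
      tmul (res F h t) (pw L (sec s W) n) := by
  rw [← pow_eq]
  refine (SecTwist.map_tmul F _ (homOfLE h) t _).trans ?_
  exact congrArg (fun q => tmul (res F h t) q) (SecTwist.map_pow s n (homOfLE h))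

lemma tmul_pw_eq {V : X.Opens} {e : Γ(L, V)} {f : Γ(X, V)} (s : Coh.structureModule X ⟶ L)
    (hf : sec s V = f • e) (n : ℕ) (t : Γ(F, V)) :
    tmul t (pw L (sec s V) n) = tmul (f ^ n • t) (pw L e n) := by
  rw [hf, pw_smul, tmul_smul_right, tmul_smul_left]

variable (hL : PicF.IsInvertible L) (s : Coh.structureModule X ⟶ L)

include hL in
/-- A finite affine cover with a generator and the coefficient of `s` on each member. -/
theorem exists_chart_cover [CompactSpace X] :
    ∃ (σ : Type u) (_ : Finite σ) (W : σ → X.Opens) (e : ∀ i, Γ(L, W i)) (f : ∀ i, Γ(X, W i)),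
      (∀ i, IsAffineOpen (W i)) ∧ (∀ x : X, ∃ i, x ∈ W i) ∧ (∀ i, IsGen L (W i) (e i)) ∧
        ∀ i, sec s (W i) = f i • e i := by
  choose U e hxU he using fun x : X => exists_isGen hL x
  choose W hW hxW hWU using fun x : X => exists_isAffineOpen_mem_and_subset (hxU x)
  obtain ⟨σ, hσ⟩ := isCompact_univ.elim_finite_subcover (fun x : X => (W x : Set X))
    (fun x => (W x).isOpen) fun x _ => Set.mem_iUnion.mpr ⟨x, hxW x⟩
  choose f hf using fun x : X =>
    ((he x).restrict (hWU x : W x ≤ U x)).exists_eq le_rfl (sec s (W x))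
  refine ⟨σ, inferInstance, fun i => W i.1, fun i => res L (hWU i.1) (e i.1), fun i => f i.1,
    fun i => hW i.1, fun x => ?_, fun i => (he i.1).restrict _, fun i => ?_⟩
  · obtain ⟨x₀, hx₀, hx⟩ := Set.mem_iUnion₂.mp (hσ (Set.mem_univ x))
    exact ⟨⟨x₀, hx₀⟩, hx⟩
  · exact (hf i.1).1.trans (by rw [res_self])

include hL in
/-- A global section vanishing on `X_s` is killed by a power of `s`. -/
theorem exists_twist_eq_zero [CompactSpace X] (F : X.Modules) [F.IsQuasicoherent] (t : Γ(F, ⊤))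
    (ht : res F (le_top : CohB1.genLocus L s ≤ ⊤) t = 0) :
    ∃ n : ℕ, 0 < n ∧ SecTwist.twist s n F ⊤ t = 0 := by
  obtain ⟨σ, _, W, e, f, hW, hcov, he, hf⟩ := exists_chart_cover hL s
  have hkill : ∀ i, ∃ k : ℕ, f i ^ k • res F (le_top : W i ≤ ⊤) t = 0 := fun i => by
    refine (isLocalizingAt F (hW i) (f i)).eq_zero _ ?_
    have hle : X.basicOpen (f i) ≤ CohB1.genLocus L s := by
      rw [← genLocus_inf (he i) s (hf i)]; exact inf_le_left
    rw [res_res, ← res_res F le_top hle, ht, map_zero]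
  choose k hk using hkill
  obtain ⟨N, hN⟩ : ∃ N, ∀ i, k i ≤ N := Finite.exists_le _
  refine ⟨N + 1, Nat.succ_pos _, eq_zero_of_locally_eq_zero
    (CohB1.tensorMod F (CohB1.tensorPow L (N + 1))) (U := W) (fun i => le_top)
    (fun x _ => Opens.mem_iSup.mpr (hcov x)) _ fun i => ?_⟩
  rw [twist_res, tmul_pw_eq s (hf i), ← Nat.sub_add_cancel ((hN i).trans (Nat.le_add_right N 1)), pow_add,
    mul_smul, hk i, smul_zero, tmul_zero_left]

include hL in
/-- A section over `X_s` extends after multiplication by a power of `s`. -/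
theorem exists_twist_extends [CompactSpace X] [QuasiSeparatedSpace X] (F : X.Modules)
    [F.IsQuasicoherent] (t : Γ(F, CohB1.genLocus L s)) :
    ∃ n : ℕ, 0 < n ∧ ∃ t' : Γ(CohB1.tensorMod F (CohB1.tensorPow L n), ⊤),
      res _ (le_top : CohB1.genLocus L s ≤ ⊤) t' = SecTwist.twist s n F (CohB1.genLocus L s) t := by
  obtain ⟨σ, _, W, e, f, hW, hcov, he, hf⟩ := exists_chart_cover hL s
  have hD : ∀ i, X.basicOpen (f i) ≤ CohB1.genLocus L s := fun i => by
    rw [← genLocus_inf (he i) s (hf i)]; exact inf_le_left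
  choose k u hu using fun i => (isLocalizingAt F (hW i) (f i)).surj (res F (hD i) t)
  obtain ⟨N, hN⟩ : ∃ N, ∀ i, k i ≤ N := Finite.exists_le _
  let t₀ : ∀ i, Γ(F, W i) := fun i => f i ^ (N - k i) • u i
  have ht₀ : ∀ i, res F (X.basicOpen_le (f i)) (t₀ i) =
      rres (X.basicOpen_le (f i)) (f i) ^ N • res F (hD i) t := fun i => by
    rw [res_smul, hu, map_pow, smul_smul, ← pow_add, Nat.sub_add_cancel (hN i)]
  clear_value t₀
  let O : σ × σ → X.Opens := fun p => W p.1 ⊓ W p.2
  have hO : ∀ p, IsCompact (O p : Set X) := fun p =>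
    (hW p.1).isCompact.inter_of_isOpen (hW p.2).isCompact (W p.1).2 (W p.2).2
  choose v hv using fun p : σ × σ =>
    ((he p.1).exists_eq (inf_le_left : O p ≤ W p.1)
      (res L (inf_le_right : O p ≤ W p.2) (e p.2))).exists
  have hfv : ∀ p : σ × σ, rres (inf_le_left : O p ≤ W p.1) (f p.1) =
      rres (inf_le_right : O p ≤ W p.2) (f p.2) * v p := fun p => by
    refine (he p.1).injective (inf_le_left : O p ≤ W p.1) ?_
    rw [mul_smul, ← hv, ← res_smul, ← res_smul, ← hf, ← hf, sec_res, sec_res]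
  have hkill : ∀ p : σ × σ, ∃ m : ℕ, rres (inf_le_left : O p ≤ W p.1) (f p.1) ^ m •
      (res F (inf_le_left : O p ≤ W p.1) (t₀ p.1) -
        v p ^ N • res F (inf_le_right : O p ≤ W p.2) (t₀ p.2)) = 0 := fun p => by
    refine exists_pow_smul_eq_zero F (hO p) _ _ ?_
    set D := X.basicOpen (rres (inf_le_left : O p ≤ W p.1) (f p.1)) with hDdef
    have hle1 : D ≤ X.basicOpen (f p.1) := by
      rw [hDdef, Scheme.basicOpen_res]; exact inf_le_right
    have hle2 : D ≤ X.basicOpen (f p.2) := by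
      rw [hDdef, hfv, X.basicOpen_mul, Scheme.basicOpen_res]
      exact inf_le_left.trans inf_le_right
    rw [map_sub, res_smul, res_res, res_res, ← res_res F (X.basicOpen_le (f p.1)) hle1, ht₀,
      ← res_res F (X.basicOpen_le (f p.2)) hle2, ht₀, res_smul, res_smul, res_res, res_res,
      sub_eq_zero, smul_smul]
    congr 1
    have h1 := congrArg (rres (X.basicOpen_le _ : D ≤ O p)) (hfv p)
    rw [map_mul, rres_rres, rres_rres] at h1
    simp only [map_pow, rres_rres]
    rw [mul_comm, ← mul_pow, h1]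
  choose m hm using hkill
  obtain ⟨M, hM⟩ : ∃ M, ∀ p, m p ≤ M := Finite.exists_le _
  let n := N + (M + 1)
  let τ : ∀ i, Γ(CohB1.tensorMod F (CohB1.tensorPow L n), W i) :=
    fun i => tmul (f i ^ (M + 1) • t₀ i) (pw L (e i) n)
  have hcomp : ∀ i j, res (CohB1.tensorMod F (CohB1.tensorPow L n))
      (inf_le_left : W i ⊓ W j ≤ W i) (τ i) =
      res (CohB1.tensorMod F (CohB1.tensorPow L n)) (inf_le_right : W i ⊓ W j ≤ W j) (τ j) := by
    intro i j
    let p : σ × σ := (i, j)
    show res _ (inf_le_left : O p ≤ W p.1) (tmul _ _) = res _ (inf_le_right : O p ≤ W p.2) (tmul _ _)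
    rw [res_tmul, res_tmul, res_smul, res_smul, res_pw, res_pw, hv p, pw_smul, tmul_smul_right,
      ← tmul_smul_left]
    congr 1
    have h0 : rres (inf_le_left : O p ≤ W p.1) (f p.1) ^ (M + 1) •
        (res F (inf_le_left : O p ≤ W p.1) (t₀ p.1) -
          v p ^ N • res F (inf_le_right : O p ≤ W p.2) (t₀ p.2)) = 0 := by
      rw [← Nat.sub_add_cancel ((hM p).trans (Nat.le_add_right M 1)), pow_add, mul_smul, hm p, smul_zero]
    rw [smul_sub, sub_eq_zero, smul_smul] at h0
    rw [map_pow, map_pow, h0, smul_smul, hfv p]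
    congr 1
    simp only [n, pow_add, mul_pow]
    ring
  obtain ⟨t', ht'⟩ := exists_glue (CohB1.tensorMod F (CohB1.tensorPow L n)) (U := W)
    (fun i => (le_top : W i ≤ ⊤)) (fun x _ => Opens.mem_iSup.mpr (hcov x)) τ hcomp
  refine ⟨n, by omega, t', eq_of_locally_eq _ (U := fun i => X.basicOpen (f i)) hD
    (fun x hx => ?_) _ _ fun i => ?_⟩
  · obtain ⟨i, hi⟩ := hcov x
    exact Opens.mem_iSup.mpr ⟨i, genLocus_inf (he i) s (hf i) ▸ ⟨hx, hi⟩⟩
  · rw [res_res, twist_res, ← res_res _ (le_top : W i ≤ ⊤) (X.basicOpen_le (f i)), ht' i,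
      res_tmul, res_smul, ht₀, res_pw, ← sec_res s (X.basicOpen_le (f i)), hf i, res_smul, pw_smul,
      tmul_smul_right, ← tmul_smul_left]
    congr 1
    rw [map_pow, smul_smul, ← pow_add]
    congr 2
    omega

variable {L' : X.Modules} (hL' : PicF.IsInvertible L') (g : Coh.structureModule X ⟶ L')

include hL hL' in
/-- The generating locus of a tensor product of sections. -/
theorem genLocus_tmulHom :
    CohB1.genLocus (CohB1.tensorMod L L') (SecTwist.tmulHom s g) =
      CohB1.genLocus L s ⊓ CohB1.genLocus L' g := by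
  have key : ∀ x : X, ∃ U : X.Opens, x ∈ U ∧
      CohB1.genLocus (CohB1.tensorMod L L') (SecTwist.tmulHom s g) ⊓ U =
        CohB1.genLocus L s ⊓ CohB1.genLocus L' g ⊓ U := by
    intro x
    obtain ⟨A, e, hxA, he⟩ := exists_isGen hL x
    obtain ⟨B, e', hxB, he'⟩ := exists_isGen hL' x
    have heU := he.restrict (inf_le_left : A ⊓ B ≤ A)
    have heU' := he'.restrict (inf_le_right : A ⊓ B ≤ B)
    obtain ⟨a, ha, -⟩ := heU.exists_eq le_rfl (sec s (A ⊓ B))
    obtain ⟨b, hb, -⟩ := heU'.exists_eq le_rfl (sec g (A ⊓ B))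
    rw [res_self] at ha hb
    refine ⟨A ⊓ B, ⟨hxA, hxB⟩, ?_⟩
    have hsec : sec (SecTwist.tmulHom s g) (A ⊓ B) =
        (a * b) • tmul (res L (inf_le_left : A ⊓ B ≤ A) e) (res L' (inf_le_right : A ⊓ B ≤ B) e') := by
      refine (SecTwist.val_tmulHom s g (A ⊓ B)).trans ?_
      show tmul (sec s (A ⊓ B)) (sec g (A ⊓ B)) = _
      rw [ha, hb, tmul_smul_left, tmul_smul_right, smul_smul]
    rw [genLocus_inf (isGen_tmul heU heU') _ hsec, X.basicOpen_mul,
      ← genLocus_inf heU s ha, ← genLocus_inf heU' g hb, inf_inf_inf_comm, inf_idem]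
  refine le_antisymm (fun x hx => ?_) fun x hx => ?_
  · obtain ⟨U, hxU, hU⟩ := key x
    exact (hU.le ⟨hx, hxU⟩).1
  · obtain ⟨U, hxU, hU⟩ := key x
    exact (hU.ge ⟨hx, hxU⟩).1

end Groth.Agent.LimTop.TwistSec
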