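import Groth.Agent.LimTop.Basic

/-!
Descent of open, locally closed, constructible subsets of a limit of schemes.
-/

universe u

open CategoryTheory AlgebraicGeometry Limits Topology TopologicalSpace Opposite

namespace Groth.Agent.LimTop

lemma isLocallyConstructible_of_isCompact_isOpen {X : Scheme.{u}} [QuasiSeparatedSpace X] {s : Set X}
    (hs : IsCompact s) (ho : IsOpen s) : IsLocallyConstructible s :=
  (hs.isConstructible ho).isLocallyConstructible

/-- Open sets of schemes are ind-constructible. -/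
lemma isIndConstructible_of_isOpen {X : Scheme.{u}} {s : Set X} (hs : IsOpen s) :
    ProCons.IsIndConstructible s := by
  intro x
  obtain ⟨_, ⟨U, hU, rfl⟩, hxU, -⟩ :=
    X.isBasis_affineOpens.exists_subset_of_mem_open (Set.mem_univ x) isOpen_univ
  refine ⟨(U : Set X), U.2, hxU, {T | IsOpen T ∧ IsCompact T ∧ T ⊆ Subtype.val ⁻¹' s}, ?_, ?_⟩
  · have : IsAffine (Scheme.Opens.toScheme U) := hU
    rintro T ⟨ho, hc, -⟩
    exact isLocallyConstructible_of_isCompact_isOpen (X := (Scheme.Opens.toScheme U)) hc ho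
  · apply Set.Subset.antisymm
    · intro y hy
      have : IsAffine (Scheme.Opens.toScheme U) := hU
      obtain ⟨T, ⟨hTo, hTc⟩, hyT, hTs⟩ :=
        (PrespectralSpace.isTopologicalBasis (X := (Scheme.Opens.toScheme U))).exists_subset_of_mem_open hy
          (hs.preimage continuous_subtype_val)
      exact ⟨T, ⟨hTo, hTc, hTs⟩, hyT⟩
    · exact Set.sUnion_subset fun T hT ↦ hT.2.2

lemma isProConstructible_of_isClosed {X : Scheme.{u}} {s : Set X} (hs : IsClosed s) :
    ProCons.IsProConstructible s := by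
  rw [← compl_compl s]
  exact isProConstructible_compl (isIndConstructible_of_isOpen hs.isOpen_compl)

/-- Constructible subsets of a quasi-compact scheme are quasi-compact. -/
lemma isCompact_of_isConstructible {X : Scheme.{u}} [CompactSpace X] {s : Set X}
    (hs : IsConstructible s) : IsCompact s := by
  obtain ⟨S, hS, hSU⟩ := isCompact_and_isOpen_iff_finite_and_eq_biUnion_affineOpens.mp
    (⟨isCompact_univ, isOpen_univ⟩ : IsCompact (Set.univ : Set X) ∧ IsOpen (Set.univ : Set X))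
  have e : s = ⋃ U ∈ S, ((U : X.Opens) : Set X) ∩ s := by
    rw [← Set.iUnion₂_inter, ← hSU, Set.univ_inter]
  rw [e]
  refine hS.isCompact_biUnion fun U _ ↦ ?_
  have : IsAffine (Scheme.Opens.toScheme (U : X.Opens)) := U.2
  have h := (U : X.Opens).ι.isConstructible_preimage hs
  have hcl := (isClopen_cons_of_isConstructible h).2
  have hc : IsCompact ((U : X.Opens).ι ⁻¹' s) := by
    have h1 : IsClosed (WithTopology.ofTopology ⁻¹' ((U : X.Opens).ι ⁻¹' s) :
        Set (WithConstructibleTopology (Scheme.Opens.toScheme (U : X.Opens)))) :=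
      (WithTopology.isClosed_iff _).mpr hcl
    have hcont : Continuous (WithTopology.ofTopology :
        WithConstructibleTopology (Scheme.Opens.toScheme (U : X.Opens)) → _) := by
      refine PrespectralSpace.isTopologicalBasis.continuous_iff.mpr fun t ht ↦ ?_
      exact (WithTopology.isOpen_iff _).mpr (ht.2.isOpen_constructibleTopology_of_isOpen ht.1)
    have := h1.isCompact.image hcont
    rwa [Set.image_preimage_eq _ (WithTopology.ofTopology_surjective _)] at this
  have := hc.image (U : X.Opens).ι.continuous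
  rwa [Set.image_preimage_eq_range_inter, Scheme.Opens.range_ι] at this

variable {I : Type u} [SmallCategory I] {D : I ⥤ Scheme.{u}} {c : Cone D}
variable [∀ (i j : I) (f : i ⟶ j), IsAffineHom (D.map f)]

omit [∀ (i j : I) (f : i ⟶ j), IsAffineHom (D.map f)] in
lemma preimage_π (c : Cone D) {i j : I} (φ : i ⟶ j) (Z : Set (D.obj j)) :
    c.π.app i ⁻¹' (D.map φ ⁻¹' Z) = c.π.app j ⁻¹' Z := by
  ext s
  show D.map φ (c.π.app i s) ∈ Z ↔ c.π.app j s ∈ Z
  rw [π_apply]

variable [IsCofiltered I]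

/-- If the preimage of a constructible set is open in the limit, it is so at a stage. -/
theorem exists_isOpen_preimage (hc : IsLimit c) {i : I} [CompactSpace (D.obj i)] {Z : Set (D.obj i)}
    (hZ : IsConstructible Z) (h : IsOpen (c.π.app i ⁻¹' Z)) :
    ∃ (j : I) (φ : j ⟶ i), IsOpen (D.map φ ⁻¹' Z) := by
  obtain ⟨j, φ, hj⟩ := exists_subset hc (i₀ := i) (fun j φ ↦ D.map φ ⁻¹' Z)
    (fun j φ ↦ interior (D.map φ ⁻¹' Z))
    (fun j φ ↦ isProConstructible_of_isLocallyConstructible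
      ((D.map φ).isConstructible_preimage hZ).isLocallyConstructible)
    (fun j φ ↦ isIndConstructible_of_isOpen isOpen_interior)
    (fun j k ψ φ x hx ↦ show D.map φ (D.map ψ x) ∈ Z from map_comp_apply D ψ φ x ▸ hx)
    (fun j k ψ φ ↦ interior_maximal
      (fun x hx ↦ show D.map (ψ ≫ φ) x ∈ Z from
        (map_comp_apply D ψ φ x).symm ▸ (interior_subset (hx : D.map ψ x ∈ interior _) :))
      (isOpen_interior.preimage (D.map ψ).continuous))
    (fun s hs ↦ by
      have hsZ : s ∈ c.π.app i ⁻¹' Z := by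
        have := hs i (𝟙 i)
        rwa [Set.mem_preimage, map_id_apply] at this
      obtain ⟨j, φ, V, hV, hsV, hVZ⟩ := exists_nhd hc i h hsZ
      obtain ⟨k, ψ, hk⟩ := exists_inter_subset hc V hV.isCompact (fun _ _ ↦ Set.univ)
        (fun k ψ ↦ D.map (ψ ≫ φ) ⁻¹' Z)
        (fun _ _ ↦ isProConstructible_of_isLocallyConstructible .univ)
        (fun k ψ ↦ isIndConstructible_of_isLocallyConstructible
          ((D.map _).isConstructible_preimage hZ).isLocallyConstructible)
        (fun _ _ _ _ ↦ Set.subset_univ _)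
        (fun k l χ ψ x hx ↦ show D.map ((χ ≫ ψ) ≫ φ) x ∈ Z by
          rw [Category.assoc, map_comp_apply]; exact hx)
        (fun t ht _ ↦ ⟨j, 𝟙 j, show D.map (𝟙 j ≫ φ) (c.π.app j t) ∈ Z by
          rw [Category.id_comp, π_apply]; exact hVZ ht⟩)
      refine ⟨k, ψ ≫ φ, ?_⟩
      refine interior_maximal (fun x hx ↦ hk ⟨hx, trivial⟩) (V.2.preimage (D.map ψ).continuous) ?_
      show D.map ψ (c.π.app k s) ∈ V
      rwa [π_apply])
  exact ⟨j, φ, (Set.Subset.antisymm hj interior_subset) ▸ isOpen_interior⟩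

/-- If the preimage of a constructible set is closed in the limit, it is so at a stage. -/
theorem exists_isClosed_preimage (hc : IsLimit c) {i : I} [CompactSpace (D.obj i)] {Z : Set (D.obj i)}
    (hZ : IsConstructible Z) (h : IsClosed (c.π.app i ⁻¹' Z)) :
    ∃ (j : I) (φ : j ⟶ i), IsClosed (D.map φ ⁻¹' Z) := by
  obtain ⟨j, φ, hj⟩ := exists_isOpen_preimage hc hZ.compl h.isOpen_compl
  exact ⟨j, φ, ⟨hj⟩⟩

/-- If the preimage of a constructible set is locally closed in the limit, it is so at a stage. -/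
theorem exists_isLocallyClosed_preimage (hc : IsLimit c) {i : I} [CompactSpace (D.obj i)]
    {Z : Set (D.obj i)} (hZ : IsConstructible Z) (h : IsLocallyClosed (c.π.app i ⁻¹' Z)) :
    ∃ (j : I) (φ : j ⟶ i), IsLocallyClosed (D.map φ ⁻¹' Z) := by
  classical
  have hW := h.isOpen_coborder
  set W := c.π.app i ⁻¹' Z with hWdef
  have hZmem : ∀ {j : I} (φ : j ⟶ i) (s : c.pt), c.π.app j s ∈ D.map φ ⁻¹' Z ↔ s ∈ W := by
    intro j φ s
    show D.map φ (c.π.app j s) ∈ Z ↔ _
    rw [π_apply]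
    rfl
  -- finitely many affine opens of stages covering `W` inside the coborder
  have hcov : ∀ s : c.pt, s ∈ W → ∃ (j : I) (φ : j ⟶ i) (V : (D.obj j).Opens), IsAffineOpen V ∧
      c.π.app j s ∈ V ∧ c.π.app j ⁻¹' (V : Set (D.obj j)) ⊆ coborder W :=
    fun s hs ↦ exists_nhd hc i hW (subset_coborder hs)
  obtain ⟨j, φ, hj⟩ := exists_subset hc (i₀ := i) (fun j φ ↦ D.map φ ⁻¹' Z)
    (fun j φ ↦ ⋃₀ {T | IsOpen T ∧ IsCompact T ∧ c.π.app j ⁻¹' T ⊆ coborder W})
    (fun j φ ↦ isProConstructible_of_isLocallyConstructible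
      ((D.map φ).isConstructible_preimage hZ).isLocallyConstructible)
    (fun j φ ↦ isIndConstructible_of_isOpen (isOpen_sUnion fun T hT ↦ hT.1))
    (fun j k ψ φ x hx ↦ show D.map φ (D.map ψ x) ∈ Z from map_comp_apply D ψ φ x ▸ hx)
    (fun j k ψ φ x hx ↦ by
      obtain ⟨T, ⟨ho, hcp, hT⟩, hxT⟩ := hx
      exact ⟨D.map ψ ⁻¹' T, ⟨ho.preimage (D.map ψ).continuous,
        QuasiCompact.isCompact_preimage (f := D.map ψ) _ ho hcp, by rwa [preimage_π]⟩, hxT⟩)
    (fun s hs ↦ by
      obtain ⟨j, φ, V, hV, hsV, hVW⟩ := hcov s ((hZmem (𝟙 i) s).mp (hs i (𝟙 i)))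
      exact ⟨j, φ, ⟨_, ⟨V.2, hV.isCompact, hVW⟩, hsV⟩⟩)
  have : CompactSpace (D.obj j) := QuasiCompact.compactSpace_of_compactSpace (D.map φ)
  have hZj := (D.map φ).isConstructible_preimage hZ
  -- the closed part: points of the coborder in every closure are in `W`
  have hclos : ∀ s : c.pt, (∀ (k : I) (ψ : k ⟶ j), c.π.app k s ∈ closure (D.map (ψ ≫ φ) ⁻¹' Z)) →
      s ∈ closure W := by
    intro s hs
    by_contra hns
    obtain ⟨k, ψ, V, hV, hsV, hVW⟩ := exists_nhd hc j isClosed_closure.isOpen_compl hns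
    obtain ⟨l, χ, hl⟩ := exists_inter_subset hc V hV.isCompact
      (fun l χ ↦ D.map (χ ≫ ψ ≫ φ) ⁻¹' Z) (fun _ _ ↦ ∅)
      (fun l χ ↦ isProConstructible_of_isLocallyConstructible
        ((D.map _).isConstructible_preimage hZ).isLocallyConstructible)
      (fun _ _ ↦ isIndConstructible_of_isLocallyConstructible .empty)
      (fun a b θ χ x hx ↦ show D.map (χ ≫ ψ ≫ φ) (D.map θ x) ∈ Z by
        rw [← map_comp_apply, ← Category.assoc]
        have hx' := (show D.map ((θ ≫ χ) ≫ ψ ≫ φ) x ∈ Z from hx)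
        simpa only [Category.assoc] using hx')
      (fun _ _ _ _ ↦ Set.empty_subset _)
      (fun t ht hE ↦ (hVW ht (subset_closure ((hZmem _ t).mp (hE k (𝟙 k))))).elim)
    obtain ⟨x, hx, hx'⟩ := mem_closure_iff.mp (hs l (χ ≫ ψ)) _ (V.2.preimage (D.map χ).continuous)
      (show D.map χ (c.π.app l s) ∈ V by rwa [π_apply])
    exact hl ⟨hx, by simpa only [Category.assoc] using hx'⟩
  let T := ⋃₀ {T : Set (D.obj j) | IsOpen T ∧ IsCompact T ∧ c.π.app j ⁻¹' T ⊆ coborder W}
  have hTopen : IsOpen T := isOpen_sUnion fun T hT ↦ hT.1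
  -- shrink `T` to a quasi-compact open
  obtain ⟨Tf, hTf, hcoverT⟩ : ∃ Tf : Finset (Set (D.obj j)),
      (∀ t ∈ Tf, IsOpen t ∧ IsCompact t ∧ c.π.app j ⁻¹' t ⊆ coborder W) ∧
      D.map φ ⁻¹' Z ⊆ ⋃ t ∈ Tf, t := by
    have hk := isCompact_of_isConstructible hZj
    obtain ⟨Tf, hTf, hfin, hsub⟩ := hk.elim_finite_subcover_image
      (b := {T : Set (D.obj j) | IsOpen T ∧ IsCompact T ∧ c.π.app j ⁻¹' T ⊆ coborder W})
      (c := id) (fun t ht ↦ ht.1) (by simpa [Set.sUnion_eq_biUnion] using hj)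
    exact ⟨hfin.toFinset, fun t ht ↦ hTf (by simpa using ht), by simpa using hsub⟩
  let O : (D.obj j).Opens := ⟨⋃ t ∈ Tf, t, isOpen_biUnion fun t ht ↦ (hTf t ht).1⟩
  have hO : IsCompact (O : Set (D.obj j)) := Tf.isCompact_biUnion fun t ht ↦ (hTf t ht).2.1
  obtain ⟨k, ψ, hk⟩ := exists_inter_subset hc O hO
    (fun k ψ ↦ closure (D.map (ψ ≫ φ) ⁻¹' Z)) (fun k ψ ↦ D.map (ψ ≫ φ) ⁻¹' Z)
    (fun k ψ ↦ isProConstructible_of_isClosed isClosed_closure)
    (fun k ψ ↦ isIndConstructible_of_isLocallyConstructible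
      ((D.map _).isConstructible_preimage hZ).isLocallyConstructible)
    (fun a b θ χ ↦ by
      refine closure_minimal ?_ (isClosed_closure.preimage (D.map θ).continuous)
      intro x hx
      refine subset_closure ?_
      show D.map (χ ≫ φ) (D.map θ x) ∈ Z
      rw [← map_comp_apply, ← Category.assoc]
      exact hx)
    (fun a b θ χ x hx ↦ show D.map ((θ ≫ χ) ≫ φ) x ∈ Z by
      rw [Category.assoc, map_comp_apply]; exact hx)
    (fun s hsO hs ↦ by
      refine ⟨j, 𝟙 j, (hZmem _ s).mpr ?_⟩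
      obtain ⟨t, ht, hst⟩ := Set.mem_iUnion₂.mp hsO
      exact (coborder_inter_closure (s := W)).subset ⟨(hTf t ht).2.2 hst, hclos s hs⟩)
  refine ⟨k, ψ ≫ φ, ?_⟩
  have : D.map (ψ ≫ φ) ⁻¹' Z =
      D.map ψ ⁻¹' (O : Set (D.obj j)) ∩ closure (D.map (ψ ≫ φ) ⁻¹' Z) := by
    refine Set.Subset.antisymm (fun x hx ↦ ⟨hcoverT ?_, subset_closure hx⟩) hk
    show D.map φ (D.map ψ x) ∈ Z
    rwa [← map_comp_apply]
  rw [this]
  exact (O.2.preimage (D.map ψ).continuous).isLocallyClosed.inter isClosed_closure.isLocallyClosed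

end Groth.Agent.LimTop
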