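import Groth.Agent.LimTop.PullSec
import Groth.Agent.QCoh.Qcqs

/-!
# Morphisms of modules given on stalks; cutting a module down to an open

`LHom W F N`: compatible stalk maps over an open `W` which are locally given by sections.
`LHom.sec`: the induced maps on sections.  `cut W N = j_* j^* N` for `j : W → X`.
-/

universe u

open CategoryTheory Limits AlgebraicGeometry Opposite TopologicalSpace

namespace Groth.Agent.LimTop

open Groth.Agent.PullStalk.Sky Groth.Agent.PullStalk.Exact Groth.Agent.QCoh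

variable {X : Scheme.{u}}

lemma stalk_ext (N : X.Modules) {V : X.Opens} (t t' : Γ(N, V))
    (h : ∀ (x : X) (hx : x ∈ V), germM N V x hx t = germM N V x hx t') : t = t' :=
  TopCat.Presheaf.section_ext ⟨_, N.isSheaf⟩ V t t' h

lemma germM_res (N : X.Modules) {V W : X.Opens} (h : W ≤ V) (t : Γ(N, V)) (x : X) (hx : x ∈ W) :
    germM N W x hx (res N h t) = germM N V x (h hx) t :=
  N.presheaf.germ_res_apply (homOfLE h) x hx t

lemma stalkLin_comp {M N P : X.Modules} (φ : M ⟶ N) (ψ : N ⟶ P) (x : X)
    (t : M.presheaf.stalk x) : stalkLin (φ ≫ ψ) x t = stalkLin ψ x (stalkLin φ x t) := by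
  obtain ⟨W, hxW, m, rfl⟩ := exists_germM_eq M x t
  rw [stalkLin_germ, stalkLin_germ, stalkLin_germ]
  rfl

lemma stalkLin_id (M : X.Modules) (x : X) (t : M.presheaf.stalk x) : stalkLin (𝟙 M) x t = t := by
  obtain ⟨W, hxW, m, rfl⟩ := exists_germM_eq M x t
  rw [stalkLin_germ]
  rfl

lemma hom_ext_stalk {M N : X.Modules} (φ ψ : M ⟶ N) (h : ∀ x, stalkLin φ x = stalkLin ψ x) :
    φ = ψ := by
  ext V m
  refine stalk_ext N _ _ fun x hx => ?_
  rw [← stalkLin_germ, ← stalkLin_germ, h x]

/-- Stalk maps over `W`, locally given by sections. -/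
structure LHom (W : X.Opens) (F N : X.Modules) where
  toFun : ∀ x ∈ W, F.presheaf.stalk x →ₗ[X.presheaf.stalk x] N.presheaf.stalk x
  exists_sec : ∀ (V : X.Opens) (s : Γ(F, V)) (x : X), x ∈ V → x ∈ W →
    ∃ (V' : X.Opens) (hV : V' ≤ V) (hW : V' ≤ W), x ∈ V' ∧
      ∃ t : Γ(N, V'), ∀ (y : X) (hy : y ∈ V'),
        germM N V' y hy t = toFun y (hW hy) (germM F V y (hV hy) s)

namespace LHom

variable {W : X.Opens} {F N P : X.Modules}

/-- The stalk maps of a global morphism. -/
noncomputable def ofHom (W : X.Opens) (φ : F ⟶ N) : LHom W F N where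
  toFun x _ := stalkLin φ x
  exists_sec V s x hx hxW := ⟨V ⊓ W, inf_le_left, inf_le_right, ⟨hx, hxW⟩,
    φ.app _ (res F inf_le_left s), fun y hy => by
      rw [← stalkLin_germ, germM_res]⟩

/-- Composition with a global morphism. -/
noncomputable def comp (l : LHom W F N) (ψ : N ⟶ P) : LHom W F P where
  toFun x hx := (stalkLin ψ x).comp (l.toFun x hx)
  exists_sec V s x hx hxW := by
    obtain ⟨V', hV, hW, hx', t, ht⟩ := l.exists_sec V s x hx hxW
    exact ⟨V', hV, hW, hx', ψ.app V' t, fun y hy => by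
      rw [← stalkLin_germ, ht]; rfl⟩

/-- Composition. -/
noncomputable def trans (l : LHom W F N) (l' : LHom W N P) : LHom W F P where
  toFun x hx := (l'.toFun x hx).comp (l.toFun x hx)
  exists_sec V s x hx hxW := by
    obtain ⟨V', hV, hW, hx', t, ht⟩ := l.exists_sec V s x hx hxW
    obtain ⟨V'', hV', hW', hx'', t', ht'⟩ := l'.exists_sec V' t x hx' hxW
    exact ⟨V'', hV'.trans hV, hW', hx'', t', fun y hy => by
      rw [ht', ht]; rfl⟩

/-- Restriction to a smaller open. -/
noncomputable def restrict {W' : X.Opens} (l : LHom W F N) (h : W' ≤ W) : LHom W' F N where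
  toFun x hx := l.toFun x (h hx)
  exists_sec V s x hx hxW := by
    obtain ⟨V', hV, hW, hx', t, ht⟩ := l.exists_sec V s x hx (h hxW)
    exact ⟨V' ⊓ W', inf_le_left.trans hV, inf_le_right, ⟨hx', hxW⟩, res N inf_le_left t,
      fun y hy => by rw [germM_res, ht]⟩

lemma existsUnique_sec (l : LHom W F N) {V : X.Opens} (hV : V ≤ W) (s : Γ(F, V)) :
    ∃! t : Γ(N, V), ∀ (x : X) (hx : x ∈ V),
      germM N V x hx t = l.toFun x (hV hx) (germM F V x hx s) := by
  choose V' hV' hW hx' t ht using fun x : V => l.exists_sec V s x.1 x.2 (hV x.2)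
  obtain ⟨u, hu⟩ := exists_glue N (U := V') (fun x => hV' x)
    (fun x hx => Opens.mem_iSup.mpr ⟨⟨x, hx⟩, hx' ⟨x, hx⟩⟩) t fun i j => stalk_ext N _ _
      fun y hy => by rw [germM_res, germM_res, ht, ht]
  have key : ∀ (x : X) (hx : x ∈ V),
      germM N V x hx u = l.toFun x (hV hx) (germM F V x hx s) := fun x hx => by
    rw [← germM_res N (hV' ⟨x, hx⟩) u x (hx' ⟨x, hx⟩), hu, ht]
  exact ⟨u, key, fun u' hu' => stalk_ext N _ _ fun x hx => (hu' x hx).trans (key x hx).symm⟩

/-- The maps on sections over opens inside `W`. -/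
noncomputable def sec (l : LHom W F N) {V : X.Opens} (hV : V ≤ W) (s : Γ(F, V)) : Γ(N, V) :=
  (l.existsUnique_sec hV s).exists.choose

lemma germ_sec (l : LHom W F N) {V : X.Opens} (hV : V ≤ W) (s : Γ(F, V)) (x : X) (hx : x ∈ V) :
    germM N V x hx (l.sec hV s) = l.toFun x (hV hx) (germM F V x hx s) :=
  (l.existsUnique_sec hV s).exists.choose_spec x hx

lemma sec_add (l : LHom W F N) {V : X.Opens} (hV : V ≤ W) (s s' : Γ(F, V)) :
    l.sec hV (s + s') = l.sec hV s + l.sec hV s' := by
  refine stalk_ext N _ _ fun x hx => ?_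
  rw [germ_sec]
  change l.toFun x _ (F.presheaf.germ V x hx (s + s')) = N.presheaf.germ V x hx _
  rw [map_add, map_add, map_add]
  exact congrArg₂ (· + ·) (l.germ_sec hV s x hx).symm (l.germ_sec hV s' x hx).symm

lemma sec_smul (l : LHom W F N) {V : X.Opens} (hV : V ≤ W) (r : Γ(X, V)) (s : Γ(F, V)) :
    l.sec hV (r • s) = r • l.sec hV s := by
  refine stalk_ext N _ _ fun x hx => ?_
  rw [germ_sec, germM_smul, germM_smul, map_smul, germ_sec]

lemma sec_res (l : LHom W F N) {V V' : X.Opens} (hV : V ≤ W) (h : V' ≤ V) (s : Γ(F, V)) :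
    res N h (l.sec hV s) = l.sec (h.trans hV) (res F h s) := by
  refine stalk_ext N _ _ fun x hx => ?_
  rw [germM_res, germ_sec, germ_sec, germM_res]

end LHom

section cut

variable (W : X.Opens) (N : X.Modules)

/-- `j_* j^* N` for the inclusion `j : W → X`. -/
noncomputable abbrev cut : X.Modules :=
  (Scheme.Modules.pushforward W.ι).obj (N.restrict W.ι)

/-- The unit `N ⟶ j_* j^* N`. -/
noncomputable def toCut : N ⟶ cut W N := (Scheme.Modules.restrictAdjunction W.ι).unit.app N

lemma image_preimage_ι (V : X.Opens) : W.ι ''ᵁ (W.ι ⁻¹ᵁ V) = V ⊓ W := by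
  rw [Scheme.Hom.image_preimage_eq_opensRange_inf, Scheme.Opens.opensRange_ι, inf_comm]

instance isQuasicoherent_cut [QuasiSeparatedSpace X] [N.IsQuasicoherent]
    [h : Fact (IsCompact (W : Set X))] : (cut W N).IsQuasicoherent := by
  have : CompactSpace (W : Scheme.{u}) := isCompact_iff_compactSpace.mp h.out
  have : QuasiSeparatedSpace (W : Scheme.{u}) := quasiSeparatedSpace_of_quasiSeparated W.ι
  have : QuasiCompact W.ι := inferInstance
  have : (N.restrict W.ι).IsQuasicoherent :=
    Scheme.Modules.isQuasicoherent_restrictFunctor W.ι N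
  exact isQuasicoherent_pushforward _ _

variable {W N}

/-- A section over the part of `V` inside `W` gives a section of `cut W N` over `V`. -/
noncomputable def cutSec {V : X.Opens} (t : Γ(N, V ⊓ W)) : Γ(cut W N, V) :=
  (N.restrictAppIso W.ι (W.ι ⁻¹ᵁ V)).inv (res N (image_preimage_ι W V).le t)

/-- A section of `cut W N` over `V` as a section over the part of `V` inside `W`. -/
noncomputable def uncutSec {V : X.Opens} (t : Γ(cut W N, V)) : Γ(N, V ⊓ W) :=
  res N (image_preimage_ι W V).ge ((N.restrictAppIso W.ι (W.ι ⁻¹ᵁ V)).hom t)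

lemma uncut_cut {V : X.Opens} (t : Γ(N, V ⊓ W)) : uncutSec (cutSec t) = t := by
  rw [uncutSec, cutSec, Iso.inv_hom_id_apply, res_res, res_self]

lemma cut_uncut {V : X.Opens} (t : Γ(cut W N, V)) : cutSec (uncutSec t) = t := by
  rw [uncutSec, cutSec, res_res, res_self]
  exact Iso.hom_inv_id_apply _ _

lemma uncut_add {V : X.Opens} (t t' : Γ(cut W N, V)) :
    uncutSec (t + t') = uncutSec t + uncutSec t' := by
  refine (congrArg _ ?_).trans (map_add _ _ _)
  exact map_add (N.restrictAppIso W.ι (W.ι ⁻¹ᵁ V)).hom.hom t t'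

lemma uncut_smul {V : X.Opens} (r : Γ(X, V)) (t : Γ(cut W N, V)) :
    uncutSec (r • t) = rres (inf_le_left : V ⊓ W ≤ V) r • uncutSec t := by
  rw [uncutSec]
  refine (congrArg _ (restrict_smul W.ι N (W.ι.app V r) t)).trans ?_
  rw [res_smul]
  congr 1
  rw [← ConcreteCategory.comp_apply (W.ι.app V), W.ι.app_appIso_inv]
  exact rres_rres _ _ r

lemma uncut_res {V V' : X.Opens} (h : V' ≤ V) (t : Γ(cut W N, V)) :
    uncutSec (res (cut W N) h t) = res N (inf_le_inf_right W h) (uncutSec t) := by
  unfold uncutSec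
  refine (congrArg (res N (image_preimage_ι W V').ge)
    (restrict_res W.ι N (W.ι.preimage_mono h) t)).trans ?_
  refine (res_res N _ _ _).trans ?_
  exact (res_res N _ _ _).symm

lemma uncut_injective {V : X.Opens} : Function.Injective (uncutSec (W := W) (N := N) (V := V)) :=
  Function.LeftInverse.injective cut_uncut

lemma uncut_toCut {V : X.Opens} (t : Γ(N, V)) :
    uncutSec ((toCut W N).app V t) = res N inf_le_left t :=
  res_res N (W.ι.image_preimage_le V) _ t

/-- The morphism into `cut W N` defined by stalk maps over `W`. -/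
noncomputable def LHom.cutHom {F : X.Modules} (l : LHom W F N) : F ⟶ cut W N :=
  ⟨PresheafOfModules.homMk
    { app := fun V => AddCommGrpCat.ofHom
        (AddMonoidHom.mk' (fun s : Γ(F, V.unop) =>
          cutSec (l.sec (inf_le_right : V.unop ⊓ W ≤ W) (res F inf_le_left s)))
          fun a b => uncut_injective ((uncut_cut _).trans (Eq.trans
            ((congrArg (l.sec _) (map_add _ a b)).trans (l.sec_add _ _ _))
            ((congrArg₂ (· + ·) (uncut_cut _).symm (uncut_cut _).symm).trans
              (uncut_add _ _).symm))))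
      naturality := fun {V V'} i => by
        ext s
        refine uncut_injective (W := W) (N := N) ?_
        refine (uncut_cut _).trans (Eq.trans ?_ (uncut_res i.unop.le (cutSec _)).symm)
        rw [uncut_cut, l.sec_res]
        congr 1
        exact (res_res F i.unop.le inf_le_left s).trans (res_res F inf_le_left _ s).symm }
    (fun V r s => by
      refine uncut_injective (W := W) (N := N) ?_
      refine (uncut_cut _).trans (Eq.trans ?_ (uncut_smul r (cutSec _)).symm)
      rw [uncut_cut, ← l.sec_smul]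
      congr 1
      exact res_smul F _ r s)⟩

lemma LHom.uncut_cutHom {F : X.Modules} (l : LHom W F N) {V : X.Opens} (s : Γ(F, V)) :
    uncutSec (l.cutHom.app V s) = l.sec (inf_le_right : V ⊓ W ≤ W) (res F inf_le_left s) :=
  uncut_cut _

/-- Global stalk maps give a morphism. -/
noncomputable def LHom.toHom {F : X.Modules} (l : LHom ⊤ F N) : F ⟶ N :=
  ⟨PresheafOfModules.homMk
    { app := fun V => AddCommGrpCat.ofHom
        (AddMonoidHom.mk' (fun s : Γ(F, V.unop) => l.sec le_top s) (l.sec_add le_top))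
      naturality := fun {V V'} i => by
        ext s
        exact (l.sec_res le_top i.unop.le s).symm }
    (fun V r s => l.sec_smul le_top r s)⟩

lemma LHom.stalkLin_toHom {F : X.Modules} (l : LHom ⊤ F N) (x : X) :
    stalkLin l.toHom x = l.toFun x trivial := by
  refine LinearMap.ext fun t => ?_
  obtain ⟨V, hxV, s, rfl⟩ := exists_germM_eq F x t
  rw [stalkLin_germ]
  exact l.germ_sec le_top s x hxV

end cut

section affine

variable {F N : X.Modules} [F.IsQuasicoherent] {U : X.Opens} (hU : IsAffineOpen U)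
  (η : Γ(F, U) →ₗ[Γ(X, U)] Γ(N, U)) {x : X} (hx : x ∈ U)

/-- The stalk map of a linear map on sections over an affine open. -/
noncomputable def stalkExt : F.presheaf.stalk x →ₗ[X.presheaf.stalk x] N.presheaf.stalk x :=
  letI := stalkModule F hx
  letI := stalkModule N hx
  letI : Algebra Γ(X, U) (X.presheaf.stalk x) := (X.presheaf.germ U x hx).hom.toAlgebra
  haveI : IsScalarTower Γ(X, U) (X.presheaf.stalk x) (F.presheaf.stalk x) :=
    IsScalarTower.of_algebraMap_smul fun _ _ => rfl
  haveI : IsScalarTower Γ(X, U) (X.presheaf.stalk x) (N.presheaf.stalk x) :=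
    IsScalarTower.of_algebraMap_smul fun _ _ => rfl
  haveI := hU.isLocalization_stalk ⟨x, hx⟩
  ((isLocalizedModule_iff_isBaseChange (hU.primeIdealOf ⟨x, hx⟩).asIdeal.primeCompl
    (X.presheaf.stalk x) _).mp (isLocalizedModule_germLin F hU hx)).lift ((germLin N hx).comp η)

lemma stalkExt_germ (m : Γ(F, U)) :
    stalkExt hU η hx (germM F U x hx m) = germM N U x hx (η m) := by
  letI := stalkModule F hx
  letI := stalkModule N hx
  letI : Algebra Γ(X, U) (X.presheaf.stalk x) := (X.presheaf.germ U x hx).hom.toAlgebra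
  haveI : IsScalarTower Γ(X, U) (X.presheaf.stalk x) (F.presheaf.stalk x) :=
    IsScalarTower.of_algebraMap_smul fun _ _ => rfl
  haveI : IsScalarTower Γ(X, U) (X.presheaf.stalk x) (N.presheaf.stalk x) :=
    IsScalarTower.of_algebraMap_smul fun _ _ => rfl
  haveI := hU.isLocalization_stalk ⟨x, hx⟩
  exact IsBaseChange.lift_eq ((isLocalizedModule_iff_isBaseChange
    (hU.primeIdealOf ⟨x, hx⟩).asIdeal.primeCompl (X.presheaf.stalk x) _).mp
      (isLocalizedModule_germLin F hU hx)) ((germLin N hx).comp η) m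

include hU hx in
lemma stalk_hom_ext {P : Type u} [AddCommGroup P] [Module (X.presheaf.stalk x) P]
    (a b : F.presheaf.stalk x →ₗ[X.presheaf.stalk x] P)
    (h : ∀ m : Γ(F, U), a (germM F U x hx m) = b (germM F U x hx m)) : a = b := by
  letI := stalkModule F hx
  letI : Algebra Γ(X, U) (X.presheaf.stalk x) := (X.presheaf.germ U x hx).hom.toAlgebra
  haveI : IsScalarTower Γ(X, U) (X.presheaf.stalk x) (F.presheaf.stalk x) :=
    IsScalarTower.of_algebraMap_smul fun _ _ => rfl
  haveI := hU.isLocalization_stalk ⟨x, hx⟩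
  exact ((isLocalizedModule_iff_isBaseChange (hU.primeIdealOf ⟨x, hx⟩).asIdeal.primeCompl
    (X.presheaf.stalk x) _).mp (isLocalizedModule_germLin F hU hx)).algHom_ext a b h

/-- A linear map on sections over an affine open gives stalk maps over it. -/
noncomputable def lhomOfAffine : LHom U F N where
  toFun _ hx := stalkExt hU η hx
  exists_sec V s x hxV hxU := by
    obtain ⟨r, hrle, hxr⟩ := hU.exists_basicOpen_le ⟨x, hxV⟩ hxU
    obtain ⟨n, m, hm⟩ := (isLocalizingAt F hU r).surj (res F hrle s)
    have hu : IsUnit (rres (X.basicOpen_le r) r ^ n) :=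
      (RingedSpace.isUnit_res_basicOpen X.toRingedSpace r).pow n
    refine ⟨X.basicOpen r, hrle, X.basicOpen_le r, hxr,
      (↑hu.unit⁻¹ : Γ(X, X.basicOpen r)) • res N (X.basicOpen_le r) (η m), fun y hy => ?_⟩
    have h1 : germM F V y (hrle hy) s = X.presheaf.germ (X.basicOpen r) y hy
        (↑hu.unit⁻¹ : Γ(X, X.basicOpen r)) • germM F U y (X.basicOpen_le r hy) m := by
      rw [← germM_res F (X.basicOpen_le r) m y hy, hm, ← germM_res F hrle s y hy, ← germM_smul,
        smul_smul, hu.val_inv_mul, one_smul]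
    rw [h1, map_smul, stalkExt_germ, germM_smul, germM_res]

end affine

end Groth.Agent.LimTop
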