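import Mathlib.AlgebraicGeometry.Morphisms.FinitePresentation
import Mathlib.Topology.Spectral.ConstructibleTopology
import Groth.Prelude.Def_ProCons

/-!
Constructible topology on schemes: continuity, closedness of pro-constructible sets.
-/

universe u

open CategoryTheory AlgebraicGeometry Topology TopologicalSpace

namespace Groth.Agent.LimTop

section Top

variable {X : Type*} [TopologicalSpace X]

lemma isClopen_cons_of_isConstructible [CompactSpace X] {s : Set X}
    (hs : IsConstructible s) :
    IsOpen[constructibleTopology X] s ∧ IsClosed[constructibleTopology X] s := by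
  induction hs using IsConstructible.empty_union_induction with
  | open_retrocompact U ho hr =>
    refine ⟨hr.isCompact.isOpen_constructibleTopology_of_isOpen ho, ?_⟩
    have : IsOpen[constructibleTopology X] Uᶜ :=
      IsCompact.isOpen_constructibleTopology_of_isClosed (by simpa using hr.isCompact)
        ho.isClosed_compl
    exact (@isOpen_compl_iff X _ (constructibleTopology X)).mp this
  | union s _ t _ hs' ht' =>
    exact ⟨@IsOpen.union X s t (constructibleTopology X) hs'.1 ht'.1,
      @IsClosed.union X s t (constructibleTopology X) hs'.2 ht'.2⟩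
  | compl s _ hs' =>
    exact ⟨(@isOpen_compl_iff X _ (constructibleTopology X)).mpr hs'.2,
      (@isClosed_compl_iff X (constructibleTopology X) _).mpr hs'.1⟩

instance t2Space_withConstructibleTopology [PrespectralSpace X] [T0Space X] :
    T2Space (WithConstructibleTopology X) := by
  constructor
  rintro ⟨x⟩ ⟨y⟩ hxy
  have hne : x ≠ y := fun h ↦ hxy (by simp [h])
  obtain ⟨U, hU, hU'⟩ := exists_isOpen_xor_mem hne
  have key : ∀ a b : X, a ∈ U → b ∉ U → ∃ V : Set X, a ∈ V ∧ b ∉ V ∧
      IsOpen[constructibleTopology X] V ∧ IsOpen[constructibleTopology X] Vᶜ := by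
    intro a b ha hb
    obtain ⟨V, ⟨hV₁, hV₂⟩, haV, hVU⟩ :=
      PrespectralSpace.isTopologicalBasis.exists_subset_of_mem_open ha hU
    exact ⟨V, haV, fun h ↦ hb (hVU h), hV₂.isOpen_constructibleTopology_of_isOpen hV₁,
      IsCompact.isOpen_constructibleTopology_of_isClosed (by simpa using hV₂) hV₁.isClosed_compl⟩
  rcases hU' with ⟨ha, hb⟩ | ⟨ha, hb⟩
  · obtain ⟨V, h₁, h₂, h₃, h₄⟩ := key x y ha hb
    exact ⟨WithTopology.ofTopology ⁻¹' V, WithTopology.ofTopology ⁻¹' Vᶜ, h₃, h₄, h₁, h₂,
      disjoint_compl_right.preimage _⟩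
  · obtain ⟨V, h₁, h₂, h₃, h₄⟩ := key y x ha hb
    exact ⟨WithTopology.ofTopology ⁻¹' Vᶜ, WithTopology.ofTopology ⁻¹' V, h₄, h₃, h₂, h₁,
      disjoint_compl_left.preimage _⟩

lemma isClosed_cons_singleton [PrespectralSpace X] [T0Space X] (x : X) :
    IsClosed[constructibleTopology X] {x} := by
  have h := (isClosed_singleton (x := (WithTopology.toTopology (constructibleTopology X) x)))
  rw [WithTopology.isClosed_iff] at h
  convert h using 1
  ext y
  simp

lemma isLocallyConstructible_compl {s : Set X} (hs : IsLocallyConstructible s) :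
    IsLocallyConstructible sᶜ := fun x ↦
  let ⟨U, h₁, h₂, h₃⟩ := hs x
  ⟨U, h₁, h₂, by simpa using h₃.compl⟩

lemma isProConstructible_compl {F : Set X} (hF : ProCons.IsIndConstructible F) :
    ProCons.IsProConstructible Fᶜ := by
  intro x
  obtain ⟨U, hU, hx, S, hS, e⟩ := hF x
  refine ⟨U, hU, hx, compl '' S, ?_, ?_⟩
  · rintro _ ⟨T, hT, rfl⟩
    exact isLocallyConstructible_compl (hS T hT)
  · rw [Set.preimage_compl, e, Set.compl_sUnion]

end Top

variable {X Y : Scheme.{u}}

lemma isClosed_cons_of_isClosed [CompactSpace X] [QuasiSeparatedSpace X] {s : Set X}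
    (hs : IsClosed s) : IsClosed[constructibleTopology X] s := by
  have : IsOpen[constructibleTopology X] sᶜ := by
    rw [PrespectralSpace.isTopologicalBasis.open_eq_sUnion' hs.isOpen_compl]
    exact @isOpen_sUnion X (constructibleTopology X) _ fun t ht ↦
      ht.1.2.isOpen_constructibleTopology_of_isOpen ht.1.1
  exact (@isOpen_compl_iff X _ (constructibleTopology X)).mp this

lemma continuous_cons (f : X ⟶ Y) [QuasiCompact f] :
    @Continuous X Y (constructibleTopology X) (constructibleTopology Y) f := by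
  refine continuous_generateFrom_iff.mpr ?_
  rintro s (⟨ho, hc⟩ | ⟨hcl, hc⟩)
  · exact isOpen_generateFrom_of_mem
      (.inl ⟨ho.preimage f.continuous, QuasiCompact.isCompact_preimage (f := f) _ ho hc⟩)
  · refine isOpen_generateFrom_of_mem (.inr ⟨hcl.preimage f.continuous, ?_⟩)
    rw [← Set.preimage_compl]
    exact QuasiCompact.isCompact_preimage (f := f) _ hcl.isOpen_compl hc

lemma continuous_withCons (f : X ⟶ Y) [QuasiCompact f] :
    Continuous fun x : WithConstructibleTopology X ↦
      WithTopology.toTopology (constructibleTopology Y) (f x.ofTopology) :=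
  ⟨fun _ hs ↦ (WithTopology.isOpen_iff _).mpr
    (@Continuous.isOpen_preimage _ _ (constructibleTopology X) (constructibleTopology Y) _
      (continuous_cons f) _ ((WithTopology.isOpen_iff _).mp hs))⟩

lemma isLocallyConstructible_preimage (f : X ⟶ Y) {T : Set Y} (hT : IsLocallyConstructible T) :
    IsLocallyConstructible (f ⁻¹' T) := by
  intro x
  obtain ⟨W, hW, hWo, hWT⟩ := hT (f x)
  refine ⟨f ⁻¹' W, (hWo.preimage f.continuous).mem_nhds (mem_of_mem_nhds hW :),
    hWo.preimage f.continuous, ?_⟩
  have := (f ∣_ (⟨W, hWo⟩ : Y.Opens)).isConstructible_preimage hWT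
  have e : (Subtype.val ⁻¹' (f ⁻¹' T) : Set ↥(f ⁻¹ᵁ (⟨W, hWo⟩ : Y.Opens))) =
      (f ∣_ (⟨W, hWo⟩ : Y.Opens)) ⁻¹' (Subtype.val ⁻¹' T) := by
    ext ⟨z, hz⟩
    exact (congrArg (· ∈ T) (morphismRestrict_base_coe f ⟨W, hWo⟩ ⟨z, hz⟩)).symm.to_iff
  exact (congrArg (fun A ↦ IsConstructible A) e).mpr this

/-- The preimage of a pro-constructible set in an affine scheme is closed in the constructible
topology. -/
lemma isClosed_cons_preimage [CompactSpace X] [QuasiSeparatedSpace X] (g : X ⟶ Y) {E : Set Y}
    (hE : ProCons.IsProConstructible E) :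
    IsClosed[constructibleTopology X] (g ⁻¹' E) := by
  choose U hUo hUm S hS hSE using fun y ↦ hE y
  let U' : Y → Y.Opens := fun y ↦ ⟨U y, hUo y⟩
  have hV : ∀ x : X, ∃ V : X.Opens, IsAffineOpen V ∧ x ∈ V ∧ V ≤ g ⁻¹ᵁ U' (g x) := fun x ↦ by
    obtain ⟨_, ⟨V, hV, rfl⟩, h1, h2⟩ := X.isBasis_affineOpens.exists_subset_of_mem_open
      (show x ∈ ((g ⁻¹ᵁ U' (g x) : X.Opens) : Set X) from hUm (g x)) (g ⁻¹ᵁ U' (g x)).2
    exact ⟨V, hV, h1, h2⟩
  choose V hVa hxV hVU using hV
  obtain ⟨t, ht⟩ := CompactSpace.elim_nhds_subcover (fun x ↦ (V x : Set X))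
    fun x ↦ (V x).2.mem_nhds (hxV x)
  have hpiece : ∀ x : X, IsClosed[constructibleTopology X] ((V x : Set X) ∩ g ⁻¹' E) := by
    intro x
    let h := g.resLE (U' (g x)) (V x) (hVU x)
    have hc : ∀ T ∈ S (g x), IsClosed[constructibleTopology X]
        (Subtype.val '' (h ⁻¹' T) : Set X) := by
      intro T hT
      have : IsAffine (V x).toScheme := hVa x
      have h1 : IsConstructible (h ⁻¹' T) :=
        (isLocallyConstructible_preimage h (hS _ T hT)).isConstructible
      have h2 := h1.image_of_isOpenEmbedding (V x).2.isOpenEmbedding_subtypeVal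
        (by simpa using (hVa x).isCompact.isRetrocompact (V x).2)
      exact (isClopen_cons_of_isConstructible h2).2
    have hVc : IsClosed[constructibleTopology X] (V x : Set X) :=
      (isClopen_cons_of_isConstructible ((hVa x).isCompact.isConstructible (V x).2)).2
    have e : (V x : Set X) ∩ g ⁻¹' E =
        (V x : Set X) ∩ ⋂ T ∈ S (g x), (Subtype.val '' (h ⁻¹' T) : Set X) := by
      ext z
      simp only [Set.mem_inter_iff, SetLike.mem_coe, Set.mem_preimage, Set.mem_iInter, Set.mem_image]
      refine and_congr_right fun hz ↦ ?_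
      have hh : ∀ p : (V x).toScheme, (h p).1 = g p.1 := fun p ↦ by
        exact ((Scheme.Hom.comp_apply _ _ _).symm.trans
          (congr($(Scheme.Hom.resLE_comp_ι g (hVU x)) p))).trans (Scheme.Hom.comp_apply _ _ _)
      constructor
      · intro hgE T hT
        refine ⟨⟨z, hz⟩, ?_, rfl⟩
        have : h ⟨z, hz⟩ ∈ (Subtype.val ⁻¹' E : Set (U (g x))) := by
          show (h ⟨z, hz⟩).1 ∈ E
          exact (congrArg (· ∈ E) (hh ⟨z, hz⟩)).mpr hgE
        rw [hSE] at this
        exact this T hT
      · intro H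
        have : h ⟨z, hz⟩ ∈ (Subtype.val ⁻¹' E : Set (U (g x))) := by
          rw [hSE]
          intro T hT
          obtain ⟨w, hw, hwz⟩ := H T hT
          obtain rfl : w = ⟨z, hz⟩ := Subtype.ext hwz
          exact hw
        have h' : (h ⟨z, hz⟩).1 ∈ E := this
        exact (congrArg (· ∈ E) (hh ⟨z, hz⟩)).mp h'
    rw [e]
    letI := constructibleTopology X
    exact hVc.inter (isClosed_biInter fun T hT ↦ hc T hT)
  have e : g ⁻¹' E = ⋃ x ∈ t, ((V x : Set X) ∩ g ⁻¹' E) := by
    rw [← Set.iUnion₂_inter, ht, Set.top_eq_univ, Set.univ_inter]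
  rw [e]
  letI := constructibleTopology X
  exact isClosed_biUnion_finset fun x _ ↦ hpiece x

lemma isOpen_cons_preimage [CompactSpace X] [QuasiSeparatedSpace X] (g : X ⟶ Y) {F : Set Y}
    (hF : ProCons.IsIndConstructible F) :
    IsOpen[constructibleTopology X] (g ⁻¹' F) := by
  have := (isClosed_cons_preimage g (isProConstructible_compl hF))
  rw [Set.preimage_compl] at this
  exact (@isClosed_compl_iff X (constructibleTopology X) _).mp this

lemma isProConstructible_of_isLocallyConstructible {T : Type*} [TopologicalSpace T] {s : Set T}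
    (hs : IsLocallyConstructible s) : ProCons.IsProConstructible s := fun x ↦ by
  obtain ⟨U, h₁, h₂, h₃⟩ := hs x
  exact ⟨U, h₂, mem_of_mem_nhds h₁, {Subtype.val ⁻¹' s},
    by simpa using h₃.isLocallyConstructible, by simp⟩

lemma isIndConstructible_of_isLocallyConstructible {T : Type*} [TopologicalSpace T] {s : Set T}
    (hs : IsLocallyConstructible s) : ProCons.IsIndConstructible s := fun x ↦ by
  obtain ⟨U, h₁, h₂, h₃⟩ := hs x
  exact ⟨U, h₂, mem_of_mem_nhds h₁, {Subtype.val ⁻¹' s},
    by simpa using h₃.isLocallyConstructible, by simp⟩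

end Groth.Agent.LimTop
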