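import Mathlib.AlgebraicGeometry.AffineTransitionLimit
import Mathlib.Topology.Category.TopCat.Limits.Konig
import Groth.Agent.LimTop.Cons

/-!
Topology of cofiltered limits of schemes with affine transition maps.
-/

universe u

open CategoryTheory AlgebraicGeometry Limits Topology TopologicalSpace Opposite

namespace Groth.Agent.LimTop

variable {I : Type u} [SmallCategory I] {D : I ⥤ Scheme.{u}} {c : Cone D}

lemma map_comp_apply (D : I ⥤ Scheme.{u}) {i j k : I} (φ : i ⟶ j) (ψ : j ⟶ k) (x : D.obj i) :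
    D.map (φ ≫ ψ) x = D.map ψ (D.map φ x) := by
  rw [D.map_comp, Scheme.Hom.comp_apply]

lemma map_id_apply (D : I ⥤ Scheme.{u}) {i : I} (x : D.obj i) : D.map (𝟙 i) x = x := by
  rw [D.map_id]; rfl

lemma π_apply (c : Cone D) {i j : I} (φ : i ⟶ j) (s : c.pt) :
    D.map φ (c.π.app i s) = c.π.app j s := by
  rw [← Scheme.Hom.comp_apply, c.w]

/-- A compatible family of points of a cofiltered diagram of schemes comes from the limit. -/
theorem exists_point [IsCofiltered I] (hc : IsLimit c) (x : ∀ i, D.obj i)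
    (hx : ∀ (i j : I) (φ : i ⟶ j), D.map φ (x i) = x j) :
    ∃ s : c.pt, ∀ i, c.π.app i s = x i := by
  let m : ∀ {i j : I} (φ : i ⟶ j), (D.obj j).residueField (x j) ⟶ (D.obj i).residueField (x i) :=
    fun {i j} φ ↦ ((D.obj j).residueFieldCongr (hx i j φ).symm).hom ≫ (D.map φ).residueFieldMap (x i)
  have hm : ∀ {i j : I} (φ : i ⟶ j), Spec.map (m φ) ≫ (D.obj j).fromSpecResidueField (x j) =
      (D.obj i).fromSpecResidueField (x i) ≫ D.map φ := by
    intro i j φ
    simp [m, Scheme.residueFieldCongr_fromSpecResidueField]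
  let F : Iᵒᵖ ⥤ CommRingCat.{u} :=
    { obj i := (D.obj i.unop).residueField (x i.unop)
      map φ := m φ.unop
      map_id i := by
        apply Spec.map_injective
        rw [← cancel_mono ((D.obj i.unop).fromSpecResidueField (x i.unop)), hm]
        simp
      map_comp {i j k} φ ψ := by
        apply Spec.map_injective
        rw [← cancel_mono ((D.obj i.unop).fromSpecResidueField (x i.unop)), hm, Spec.map_comp,
          Category.assoc, hm, ← Category.assoc, hm, Category.assoc, ← D.map_comp, unop_comp] }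
  have (i : Iᵒᵖ) : Nontrivial (F.obj i) := by
    dsimp only [F]; infer_instance
  have : Nontrivial (colimit F : CommRingCat) :=
    CommRingCat.FilteredColimits.nontrivial (colimit.isColimit F)
  obtain ⟨p⟩ : Nonempty (Spec (colimit F)) := inferInstanceAs (Nonempty (PrimeSpectrum _))
  let s : Cone D :=
    { pt := Spec (colimit F)
      π :=
        { app i := Spec.map (colimit.ι F (op i)) ≫ (D.obj i).fromSpecResidueField (x i)
          naturality i j φ := by
            simp only [Functor.const_obj_obj, Functor.const_obj_map, Category.id_comp]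
            rw [← colimit.w F φ.op, Spec.map_comp, Category.assoc, Category.assoc]
            exact congrArg _ (hm φ) } }
  refine ⟨hc.lift s p, fun i ↦ ?_⟩
  rw [← Scheme.Hom.comp_apply, hc.fac, Scheme.Hom.comp_apply]
  exact Scheme.fromSpecResidueField_apply _ _

/-- A version of `exists_point` for a family given over a fixed index. -/
theorem exists_point_over [IsCofiltered I] (hc : IsLimit c) {i₀ : I}
    (x : ∀ j, (j ⟶ i₀) → D.obj j)
    (hx : ∀ (j k : I) (ψ : k ⟶ j) (φ : j ⟶ i₀), D.map ψ (x k (ψ ≫ φ)) = x j φ) :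
    ∃ s : c.pt, ∀ (j : I) (φ : j ⟶ i₀), c.π.app j s = x j φ := by
  obtain ⟨s, hs⟩ := exists_point (D := Over.forget i₀ ⋙ D)
    ((Functor.Initial.isLimitWhiskerEquiv (Over.forget i₀) c).symm hc) (fun j ↦ x j.left j.hom)
    (fun j k φ ↦ by
      have := hx k.left j.left φ.left k.hom
      rwa [Over.w φ] at this)
  exact ⟨s, fun j φ ↦ hs (Over.mk φ)⟩

variable [∀ (i j : I) (f : i ⟶ j), IsAffineHom (D.map f)]

lemma isBasis_preimage_isAffineOpen [IsCofiltered I] (hc : IsLimit c) :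
    TopologicalSpace.Opens.IsBasis
      { (c.π.app i ⁻¹ᵁ V : c.pt.Opens) | (i : I) (V : (D.obj i).Opens) (_ : IsAffineOpen V) } :=
  AlgebraicGeometry.isBasis_preimage_isAffineOpen D c hc

/-- Any neighbourhood in the limit contains the preimage of an affine open of a stage over `i₀`. -/
theorem exists_nhd [IsCofiltered I] (hc : IsLimit c) (i₀ : I) {W : Set c.pt} (hW : IsOpen W)
    {s : c.pt} (hs : s ∈ W) :
    ∃ (j : I) (_ : j ⟶ i₀) (V : (D.obj j).Opens), IsAffineOpen V ∧ c.π.app j s ∈ V ∧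
      c.π.app j ⁻¹' (V : Set (D.obj j)) ⊆ W := by
  obtain ⟨_, ⟨i, V, hV, rfl⟩, hsV, hVW⟩ :=
    TopologicalSpace.Opens.isBasis_iff_nbhd.mp (isBasis_preimage_isAffineOpen hc)
      (show s ∈ (⟨W, hW⟩ : c.pt.Opens) from hs)
  refine ⟨IsCofiltered.min i i₀, IsCofiltered.minToRight _ _,
    D.map (IsCofiltered.minToLeft i i₀) ⁻¹ᵁ V, hV.preimage _, ?_, ?_⟩
  · show D.map _ (c.π.app _ s) ∈ V
    rw [π_apply]
    exact hsV
  · intro t ht
    apply hVW
    show c.π.app i t ∈ V
    rw [← π_apply c (IsCofiltered.minToLeft i i₀)]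
    exact ht

/-- Points of the limit are determined by their projections. -/
theorem point_ext [IsCofiltered I] (hc : IsLimit c) (i₀ : I) {s t : c.pt}
    (h : ∀ (j : I), (j ⟶ i₀) → c.π.app j s = c.π.app j t) : s = t := by
  have key : ∀ a b : c.pt, (∀ (j : I), (j ⟶ i₀) → c.π.app j a = c.π.app j b) → a ⤳ b := by
    intro a b hab
    rw [specializes_iff_forall_open]
    intro W hW hb
    obtain ⟨j, φ, V, -, hbV, hVW⟩ := exists_nhd hc i₀ hW hb
    exact hVW (show c.π.app j a ∈ V from hab j φ ▸ hbV)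
  exact ((key s t h).antisymm (key t s fun j φ ↦ (h j φ).symm)).eq

/-- The limit of nonempty subsets closed in the constructible topology of affine opens is nonempty. -/
theorem exists_mem_of_isClosed_cons [IsCofiltered I] (hc : IsLimit c) {i₀ : I}
    (U : (D.obj i₀).Opens) (hU : IsAffineOpen U) (C : ∀ j, (j ⟶ i₀) → Set (D.obj j))
    (hC : ∀ (j : I) (φ : j ⟶ i₀), IsClosed[constructibleTopology (D.map φ ⁻¹ᵁ U).toScheme]
      ((D.map φ ⁻¹ᵁ U).ι ⁻¹' C j φ))
    (hne : ∀ (j : I) (φ : j ⟶ i₀), (((D.map φ ⁻¹ᵁ U : (D.obj j).Opens) : Set (D.obj j)) ∩ C j φ).Nonempty)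
    (hm : ∀ (j k : I) (ψ : k ⟶ j) (φ : j ⟶ i₀), Set.MapsTo (D.map ψ) (C k (ψ ≫ φ)) (C j φ)) :
    ∃ s : c.pt, ∀ (j : I) (φ : j ⟶ i₀),
      c.π.app j s ∈ ((D.map φ ⁻¹ᵁ U : (D.obj j).Opens) : Set (D.obj j)) ∩ C j φ := by
  have haff (j : Over i₀) : IsAffine ((opensDiagram D i₀ U).obj j) := hU.preimage _
  have hval {j k : Over i₀} (f : j ⟶ k) (x : (opensDiagram D i₀ U).obj j) :
      ((opensDiagram D i₀ U).map f x).1 = D.map f.left x.1 := by
    have := congr($((opensDiagramι D i₀ U).naturality f) x)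
    exact this
  let cl (j : Over i₀) : Set (WithConstructibleTopology ((opensDiagram D i₀ U).obj j)) :=
    WithTopology.ofTopology ⁻¹' ((D.map j.hom ⁻¹ᵁ U).ι ⁻¹' C j.left j.hom)
  have hcl (j : Over i₀) : IsClosed (cl j) := by
    rw [WithTopology.isClosed_iff]
    exact hC j.left j.hom
  have hmaps {j k : Over i₀} (f : j ⟶ k)
      (x : WithConstructibleTopology ((opensDiagram D i₀ U).obj j)) (hx : x ∈ cl j) :
      WithTopology.toTopology _ ((opensDiagram D i₀ U).map f x.ofTopology) ∈ cl k := by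
    show ((opensDiagram D i₀ U).map f x.ofTopology).1 ∈ C k.left k.hom
    rw [hval]
    have := hm k.left j.left f.left k.hom
    rw [Over.w f] at this
    exact this hx
  let F : Over i₀ ⥤ TopCat.{u} :=
    { obj j := TopCat.of (cl j)
      map {j k} f := TopCat.ofHom
        { toFun x := ⟨WithTopology.toTopology _ ((opensDiagram D i₀ U).map f x.1.ofTopology),
            hmaps f x.1 x.2⟩
          continuous_toFun := by
            refine Continuous.subtype_mk ?_ _
            exact (continuous_withCons _).comp continuous_subtype_val }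
      map_id j := by
        ext x
        refine Subtype.ext ?_
        exact (hval (𝟙 j) _).trans (map_id_apply D _)
      map_comp f g := by
        ext x
        refine Subtype.ext ?_
        refine (hval (f ≫ g) _).trans ?_
        rw [Over.comp_left, map_comp_apply]
        exact ((hval g _).trans (congrArg _ (hval f _))).symm }
  have (j : Over i₀) : Nonempty (F.obj j) := by
    obtain ⟨x, hx, hx'⟩ := hne j.left j.hom
    exact ⟨⟨WithTopology.toTopology _ ⟨x, hx⟩, hx'⟩⟩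
  have (j : Over i₀) : CompactSpace (F.obj j) :=
    isCompact_iff_compactSpace.mp (hcl j).isCompact
  have (j : Over i₀) : T2Space (F.obj j) := inferInstanceAs (T2Space (cl j))
  obtain ⟨x, hx⟩ := TopCat.nonempty_limitCone_of_compact_t2_cofiltered_system.{u} F
  obtain ⟨s, hs⟩ := exists_point_over hc (fun j φ ↦ (x (Over.mk φ)).1.ofTopology.1)
    (fun j k ψ φ ↦ by
      have h := hx (Over.homMk ψ : Over.mk (ψ ≫ φ) ⟶ Over.mk φ)
      exact (hval (Over.homMk ψ : Over.mk (ψ ≫ φ) ⟶ Over.mk φ) _).symm.trans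
        (congrArg (fun z : cl (Over.mk φ) ↦ z.1.ofTopology.1) h))
  refine ⟨s, fun j φ ↦ ?_⟩
  rw [hs j φ]
  exact ⟨(x (Over.mk φ)).1.ofTopology.2, (x (Over.mk φ)).2⟩

/-- If `E ⊆ F` holds in the limit over a quasi-compact open `U` of a stage, with `E` pro-constructible
and `F` ind-constructible, it holds at some stage. -/
theorem exists_inter_subset [IsCofiltered I] (hc : IsLimit c) {i₀ : I}
    (U : (D.obj i₀).Opens) (hU : IsCompact (U : Set (D.obj i₀)))
    (E F : ∀ j, (j ⟶ i₀) → Set (D.obj j))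
    (hE : ∀ j φ, ProCons.IsProConstructible (E j φ)) (hF : ∀ j φ, ProCons.IsIndConstructible (F j φ))
    (hEm : ∀ (j k : I) (ψ : k ⟶ j) (φ : j ⟶ i₀), E k (ψ ≫ φ) ⊆ D.map ψ ⁻¹' E j φ)
    (hFm : ∀ (j k : I) (ψ : k ⟶ j) (φ : j ⟶ i₀), D.map ψ ⁻¹' F j φ ⊆ F k (ψ ≫ φ))
    (H : ∀ s : c.pt, c.π.app i₀ s ∈ U → (∀ j φ, c.π.app j s ∈ E j φ) →
      ∃ j φ, c.π.app j s ∈ F j φ) :
    ∃ (j : I) (φ : j ⟶ i₀), D.map φ ⁻¹' (U : Set (D.obj i₀)) ∩ E j φ ⊆ F j φ := by
  classical
  obtain ⟨S, hS, hUS⟩ := isCompact_and_isOpen_iff_finite_and_eq_biUnion_affineOpens.mp ⟨hU, U.2⟩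
  by_contra! hcon
  have : ∃ V ∈ S, ∀ (j : I) (φ : j ⟶ i₀),
      (((D.map φ ⁻¹ᵁ (V : (D.obj i₀).Opens) : (D.obj j).Opens) : Set (D.obj j)) ∩ (E j φ ∩ (F j φ)ᶜ)).Nonempty := by
    by_contra! h
    choose k φ hk using fun V : S ↦ h V.1 V.2
    have := hS.fintype
    obtain ⟨l, fl, fk, hl⟩ := IsCofiltered.wideCospan φ
    obtain ⟨x, ⟨hxU, hxE⟩, hxF⟩ := Set.not_subset.mp (hcon l fl)
    rw [Set.mem_preimage, hUS] at hxU
    obtain ⟨V, hV, hxV⟩ := Set.mem_iUnion₂.mp hxU
    have : D.map (fk ⟨V, hV⟩) x ∈ (∅ : Set _) := by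
      rw [← hk ⟨V, hV⟩]
      refine ⟨?_, ?_, fun hF' ↦ hxF ?_⟩
      · show D.map (φ ⟨V, hV⟩) (D.map (fk ⟨V, hV⟩) x) ∈ (V : (D.obj i₀).Opens)
        rw [← map_comp_apply, hl]
        exact hxV
      · refine hEm _ _ (fk ⟨V, hV⟩) _ ?_
        rw [hl]
        exact hxE
      · have := hFm _ _ (fk ⟨V, hV⟩) _ hF'
        rw [hl] at this
        exact this
    exact this
  obtain ⟨V, hVS, hV⟩ := this
  obtain ⟨s, hs⟩ := exists_mem_of_isClosed_cons hc (V : (D.obj i₀).Opens) V.2 (fun j φ ↦ E j φ ∩ (F j φ)ᶜ) (fun j φ ↦ by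
      have : IsAffine (D.map φ ⁻¹ᵁ (V : (D.obj i₀).Opens)).toScheme := V.2.preimage _
      rw [Set.preimage_inter, Set.preimage_compl]
      exact @IsClosed.inter _ _ _ (constructibleTopology _)
        (isClosed_cons_preimage _ (hE j φ))
        ((@isClosed_compl_iff _ (constructibleTopology _) _).mpr (isOpen_cons_preimage _ (hF j φ))))
    hV (fun j k ψ φ x hx ↦ ⟨hEm _ _ _ _ hx.1, fun h ↦ hx.2 (hFm _ _ _ _ h)⟩)
  have hsU : c.π.app i₀ s ∈ U := by
    have := (hs i₀ (𝟙 _)).1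
    rw [Scheme.Hom.coe_preimage, Set.mem_preimage, map_id_apply] at this
    show c.π.app i₀ s ∈ (U : Set (D.obj i₀))
    rw [hUS]
    exact Set.mem_iUnion₂.mpr ⟨V, hVS, this⟩
  obtain ⟨j, φ, hF'⟩ := H s hsU fun j φ ↦ (hs j φ).2.1
  exact (hs j φ).2.2 hF'

/-- The whole-space version of `exists_inter_subset`. -/
theorem exists_subset [IsCofiltered I] (hc : IsLimit c) {i₀ : I} [CompactSpace (D.obj i₀)]
    (E F : ∀ j, (j ⟶ i₀) → Set (D.obj j))
    (hE : ∀ j φ, ProCons.IsProConstructible (E j φ)) (hF : ∀ j φ, ProCons.IsIndConstructible (F j φ))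
    (hEm : ∀ (j k : I) (ψ : k ⟶ j) (φ : j ⟶ i₀), E k (ψ ≫ φ) ⊆ D.map ψ ⁻¹' E j φ)
    (hFm : ∀ (j k : I) (ψ : k ⟶ j) (φ : j ⟶ i₀), D.map ψ ⁻¹' F j φ ⊆ F k (ψ ≫ φ))
    (H : ∀ s : c.pt, (∀ j φ, c.π.app j s ∈ E j φ) → ∃ j φ, c.π.app j s ∈ F j φ) :
    ∃ (j : I) (φ : j ⟶ i₀), E j φ ⊆ F j φ := by
  obtain ⟨j, φ, h⟩ := exists_inter_subset hc ⊤ isCompact_univ E F hE hF hEm hFm fun s _ ↦ H s
  exact ⟨j, φ, fun x hx ↦ h ⟨trivial, hx⟩⟩

/-- The image of a projection is the intersection of the images of the transition maps. -/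
theorem mem_range_π_iff [IsCofiltered I] (hc : IsLimit c) {i : I} (x : D.obj i) :
    x ∈ Set.range (c.π.app i) ↔ ∀ (j : I) (φ : j ⟶ i), x ∈ Set.range (D.map φ) := by
  refine ⟨fun ⟨s, hs⟩ j φ ↦ ⟨c.π.app j s, (π_apply c φ s).trans hs⟩, fun h ↦ ?_⟩
  obtain ⟨_, ⟨U, hU, rfl⟩, hxU, -⟩ :=
    (D.obj i).isBasis_affineOpens.exists_subset_of_mem_open (Set.mem_univ x) isOpen_univ
  obtain ⟨s, hs⟩ := exists_mem_of_isClosed_cons hc U hU (fun j φ ↦ D.map φ ⁻¹' {x})
    (fun j φ ↦ by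
      have : IsAffine (D.map φ ⁻¹ᵁ U).toScheme := hU.preimage _
      have : IsAffine (Scheme.Opens.toScheme U) := hU
      have e : (D.map φ ⁻¹ᵁ U).ι ⁻¹' (D.map φ ⁻¹' {x}) =
          (D.map φ ∣_ U) ⁻¹' {(⟨x, hxU⟩ : (Scheme.Opens.toScheme U))} := by
        ext y
        show D.map φ y.1 = x ↔ (D.map φ ∣_ U) y = (⟨x, hxU⟩ : U)
        constructor
        · exact fun e ↦ Subtype.ext ((morphismRestrict_base_coe (D.map φ) U y).trans e)
        · exact fun e ↦ (morphismRestrict_base_coe (D.map φ) U y).symm.trans (congrArg Subtype.val e)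
      rw [e]
      exact @IsClosed.preimage _ _ (constructibleTopology _) (constructibleTopology _) _
        (continuous_cons _) _ (isClosed_cons_singleton _))
    (fun j φ ↦ by
      obtain ⟨y, hy⟩ := h j φ
      exact ⟨y, show D.map φ y ∈ U from hy ▸ hxU, hy⟩)
    (fun j k ψ φ y hy ↦ (map_comp_apply D ψ φ y).symm.trans hy)
  exact ⟨s, by simpa [map_id_apply] using (hs i (𝟙 i)).2⟩

end Groth.Agent.LimTop
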