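import Groth.Agent.LimTop.Descend

/-!
Closures of pro-constructible sets.
-/

universe u

open CategoryTheory AlgebraicGeometry Limits Topology TopologicalSpace Opposite

namespace Groth.Agent.LimTop

/-- A point in the closure of a pro-constructible set specializes from a point of the set. -/
theorem exists_specializes_of_mem_closure {X : Scheme.{u}} {E : Set X}
    (hE : ProCons.IsProConstructible E) {y : X} (hy : y ∈ closure E) : ∃ z ∈ E, z ⤳ y := by
  obtain ⟨_, ⟨V, hV, rfl⟩, hyV, -⟩ :=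
    X.isBasis_affineOpens.exists_subset_of_mem_open (Set.mem_univ y) isOpen_univ
  have : IsAffine (Scheme.Opens.toScheme V) := hV
  let y' : Scheme.Opens.toScheme V := ⟨y, hyV⟩
  let C : Set (WithConstructibleTopology (Scheme.Opens.toScheme V)) :=
    WithTopology.ofTopology ⁻¹' ((Scheme.Opens.ι V) ⁻¹' E)
  have hC : IsClosed C := (WithTopology.isClosed_iff _).mpr (isClosed_cons_preimage (Scheme.Opens.ι V) hE)
  let K := {Q : Set (Scheme.Opens.toScheme V) // IsOpen Q ∧ IsCompact Q ∧ y' ∈ Q}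
  have : Nonempty K := ⟨⟨Set.univ, isOpen_univ, isCompact_univ, trivial⟩⟩
  let t : K → Set (WithConstructibleTopology (Scheme.Opens.toScheme V)) :=
    fun Q ↦ WithTopology.ofTopology ⁻¹' Q.1 ∩ C
  have hcl : ∀ Q : K, IsClosed (t Q) := fun Q ↦ by
    refine IsClosed.inter ((WithTopology.isClosed_iff _).mpr ?_) hC
    exact (isClopen_cons_of_isConstructible (Q.2.2.1.isConstructible Q.2.1)).2
  have hne : ∀ Q : K, (t Q).Nonempty := fun Q ↦ by
    obtain ⟨w, ⟨⟨w', hwV⟩, hwQ, rfl⟩, hwE⟩ := mem_closure_iff.mp hy ((Scheme.Opens.ι V) '' Q.1)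
      ((Scheme.Opens.ι V).isOpenEmbedding.isOpenMap _ Q.2.1) ⟨y', Q.2.2.2, rfl⟩
    exact ⟨WithTopology.toTopology _ ⟨w', hwV⟩, hwQ, hwE⟩
  have hdir : Directed (fun A B ↦ A ⊇ B) t := fun P Q ↦
    ⟨⟨P.1 ∩ Q.1, P.2.1.inter Q.2.1,
      P.2.2.1.inter_of_isOpen Q.2.2.1 P.2.1 Q.2.1, P.2.2.2, Q.2.2.2⟩,
      fun z hz ↦ ⟨hz.1.1, hz.2⟩, fun z hz ↦ ⟨hz.1.2, hz.2⟩⟩
  obtain ⟨z, hz⟩ := IsCompact.nonempty_iInter_of_directed_nonempty_isCompact_isClosed t hdir hne
    (fun Q ↦ (hcl Q).isCompact) hcl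
  rw [Set.mem_iInter] at hz
  refine ⟨(Scheme.Opens.ι V) z.ofTopology, (hz ⟨Set.univ, isOpen_univ, isCompact_univ, trivial⟩).2, ?_⟩
  have : z.ofTopology ⤳ y' := by
    rw [specializes_iff_forall_open]
    intro W hW hyW
    obtain ⟨Q, ⟨hQ₁, hQ₂⟩, hyQ, hQW⟩ :=
      PrespectralSpace.isTopologicalBasis.exists_subset_of_mem_open hyW hW
    exact hQW (hz ⟨Q, hQ₁, hQ₂, hyQ⟩).1
  exact this.map (Scheme.Opens.ι V).continuous

/-- Preimages of pro-constructible sets are pro-constructible. -/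
theorem isProConstructible_preimage {X Y : Scheme.{u}} (f : X ⟶ Y) {E : Set Y}
    (hE : ProCons.IsProConstructible E) : ProCons.IsProConstructible (f ⁻¹' E) := by
  intro x
  obtain ⟨U, hU, hxU, S, hS, e⟩ := hE (f x)
  refine ⟨f ⁻¹' U, hU.preimage f.continuous, hxU,
    (fun T ↦ (f ∣_ (⟨U, hU⟩ : Y.Opens)) ⁻¹' T) '' S, ?_, ?_⟩
  · rintro _ ⟨T, hT, rfl⟩
    exact isLocallyConstructible_preimage (f ∣_ (⟨U, hU⟩ : Y.Opens)) (hS T hT)
  · rw [Set.sInter_image]
    ext ⟨z, hz⟩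
    have key : f z ∈ E ↔
        (f ∣_ (⟨U, hU⟩ : Y.Opens)) ⟨z, hz⟩ ∈ (Subtype.val ⁻¹' E : Set U) :=
      (congrArg (· ∈ E) (morphismRestrict_base_coe f ⟨U, hU⟩ ⟨z, hz⟩)).to_iff.symm
    rw [e] at key
    simpa using key.trans Set.mem_sInter

/-- Closure commutes with preimage along generizing maps, for pro-constructible sets. -/
theorem closure_preimage {X Y : Scheme.{u}} (f : X ⟶ Y) (hf : GeneralizingMap f) {E : Set Y}
    (hE : ProCons.IsProConstructible E) : closure (f ⁻¹' E) = f ⁻¹' closure E := by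
  refine (f.continuous.closure_preimage_subset E).antisymm fun x hx ↦ ?_
  obtain ⟨z, hz, hzy⟩ := exists_specializes_of_mem_closure hE hx
  obtain ⟨w, hwx, rfl⟩ := hf hzy
  exact closure_mono (Set.singleton_subset_iff.mpr hz : {w} ⊆ f ⁻¹' E) hwx.mem_closure

end Groth.Agent.LimTop
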