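import Groth.Agent.LimTop.ModSys
import Groth.Agent.Omega.Charts

/-!
# Finite presentation of quasi-coherent modules, affine-locally
-/

universe u

open CategoryTheory Limits AlgebraicGeometry Opposite TopologicalSpace

namespace Groth.Agent.LimTop

open Groth.Agent.QCoh

variable {X Y : Scheme.{u}}

section Spec

variable {R : CommRingCat.{u}} (N : (Spec R).Modules) [N.IsQuasicoherent]

/-- A finite presentation gives finitely presented global sections. -/
theorem finitePresentation_of_presentation (P : N.Presentation) [Finite P.generators.I]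
    [Finite P.relations.I] : Module.FinitePresentation R Γ(N, ⊤) := by
  let F : (Spec R).Modules := SheafOfModules.free.{u} P.generators.I
  let p : F ⟶ N := P.generators.π
  have hp : Epi p := P.generators.epi
  let T := (tilde.functor R).obj (ModuleCat.of R (P.generators.I →₀ R))
  have hF : F.IsQuasicoherent :=
    isQuasicoherent_of_iso (M := T) (tildeFinsupp P.generators.I)
  let K : (Spec R).Modules := kernel p
  have hK : K.IsQuasicoherent := isQuasicoherent_kernel p
  let G : K.GeneratingSections := P.relations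
  have : Finite G.I := ‹Finite P.relations.I›
  have hKfin : Module.Finite R Γ(K, ⊤) := finite_of_generators K G
  let gF := (moduleSpecΓFunctor (R := R)).map p
  let gK := (moduleSpecΓFunctor (R := R)).map (kernel.ι p)
  let e := tilde.toOpen (ModuleCat.of R (P.generators.I →₀ R)) ⊤ ≫
    (moduleSpecΓFunctor (R := R)).map (tildeFinsupp P.generators.I).hom
  have he : Function.Bijective e := by
    refine ((ConcreteCategory.bijective_of_isIso
      ((moduleSpecΓFunctor (R := R)).map (tildeFinsupp P.generators.I).hom)).comp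
      (ConcreteCategory.bijective_of_isIso
        (tilde.toOpen (ModuleCat.of R (P.generators.I →₀ R)) ⊤)))
  have hs : Function.Surjective gF := app_surjective_of_epi p (isAffineOpen_top (Spec R))
  let E := LinearEquiv.ofBijective e.hom he
  have : Module.Finite R Γ(F, ⊤) := Module.Finite.of_surjective e.hom he.2
  have hfree : Module.FinitePresentation R ((moduleSpecΓFunctor (R := R)).obj F) :=
    Module.finitePresentation_of_surjective e.hom he.2 (by
      rw [LinearMap.ker_eq_bot.mpr he.1]; exact Submodule.fg_bot)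
  suffices Module.FinitePresentation R ((moduleSpecΓFunctor (R := R)).obj N) from this
  refine Module.finitePresentation_of_surjective (M := (moduleSpecΓFunctor (R := R)).obj F)
    gF.hom hs ?_
  have hker : LinearMap.ker gF.hom = LinearMap.range gK.hom := by
    refine le_antisymm (fun x hx => ?_) ?_
    · obtain ⟨y, hy⟩ := exists_app_eq_of_app_eq_zero
        (ShortComplex.mk (kernel.ι p) p (kernel.condition p))
        (ShortComplex.exact_of_f_is_kernel _ (kernelIsKernel p)) ⊤ x hx
      exact ⟨y, hy⟩
    · rintro _ ⟨y, rfl⟩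
      exact app_app_eq_zero (ShortComplex.mk (kernel.ι p) p (kernel.condition p)) ⊤ y
  rw [hker]
  have : Module.Finite R ((moduleSpecΓFunctor (R := R)).obj K) := hKfin
  exact (Submodule.map_top gK.hom) ▸ Module.Finite.fg_top.map gK.hom

end Spec

theorem finitePresentation_toSpec_iff {U : X.Opens} (hU : IsAffineOpen U) (M : X.Modules) :
    Module.FinitePresentation Γ(X, U) Γ(toSpec hU M, ⊤) ↔
      Module.FinitePresentation Γ(X, U) Γ(M, U) :=
  ⟨fun _ => Module.finitePresentation_of_surjective (toSpecTopLinearEquiv hU M).toLinearMap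
    (toSpecTopLinearEquiv hU M).surjective (by simpa using Submodule.fg_bot),
   fun _ => Module.finitePresentation_of_surjective (toSpecTopLinearEquiv hU M).symm.toLinearMap
    (toSpecTopLinearEquiv hU M).symm.surjective (by simpa using Submodule.fg_bot)⟩

theorem finOn_of_isFiniteType (M : X.Modules) [M.IsQuasicoherent] (hM : CohB1.IsFT M)
    (W : X.Opens) : FinOn M W := fun x hx => by
  have := hM
  obtain ⟨U, hU, hxU, hUW⟩ := exists_isAffineOpen_mem_and_subset hx
  exact ⟨U, hU, hxU, hUW, finite_sections_of_isFiniteType M hU⟩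

theorem fpOn_of_isFP (M : X.Modules) [M.IsQuasicoherent] (hM : CohB1.IsFP M)
    (W : X.Opens) : FPOn M W := fun x hx => by
  obtain ⟨q, hq⟩ := hM.exists_quasicoherentData
  have hc := (Opens.coversTop_iff (U := q.X)).mp q.coversTop
  obtain ⟨i, hi⟩ := Opens.mem_iSup.mp (hc.ge (trivial : x ∈ (⊤ : X.Opens)))
  let V₀ : X.Opens := q.X i
  obtain ⟨U, hU, hxU, hUW⟩ := exists_isAffineOpen_mem_and_subset (show x ∈ V₀ ⊓ W from ⟨hi, hx⟩)
  refine ⟨U, hU, hxU, fun y hy => (hUW hy).2, ?_⟩
  have := hU.isOpenImmersion_fromSpec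
  let t := IsOpenImmersion.lift V₀.ι hU.fromSpec
    (by rw [hU.range_fromSpec, Scheme.Opens.range_ι]; exact fun y hy => (hUW hy).1)
  have : IsOpenImmersion t := by
    have : IsOpenImmersion (t ≫ V₀.ι) := by rw [IsOpenImmersion.lift_fac]; assumption
    exact IsOpenImmersion.of_comp t V₀.ι
  let E := Scheme.Modules.overEquiv V₀
  let F : SheafOfModules.{u} (X.ringCatSheaf.over V₀) ⥤
      SheafOfModules.{u} V₀.toScheme.ringCatSheaf := E.functor
  have : PreservesColimitsOfSize.{u, u} F := E.toAdjunction.leftAdjoint_preservesColimits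
  let P₀ : (M.restrict V₀.ι).Presentation :=
    Omega.Charts.presOfIso ((Scheme.Modules.overFunctorEquiv V₀).app M)
      ((q.presentation i).map F (V₀.sheafOfModulesEquivOverUnit X.ringCatSheaf).symm)
  let P : (toSpec hU M).Presentation :=
    Omega.Charts.presOfIso (((Scheme.Modules.restrictFunctorComp t V₀.ι).symm ≪≫
      Scheme.Modules.restrictFunctorCongr (IsOpenImmersion.lift_fac _ _ _)).app M)
      (Scheme.Modules.presentationRestrict t P₀)
  have hfin := hq.isFinite_presentation i
  have : Finite P.generators.I := hfin.isFiniteType_generators.finite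
  have : Finite P.relations.I := hfin.isFiniteType_relations.finite
  have : (toSpec hU M).IsQuasicoherent := Scheme.Modules.isQuasicoherent_restrictFunctor _ M
  exact (finitePresentation_toSpec_iff hU M).mp
    (finitePresentation_of_presentation (toSpec hU M) P)

theorem isFP_of_fpOn (M : X.Modules) [M.IsQuasicoherent] (h : FPOn M ⊤) : CohB1.IsFP M := by
  refine Omega.Charts.isFP_of_charts M fun x => ?_
  obtain ⟨U, hU, hxU, -, hfp⟩ := h x trivial
  have := hU.isOpenImmersion_fromSpec
  have : (toSpec hU M).IsQuasicoherent := Scheme.Modules.isQuasicoherent_restrictFunctor _ M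
  have hi := Scheme.Modules.isIso_fromTildeΓ_of_isQuasicoherent (toSpec hU M)
  exact ⟨U, hU, (moduleSpecΓFunctor (R := Γ(X, U))).obj (toSpec hU M), hxU,
    (finitePresentation_toSpec_iff hU M).mpr hfp, ⟨@asIso _ _ _ _ (toSpec hU M).fromTildeΓ hi⟩⟩

/-- Finite type sections pull back. -/
theorem FinOn.pullback {M : Y.Modules} [M.IsQuasicoherent] {U : Y.Opens} (h : FinOn M U)
    (g : X ⟶ Y) {W : X.Opens} (hW : W ≤ g ⁻¹ᵁ U) :
    FinOn ((Scheme.Modules.pullback g).obj M) W := fun x hx => by
  obtain ⟨V, hV, hgV, -, hfin⟩ := h (g x) (hW hx)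
  obtain ⟨W', hW', hxW', hle⟩ := exists_isAffineOpen_mem_and_subset
    (show x ∈ W ⊓ g ⁻¹ᵁ V from ⟨hx, hgV⟩)
  have hle' : W' ≤ g ⁻¹ᵁ V := fun y hy => (hle hy).2
  refine ⟨W', hW', hxW', fun y hy => (hle hy).1, ?_⟩
  let := (g.appLE V W' hle').hom.toAlgebra
  let := secModule g M hle'
  have : IsScalarTower Γ(Y, V) Γ(X, W') Γ((Scheme.Modules.pullback g).obj M, W') :=
    IsScalarTower.of_algebraMap_smul fun _ _ => rfl
  exact Module.Finite.equiv (isBaseChange_unitSec g M hle' hV hW').equiv

/-- Finitely presented sections pull back. -/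
theorem FPOn.pullback {M : Y.Modules} [M.IsQuasicoherent] {U : Y.Opens} (h : FPOn M U)
    (g : X ⟶ Y) {W : X.Opens} (hW : W ≤ g ⁻¹ᵁ U) :
    FPOn ((Scheme.Modules.pullback g).obj M) W := fun x hx => by
  obtain ⟨V, hV, hgV, -, hfin⟩ := h (g x) (hW hx)
  obtain ⟨W', hW', hxW', hle⟩ := exists_isAffineOpen_mem_and_subset
    (show x ∈ W ⊓ g ⁻¹ᵁ V from ⟨hx, hgV⟩)
  have hle' : W' ≤ g ⁻¹ᵁ V := fun y hy => (hle hy).2
  refine ⟨W', hW', hxW', fun y hy => (hle hy).1, ?_⟩
  let := (g.appLE V W' hle').hom.toAlgebra
  let := secModule g M hle'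
  have : IsScalarTower Γ(Y, V) Γ(X, W') Γ((Scheme.Modules.pullback g).obj M, W') :=
    IsScalarTower.of_algebraMap_smul fun _ _ => rfl
  exact FinitePresentation.of_isBaseChange (unitSecLin g M hle')
    (isBaseChange_unitSec g M hle' hV hW')

end Groth.Agent.LimTop
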