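import Groth.Agent.S4790
import Groth.Agent.S4652
import Groth.Agent.LimTop.Descend
import Groth.Agent.KFlat.LocFree
import Groth.Agent.VBLib.Basic
import Groth.Agent.Props.QProj

/-!
# Local freeness descends to a stage of a limit of schemes
-/

universe u

open CategoryTheory Limits AlgebraicGeometry Opposite TopologicalSpace

namespace Groth.Agent.LimTop

section locus

variable {X Y : Scheme.{u}}

/-- The points near which `M` is free of a rank in `P`. -/
def lfLocus (P : Set ℕ) (M : X.Modules) : Set X :=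
  {x | ∃ (U : X.Opens) (n : ℕ), n ∈ P ∧ x ∈ U ∧ Nonempty (M.restrict U.ι ≅ FlatMod.freeMod U n)}

lemma isOpen_lfLocus (P : Set ℕ) (M : X.Modules) : IsOpen (lfLocus P M) := by
  rw [isOpen_iff_forall_mem_open]
  rintro x ⟨U, n, hn, hx, e⟩
  exact ⟨U, fun y hy => ⟨U, n, hn, hy, e⟩, U.2, hx⟩

lemma lfLocus_subset_of_iso (P : Set ℕ) {M N : X.Modules} (e : M ≅ N) :
    lfLocus P M ⊆ lfLocus P N := by
  rintro x ⟨U, n, hn, hx, ⟨e'⟩⟩
  exact ⟨U, n, hn, hx, ⟨((Scheme.Modules.restrictFunctor U.ι).mapIso e).symm ≪≫ e'⟩⟩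

lemma preimage_lfLocus_subset (P : Set ℕ) (f : X ⟶ Y) (M : Y.Modules) :
    ⇑f ⁻¹' lfLocus P M ⊆ lfLocus P ((Scheme.Modules.pullback f).obj M) := by
  rintro x ⟨U, n, hn, hx, ⟨e⟩⟩
  exact ⟨f ⁻¹ᵁ U, n, hn, hx, ⟨KFlat.LocFree.restrictPullIso f U _ le_rfl M ≪≫
    (Scheme.Modules.pullback _).mapIso e ≪≫ KFlat.LocFree.pullFreeIso _ n⟩⟩

end locus

variable {I : Type u} [SmallCategory I] [IsCofiltered I] {D : I ⥤ Scheme.{u}} {c : Cone D}
  (hc : IsLimit c) [∀ (i j : I) (f : i ⟶ j), IsAffineHom (D.map f)] {i₀ : I}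

include hc in
/-- Near a point of the limit where the module is free, it is free at some stage. -/
theorem exists_mem_lfLocus (P : Set ℕ) (F : (D.obj i₀).Modules) [F.IsQuasicoherent]
    (hF : CohB1.IsFP F) (s : c.pt)
    (hs : s ∈ lfLocus P ((Scheme.Modules.pullback (c.π.app i₀)).obj F)) :
    ∃ (j : I) (φ : j ⟶ i₀),
      c.π.app j s ∈ lfLocus P ((Scheme.Modules.pullback (D.map φ)).obj F) := by
  obtain ⟨U, n, hn, hsU, ⟨e⟩⟩ := hs
  obtain ⟨j, φ, V, hV, hsV, hVU⟩ := exists_nhd hc i₀ U.2 hsU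
  let i' : Over j := Over.mk (𝟙 j)
  have hid : IsAffineOpen (D.map (𝟙 j) ⁻¹ᵁ V) := hV.preimage _
  have : IsAffine ((opensDiagram D j V).obj i') := hid
  let a : (opensDiagram D j V).obj i' ⟶ D.obj i₀ := (D.map (𝟙 j) ⁻¹ᵁ V).ι ≫ D.map φ
  let W : c.pt.Opens := c.π.app j ⁻¹ᵁ V
  have hWU : W ≤ U := hVU
  have ha : (opensCone D c j V).π.app i' ≫ a = W.ι ≫ c.π.app i₀ := by
    show (c.π.app j).resLE (D.map (𝟙 j) ⁻¹ᵁ V) W _ ≫ (D.map (𝟙 j) ⁻¹ᵁ V).ι ≫ D.map φ = _
    rw [Scheme.Hom.resLE_comp_ι_assoc, c.w]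
  let F' := (Scheme.Modules.pullback a).obj F
  have hF'q : F'.IsQuasicoherent := Groth.Agent.QCoh.isQuasicoherent_pullback a F
  have hF'fp : CohB1.IsFP F' :=
    isFP_of_fpOn F' ((fpOn_of_isFP F hF ⊤).pullback a le_top)
  let H := FlatMod.freeMod ((opensDiagram D j V).obj i') n
  have hHlf := Groth.Agent.S4652.isFinLocFree_freeMod ((opensDiagram D j V).obj i') n
  have hHq : H.IsQuasicoherent := VBLib.isQuasicoherent_freeMod _ n
  have hHfp : CohB1.IsFP H := Props.QProj.isFP _ hHlf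
  have h' : Nonempty ((Scheme.Modules.pullback ((opensCone D c j V).π.app i')).obj F' ≅
      (Scheme.Modules.pullback ((opensCone D c j V).π.app i')).obj H) :=
    ⟨(Scheme.Modules.pullbackComp ((opensCone D c j V).π.app i') a).app F ≪≫
      (Scheme.Modules.pullbackCongr ha).app F ≪≫
      ((Scheme.Modules.pullbackComp W.ι (c.π.app i₀)).app F).symm ≪≫
      (Scheme.Modules.pullbackCongr (c.pt.homOfLE_ι hWU).symm).app _ ≪≫
      ((Scheme.Modules.pullbackComp (c.pt.homOfLE hWU) U.ι).app _).symm ≪≫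
      (Scheme.Modules.pullback _).mapIso
        (((Scheme.Modules.restrictFunctorIsoPullback U.ι).app _).symm ≪≫ e) ≪≫
      KFlat.LocFree.pullFreeIso _ n ≪≫ (KFlat.LocFree.pullFreeIso _ n).symm⟩
  obtain ⟨k, χ, ⟨ek⟩⟩ := (Groth.Agent.S4790.result (opensDiagram D j V) (opensCone D c j V)
    (isLimitOpensCone D c hc j V) i' F' H hF'fp hHfp).mp h'
  refine ⟨k.left, k.hom ≫ φ, D.map k.hom ⁻¹ᵁ V, n, hn, ?_, ⟨?_⟩⟩
  · show D.map k.hom (c.π.app k.left s) ∈ V
    rw [π_apply]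
    exact hsV
  · have hk : χ.left = k.hom := by
      have h := Over.w χ
      simpa [i'] using h
    have hb : (D.map k.hom ⁻¹ᵁ V).ι ≫ D.map (k.hom ≫ φ) = (opensDiagram D j V).map χ ≫ a := by
      show _ = (D.map χ.left).resLE (D.map (𝟙 j) ⁻¹ᵁ V) (D.map k.hom ⁻¹ᵁ V) _ ≫
        (D.map (𝟙 j) ⁻¹ᵁ V).ι ≫ D.map φ
      rw [Scheme.Hom.resLE_comp_ι_assoc, hk, D.map_comp]
    exact (Scheme.Modules.restrictFunctorIsoPullback _).app _ ≪≫
      (Scheme.Modules.pullbackComp _ _).app F ≪≫ (Scheme.Modules.pullbackCongr hb).app F ≪≫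
      ((Scheme.Modules.pullbackComp ((opensDiagram D j V).map χ) a).app F).symm ≪≫ ek ≪≫
      KFlat.LocFree.pullFreeIso _ n

include hc in
/-- Local freeness (with ranks in `P`) holds over the limit iff it holds at some stage. -/
theorem lfLocus_eventually (P : Set ℕ) [CompactSpace (D.obj i₀)] (F : (D.obj i₀).Modules)
    [F.IsQuasicoherent] (hF : CohB1.IsFP F) :
    (∀ s, s ∈ lfLocus P ((Scheme.Modules.pullback (c.π.app i₀)).obj F)) ↔
      ∃ (j : I) (φ : j ⟶ i₀), ∀ x, x ∈ lfLocus P ((Scheme.Modules.pullback (D.map φ)).obj F) := by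
  constructor
  · intro h
    obtain ⟨j, φ, hj⟩ := exists_subset hc (i₀ := i₀) (fun _ _ => Set.univ)
      (fun j φ => lfLocus P ((Scheme.Modules.pullback (D.map φ)).obj F))
      (fun _ _ => isProConstructible_of_isClosed isClosed_univ)
      (fun _ _ => isIndConstructible_of_isOpen (isOpen_lfLocus P _))
      (fun _ _ _ _ _ _ => trivial)
      (fun j k ψ φ => (preimage_lfLocus_subset P (D.map ψ) _).trans
        (lfLocus_subset_of_iso P ((compIso (D.map ψ) (D.map φ) (w_comp ψ φ)).app F)))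
      (fun s _ => exists_mem_lfLocus hc P F hF s (h s))
    exact ⟨j, φ, fun x => hj (Set.mem_univ x)⟩
  · rintro ⟨j, φ, h⟩ s
    exact lfLocus_subset_of_iso P ((compIso (c.π.app j) (D.map φ) (c.w φ)).app F)
      (preimage_lfLocus_subset P (c.π.app j) _ (h _))

end Groth.Agent.LimTop
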