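import Groth.Agent.LimTop.Basic
import Mathlib.CategoryTheory.Limits.Constructions.Over.Connected

/-!
Base change of a cofiltered system of schemes along a morphism to a stage.
-/

universe u

open CategoryTheory AlgebraicGeometry Limits Topology TopologicalSpace Opposite

namespace Groth.Agent.LimTop

variable {I : Type u} [SmallCategory I]

/-- The base change of a system along `h : T ⟶ D i`. -/
noncomputable def bcDiagram (D : I ⥤ Scheme.{u}) (i : I) {T : Scheme.{u}} (h : T ⟶ D.obj i) :
    Over i ⥤ Scheme.{u} :=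
  Over.post D ⋙ Over.pullback h ⋙ Over.forget T

/-- The base change of a cone along `h : T ⟶ D i`. -/
noncomputable def bcCone {D : I ⥤ Scheme.{u}} (c : Cone D) (i : I) {T : Scheme.{u}}
    (h : T ⟶ D.obj i) : Cone (bcDiagram D i h) :=
  (Over.pullback h ⋙ Over.forget T).mapCone ((Over.conePost _ _).obj c)

attribute [local instance] IsCofiltered.isConnected in
/-- The base change of a limit cone is a limit cone. -/
noncomputable def isLimitBcCone [IsCofiltered I] {D : I ⥤ Scheme.{u}} {c : Cone D} (hc : IsLimit c)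
    (i : I) {T : Scheme.{u}} (h : T ⟶ D.obj i) : IsLimit (bcCone c i h) :=
  isLimitOfPreserves (Over.pullback h ⋙ Over.forget T) (Over.isLimitConePost _ hc)

variable {D : I ⥤ Scheme.{u}} [∀ (i j : I) (f : i ⟶ j), IsAffineHom (D.map f)]

instance isAffineHom_bcDiagram_map (i : I) {T : Scheme.{u}} (h : T ⟶ D.obj i) (j k : Over i)
    (f : j ⟶ k) : IsAffineHom ((bcDiagram D i h).map f) :=
  MorphismProperty.overPullbackMap (P := @IsAffineHom) h ((Over.post D).map f)
    (inferInstanceAs (IsAffineHom (D.map f.left)))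

omit [∀ (i j : I) (f : i ⟶ j), IsAffineHom (D.map f)] in
lemma isPullback_bcCone (c : Cone D) (i : I) {T : Scheme.{u}} (h : T ⟶ D.obj i) :
    IsPullback (pullback.fst (c.π.app i) h : (bcCone c i h).pt ⟶ _) (pullback.snd _ _)
      (c.π.app i) h :=
  IsPullback.of_hasPullback _ _

omit [∀ (i j : I) (f : i ⟶ j), IsAffineHom (D.map f)] in
lemma isPullback_bcDiagram (i : I) {T : Scheme.{u}} (h : T ⟶ D.obj i) (j : Over i) :
    IsPullback (pullback.fst (D.map j.hom) h : (bcDiagram D i h).obj j ⟶ _) (pullback.snd _ _)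
      (D.map j.hom) h :=
  IsPullback.of_hasPullback _ _

omit [∀ (i j : I) (f : i ⟶ j), IsAffineHom (D.map f)] in
lemma bcCone_fst (c : Cone D) (i : I) {T : Scheme.{u}} (h : T ⟶ D.obj i) (j : Over i) :
    (bcCone c i h).π.app j ≫ (pullback.fst (D.map j.hom) h : (bcDiagram D i h).obj j ⟶ _) =
      (pullback.fst (c.π.app i) h : (bcCone c i h).pt ⟶ _) ≫ c.π.app j.left :=
  pullback.lift_fst _ _ _

omit [∀ (i j : I) (f : i ⟶ j), IsAffineHom (D.map f)] in
lemma bcCone_snd (c : Cone D) (i : I) {T : Scheme.{u}} (h : T ⟶ D.obj i) (j : Over i) :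
    (bcCone c i h).π.app j ≫ (pullback.snd (D.map j.hom) h : (bcDiagram D i h).obj j ⟶ _) =
      (pullback.snd (c.π.app i) h : (bcCone c i h).pt ⟶ _) :=
  pullback.lift_snd _ _ _

end Groth.Agent.LimTop
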