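import Groth.Agent.LimTop.ModDescend

/-!
# Eventual properties of pulled back sequences of modules
-/

universe u

open CategoryTheory Limits AlgebraicGeometry Opposite TopologicalSpace

namespace Groth.Agent.LimTop

open Groth.Agent.QCoh

variable {I : Type u} [SmallCategory I] [IsCofiltered I] {D : I ⥤ Scheme.{u}} {c : Cone D}
  (hc : IsLimit c) [∀ (i j : I) (f : i ⟶ j), IsAffineHom (D.map f)] {i₀ : I}

omit [IsCofiltered I] in
/-- Epimorphy persists. -/
lemma epi_finer {j k : I} (ψ : k ⟶ j) (φ : j ⟶ i₀) {F G : (D.obj i₀).Modules} (f : F ⟶ G)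
    [Epi ((Scheme.Modules.pullback (D.map φ)).map f)] :
    Epi ((Scheme.Modules.pullback (D.map (ψ ≫ φ))).map f) :=
  epi_of_natIso (compIso (D.map ψ) (D.map φ) (w_comp ψ φ)) f
    (inferInstanceAs (Epi ((Scheme.Modules.pullback (D.map ψ)).map
      ((Scheme.Modules.pullback (D.map φ)).map f))))

omit [IsCofiltered I] [∀ (i j : I) (f : i ⟶ j), IsAffineHom (D.map f)] in
/-- Epimorphy passes to the limit. -/
lemma epi_limit {j : I} (φ : j ⟶ i₀) {F G : (D.obj i₀).Modules} (f : F ⟶ G)
    [Epi ((Scheme.Modules.pullback (D.map φ)).map f)] :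
    Epi ((Scheme.Modules.pullback (c.π.app i₀)).map f) :=
  epi_of_natIso (compIso (c.π.app j) (D.map φ) (c.w φ)) f
    (inferInstanceAs (Epi ((Scheme.Modules.pullback (c.π.app j)).map
      ((Scheme.Modules.pullback (D.map φ)).map f))))

include hc in
/-- Flat transition maps: both the limit projection and the stages give exact pullbacks. -/
theorem preservesHomology_limit (hfl : ∀ (i j : I) (φ : i ⟶ j), Flat (D.map φ)) (j : I) :
    (Scheme.Modules.pullback (c.π.app j)).PreservesHomology :=
  have := flat_π hc j fun i φ => hfl i j φ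
  preservesHomology_pullback _

/-- A pullback functor kills a composite iff it kills the composite from the image. -/
lemma map_image_ι_comp_eq_zero_iff {X Y : Scheme.{u}} (p : X ⟶ Y) {F G H : Y.Modules}
    (f : F ⟶ G) (g : G ⟶ H) :
    (Scheme.Modules.pullback p).map f ≫ (Scheme.Modules.pullback p).map g = 0 ↔
      (Scheme.Modules.pullback p).map (image.ι f ≫ g) =
        (Scheme.Modules.pullback p).map 0 := by
  rw [Functor.map_zero, ← Functor.map_comp]
  conv_lhs => rw [← image.fac f, Category.assoc, Functor.map_comp]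
  exact ⟨fun h => by rwa [← cancel_epi ((Scheme.Modules.pullback p).map (factorThruImage f)),
    comp_zero], fun h => by rw [h, comp_zero]⟩

/-- For an exact pullback, exactness of a pulled back sequence is the vanishing of two maps. -/
lemma exact_map_iff {X Y : Scheme.{u}} (p : X ⟶ Y) [(Scheme.Modules.pullback p).PreservesHomology]
    {F G H : Y.Modules} (f : F ⟶ G) (g : G ⟶ H)
    (w : (Scheme.Modules.pullback p).map f ≫ (Scheme.Modules.pullback p).map g = 0) :
    (ShortComplex.mk _ _ w).Exact ↔
      (Scheme.Modules.pullback p).map (kernel.ι g ≫ cokernel.π f) =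
        (Scheme.Modules.pullback p).map 0 := by
  have : PreservesLimit (parallelPair g 0) (Scheme.Modules.pullback p) :=
    Functor.PreservesHomology.preservesKernel _ g
  rw [Functor.map_zero, Functor.map_comp,
    (ShortComplex.mk _ _ w).exact_iff_kernel_ι_comp_cokernel_π_zero]
  have e1 := PreservesKernel.iso_inv_ι (Scheme.Modules.pullback p) g
  have e2 := PreservesCokernel.π_iso_hom (Scheme.Modules.pullback p) f
  rw [← e1, ← e2, Category.assoc, ← cancel_epi (PreservesKernel.iso _ g).hom,
    ← cancel_mono (PreservesCokernel.iso _ f).inv]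
  simp

end Groth.Agent.LimTop
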