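import Groth.Agent.Props.SubExt
import Mathlib.Topology.NoetherianSpace
import Mathlib.SetTheory.Cardinal.Aleph

/-!
# Extension of finite type submodules along a well-ordered affine cover
-/

universe u v

open CategoryTheory Limits AlgebraicGeometry Opposite TopologicalSpace

noncomputable section

namespace Groth.Agent.LimTop.SubExtGen

open Groth.Agent.QCoh Groth.Agent.Props.QStalk Groth.Agent.PullStalk.Sky Groth.Agent.Props.SubMod
  Groth.Agent.Props.SubSheaf Groth.Agent.Props.SubExt

variable {X : Scheme.{u}}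

/-- Quasi-compactness of subsets of affine opens, for a locally Noetherian space. -/
lemma isCompact_of_subset_affine
    (hX : ∀ x : X, ∃ U : X.Opens, x ∈ U ∧ NoetherianSpace (U : Set X)) {W : X.Opens}
    (hW : IsAffineOpen W) {s : Set X} (hs : s ⊆ W) : IsCompact s := by
  choose U hxU hU using hX
  obtain ⟨σ, hσ⟩ := hW.isCompact.elim_finite_subcover (fun x : X => (U x : Set X))
    (fun x => (U x).isOpen) fun x _ => Set.mem_iUnion.mpr ⟨x, hxU x⟩
  have h : s = ⋃ x ∈ σ, Subtype.val '' (Subtype.val ⁻¹' s : Set (U x : Set X)) := by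
    ext y
    constructor
    · intro hy
      obtain ⟨x, hx, hyx⟩ := Set.mem_iUnion₂.mp (hσ (hs hy))
      exact Set.mem_iUnion₂.mpr ⟨x, hx, ⟨y, hyx⟩, hy, rfl⟩
    · intro hy
      obtain ⟨x, -, z, hz, rfl⟩ := Set.mem_iUnion₂.mp hy
      exact hz
  rw [h]
  exact σ.isCompact_biUnion fun x _ =>
    have := hU x
    (NoetherianSpace.isCompact _).image continuous_subtype_val

variable {M : X.Modules} [M.IsQuasicoherent] {L : Type v} [LinearOrder L] [WellFoundedLT L]

open Classical in
/-- The family determined by `S` on `U` and, outside, by generators on the first chart. -/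
def spread (S : StalkSub M) (U : X.Opens) (V : L → X.Opens) (T : ∀ l, Finset Γ(M, V l)) :
    StalkSub M := fun x =>
  if x ∈ U then S x else
    if h : {m | x ∈ V m}.Nonempty then
      spanGerm (T (wellFounded_lt.min _ h) : Set Γ(M, V (wellFounded_lt.min _ h))) x
        (wellFounded_lt.min_mem {m | x ∈ V m} h)
    else ⊥

omit [M.IsQuasicoherent] in
lemma spread_congr (S : StalkSub M) (U : X.Opens) (V : L → X.Opens)
    (T T' : ∀ l, Finset Γ(M, V l)) (l : L) (hT : ∀ m, m < l → T m = T' m) {x : X}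
    (hx : x ∈ U ∨ ∃ m, m < l ∧ x ∈ V m) : spread S U V T x = spread S U V T' x := by
  unfold spread
  by_cases hxU : x ∈ U
  · simp [hxU]
  obtain ⟨m, hm, hxm⟩ := hx.resolve_left hxU
  have h : {m | x ∈ V m}.Nonempty := ⟨m, hxm⟩
  rw [if_neg hxU, if_neg hxU, dif_pos h, dif_pos h,
    hT _ ((not_lt.mp (wellFounded_lt.not_lt_min {m | x ∈ V m} hxm)).trans_lt hm)]

/-- Extension along a well-ordered affine cover. -/
theorem exists_global (S : StalkSub M) {U : X.Opens} (hS : FTOn S U) (V : L → X.Opens)
    (hV : ∀ l, IsAffineOpen (V l)) (hcov : ⨆ l, V l = ⊤)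
    (hU : ∀ l, IsCompact ((U : Set X) ∩ V l))
    (hW : ∀ l, IsCompact ((V l : Set X) ∩ ⋃ m ∈ Set.Iio l, (V m : Set X))) :
    ∃ S' : StalkSub M, FTOn S' ⊤ ∧ ∀ x ∈ U, S' x = S x := by
  classical
  let B : ∀ l, (∀ m, m < l → Finset Γ(M, V m)) → Finset Γ(M, V l) := fun l prev =>
    Classical.epsilon fun T' => ∀ (y : X) (hy : y ∈ V l), (y ∈ U ∨ ∃ m, m < l ∧ y ∈ V m) →
      spread S U V (fun m => if h : m < l then prev m h else ∅) y =
        spanGerm (T' : Set Γ(M, V l)) y hy
  let T : ∀ l, Finset Γ(M, V l) := WellFounded.fix wellFounded_lt B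
  have hTl : ∀ l, T l = B l fun m _ => T m := fun l => WellFounded.fix_eq wellFounded_lt B l
  let S' := spread S U V T
  have hSU : ∀ x ∈ U, S' x = S x := fun x hx => if_pos hx
  have key : ∀ l, GenBy S' (V l) (T l) := by
    intro l
    induction l using WellFoundedLT.induction with
    | ind l ih =>
    let Ul : X.Opens := U ⊔ ⨆ m : Set.Iio l, V m.1
    have hmem : ∀ y, y ∈ Ul ↔ y ∈ U ∨ ∃ m, m < l ∧ y ∈ V m := fun y => by
      show y ∈ (U : Set X) ∪ ((⨆ m : Set.Iio l, V m.1 : X.Opens) : Set X) ↔ _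
      rw [Set.mem_union, SetLike.mem_coe, SetLike.mem_coe, Opens.mem_iSup]
      simp
    have hFT : FTOn S' Ul := by
      intro x hx
      rcases (hmem x).mp hx with hx | ⟨m, hm, hxm⟩
      · obtain ⟨W, hW', hxW, hWU, s, hs⟩ := hS.congr hSU x hx
        exact ⟨W, hW', hxW, hWU.trans le_sup_left, s, hs⟩
      · exact ⟨V m, hV m, hxm,
          (le_iSup (fun m : Set.Iio l => V m.1) ⟨m, hm⟩).trans le_sup_right, T m, ih m hm⟩
    have hcomp : IsCompact ((Ul : Set X) ∩ V l) := by
      have e : (Ul : Set X) ∩ V l =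
          ((U : Set X) ∩ V l) ∪ ((V l : Set X) ∩ ⋃ m ∈ Set.Iio l, (V m : Set X)) := by
        ext y
        simp only [Set.mem_inter_iff, SetLike.mem_coe, hmem, Set.mem_union, Set.mem_iUnion,
          Set.mem_Iio, exists_prop]
        tauto
      rw [e]
      exact (hU l).union (hW l)
    obtain ⟨T₀, hT₀, -⟩ := exists_extend hFT (hV l) hcomp
    have hcongr : ∀ y, (y ∈ U ∨ ∃ m, m < l ∧ y ∈ V m) →
        spread S U V (fun m => if h : m < l then T m else ∅) y = S' y := fun y hy =>
      spread_congr S U V _ T l (fun m hm => dif_pos hm) hy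
    have hspec : ∀ (y : X) (hy : y ∈ V l), (y ∈ U ∨ ∃ m, m < l ∧ y ∈ V m) →
        spread S U V (fun m => if h : m < l then T m else ∅) y =
          spanGerm (T l : Set Γ(M, V l)) y hy := by
      rw [hTl l]
      exact Classical.epsilon_spec (p := fun T' : Finset Γ(M, V l) => ∀ (y : X) (hy : y ∈ V l),
        (y ∈ U ∨ ∃ m, m < l ∧ y ∈ V m) →
          spread S U V (fun m => if h : m < l then T m else ∅) y =
            spanGerm (T' : Set Γ(M, V l)) y hy)
        ⟨T₀, fun y hy h => (hcongr y h).trans (hT₀ y hy ((hmem y).mpr h))⟩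
    intro y hy
    by_cases hyl : y ∈ U ∨ ∃ m, m < l ∧ y ∈ V m
    · rw [← hcongr y hyl, hspec y hy hyl]
    · push Not at hyl
      have hne : {m | y ∈ V m}.Nonempty := ⟨l, hy⟩
      have hmin : wellFounded_lt.min {m | y ∈ V m} hne = l := by
        refine le_antisymm (not_lt.mp (wellFounded_lt.not_lt_min {m | y ∈ V m} (x := l) hy))
          (not_lt.mp fun hlt => hyl.2 _ hlt (wellFounded_lt.min_mem {m | y ∈ V m} hne))
      simp only [S', spread, if_neg hyl.1, dif_pos hne]
      have hcast : ∀ (a : L), a = l → ∀ ha : y ∈ V a,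
          spanGerm (T a : Set Γ(M, V a)) y ha = spanGerm (T l : Set Γ(M, V l)) y hy := by
        rintro a rfl ha
        rfl
      exact hcast _ hmin _
  refine ⟨S', fun x _ => ?_, hSU⟩
  obtain ⟨l, hl⟩ := Opens.mem_iSup.mp (hcov.ge (trivial : x ∈ (⊤ : X.Opens)))
  exact ⟨V l, hV l, hl, le_top, T l, key l⟩

/-- Finite type submodules extend along a well-ordered affine cover. -/
theorem exists_extension (U : X.Opens) [QuasiCompact U.ι] (F : X.Modules) [F.IsQuasicoherent]
    (G : (U : Scheme.{u}).Modules) [G.IsQuasicoherent] (hG : SheafOfModules.IsFiniteType.{u} G)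
    (i : G ⟶ F.restrict U.ι) [Mono i]
    (H : ∀ (M : X.Modules) [M.IsQuasicoherent] (S : StalkSub M), FTOn S U →
      ∃ S' : StalkSub M, FTOn S' ⊤ ∧ ∀ x ∈ U, S' x = S x) :
    ∃ (G' : X.Modules) (i' : G' ⟶ F) (e : G'.restrict U.ι ≅ G), Mono i' ∧ G'.IsQuasicoherent ∧
      SheafOfModules.IsFiniteType.{u} G' ∧
      e.hom ≫ i = (Scheme.Modules.restrictFunctor U.ι).map i' := by
  let R := Scheme.Modules.restrictFunctor U.ι
  let P := Scheme.Modules.pushforward U.ι
  let adj := Scheme.Modules.restrictAdjunction U.ι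
  let η : F ⟶ P.obj (R.obj F) := adj.unit.app F
  have hA : (P.obj G).IsQuasicoherent := QCoh.isQuasicoherent_pushforward U.ι G
  have hRF : (R.obj F).IsQuasicoherent := Scheme.Modules.isQuasicoherent_restrictFunctor U.ι F
  have hB : (P.obj (R.obj F)).IsQuasicoherent := QCoh.isQuasicoherent_pushforward U.ι (R.obj F)
  have hadj := Scheme.Modules.restrictAdjunction U.ι
  have : P.IsRightAdjoint := hadj.isRightAdjoint
  have : Mono (P.map i) := inferInstance
  let Q := Limits.pullback (P.map i) η
  have hQ : Q.IsQuasicoherent := by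
    have : (P.obj G ⊞ F).IsQuasicoherent := isQuasicoherent_biprod _ F
    let d : P.obj G ⊞ F ⟶ P.obj (R.obj F) := biprod.desc (P.map i) (-η)
    have : (kernel d).IsQuasicoherent := QCoh.isQuasicoherent_kernel d
    exact QCoh.isQuasicoherent_of_iso (M := kernel d)
      ((kernelIsKernel d).conePointUniqueUpToIso
        (Abelian.PullbackToBiproductIsKernel.isLimitPullbackToBiproduct (P.map i) η))
  have hη : IsIso (R.map η) := by
    have h := adj.left_triangle_components F
    have : IsIso (R.map η ≫ adj.counit.app (R.obj F)) := by rw [h]; infer_instance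
    exact IsIso.of_isIso_comp_right _ (adj.counit.app (R.obj F))
  have hfst : IsIso (R.map (pullback.fst (P.map i) η)) :=
    ((IsPullback.of_hasPullback (P.map i) η).map R).isIso_fst_of_isIso
  let e₀ : Q.restrict U.ι ≅ G := asIso (R.map (pullback.fst (P.map i) η)) ≪≫ restrictPushIso U G
  have hcompat : e₀.hom ≫ i = R.map (pullback.snd (P.map i) η) := by
    change (R.map _ ≫ adj.counit.app G) ≫ i = _
    have hn : adj.counit.app G ≫ i = R.map (P.map i) ≫ adj.counit.app (R.obj F) :=
      (adj.counit.naturality i).symm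
    rw [Category.assoc, hn, ← Category.assoc, ← R.map_comp, pullback.condition, R.map_comp,
      Category.assoc, adj.left_triangle_components, Category.comp_id]
  obtain ⟨S', hS', h1⟩ := H Q (fun _ => ⊤) (ftOn_top (isFiniteType_of_iso e₀.symm hG))
  have := isIso_restrict_incl (S := S') (U := U) h1
  refine ⟨sub S', incl S' ≫ pullback.snd (P.map i) η, asIso (R.map (incl S')) ≪≫ e₀,
    mono_comp _ _, isQuasicoherent_sub hS', isFiniteType_sub hS', ?_⟩
  rw [Functor.map_comp, ← hcompat, Iso.trans_hom, asIso_hom, Category.assoc]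

/-- A well-order of the affine opens of a locally Noetherian space has compact intersections. -/
theorem exists_global_locallyNoetherian
    (hX : ∀ x : X, ∃ U : X.Opens, x ∈ U ∧ NoetherianSpace (U : Set X)) (U : X.Opens)
    (S : StalkSub M) (hS : FTOn S U) :
    ∃ S' : StalkSub M, FTOn S' ⊤ ∧ ∀ x ∈ U, S' x = S x := by
  obtain ⟨_, _⟩ := exists_wellOrder X.affineOpens
  refine exists_global S hS (fun W : X.affineOpens => W.1) (fun W => W.2)
    (iSup_affineOpens_eq_top X) (fun W => isCompact_of_subset_affine hX W.2 Set.inter_subset_right)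
    fun W => isCompact_of_subset_affine hX W.2 Set.inter_subset_left

lemma quasiCompact_ι (hX : ∀ x : X, ∃ U : X.Opens, x ∈ U ∧ NoetherianSpace (U : Set X))
    (U : X.Opens) : QuasiCompact U.ι := by
  rw [quasiCompact_iff_forall_isAffineOpen]
  intro V hV
  refine (U.ι.isOpenEmbedding.isInducing.isCompact_iff).mpr ?_
  exact isCompact_of_subset_affine hX hV (Set.image_preimage_subset _ _)

end Groth.Agent.LimTop.SubExtGen

end
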