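import Groth.Prelude.Def_RelSpec
import Groth.Agent.LimTop.SubExtGen

/-!
# Quasi-coherent subalgebras of finite type
-/

universe u

open CategoryTheory Limits AlgebraicGeometry Opposite TopologicalSpace

noncomputable section

namespace Groth.Agent.LimTop.SubAlg

open Groth.Agent.QCoh Groth.Agent.Props

variable {X : Scheme.{u}} (B : RelSpec.QCAlg X)

/-- Restriction in the algebra. -/
abbrev bres {U V : X.Opens} (h : V ≤ U) : B.presheaf.obj (op U) →+* B.presheaf.obj (op V) :=
  (B.presheaf.map (homOfLE h).op).hom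

lemma bres_bres {U V W : X.Opens} (h : V ≤ U) (h' : W ≤ V) (x : B.presheaf.obj (op U)) :
    bres B h' (bres B h x) = bres B (h'.trans h) x := by
  show (B.presheaf.map (homOfLE h).op ≫ B.presheaf.map (homOfLE h').op) x = _
  rw [← Functor.map_comp]
  rfl

lemma bres_self {U : X.Opens} (h : U ≤ U) (x : B.presheaf.obj (op U)) : bres B h x = x := by
  show B.presheaf.map (homOfLE h).op x = x
  rw [show (homOfLE h).op = 𝟙 (op U) from rfl, CategoryTheory.Functor.map_id]
  rfl

/-- The structure map on sections. -/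
abbrev strH (U : X.Opens) : Γ(X, U) →+* B.presheaf.obj (op U) := (B.str.app (op U)).hom

lemma bres_str {U V : X.Opens} (h : V ≤ U) (r : Γ(X, U)) :
    bres B h (strH B U r) = strH B V (rres h r) :=
  (congr($(B.str.naturality (homOfLE h).op) r)).symm

/-- The algebra as a quasi-coherent module. -/
theorem isQuasicoherent_toModule : B.toModule.IsQuasicoherent := by
  rw [isQuasicoherent_iff_forall_isAffineOpen]
  intro U hU r
  let _ := (bres B (X.basicOpen_le r)).toAlgebra
  have hloc : IsLocalization.Away (strH B U r) (B.presheaf.obj (op (X.basicOpen r))) :=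
    B.isQC U hU r
  refine ⟨fun s => ?_, fun t ht => ?_⟩
  · obtain ⟨n, t, ht⟩ := IsLocalization.Away.surj (strH B U r) (show B.presheaf.obj (op (X.basicOpen r)) from s)
    refine ⟨n, t, ?_⟩
    show bres B (X.basicOpen_le r) t =
      strH B _ (rres (X.basicOpen_le r) r ^ n) * (show B.presheaf.obj (op (X.basicOpen r)) from s)
    rw [map_pow, ← bres_str, mul_comm]
    exact ht.symm
  · obtain ⟨⟨c, n, rfl⟩, hn⟩ := (IsLocalization.map_eq_zero_iff
      (Submonoid.powers (strH B U r)) (B.presheaf.obj (op (X.basicOpen r))) t).mp ht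
    refine ⟨n, ?_⟩
    show strH B U (r ^ n) * _ = 0
    rw [map_pow]
    exact hn

variable {B} {E : X.Modules} (j : E ⟶ B.toModule)

/-- The sections of a module mapped to the algebra. -/
def secs (U : X.Opens) : Set (B.presheaf.obj (op U)) := Set.range fun e : Γ(E, U) => j.app U e

/-- The subring generated by the base and the sections of `E`. -/
def gen (U : X.Opens) : Subring (B.presheaf.obj (op U)) :=
  Subring.closure (Set.range (strH B U) ∪ secs j U)

lemma str_mem_gen {U : X.Opens} (r : Γ(X, U)) : strH B U r ∈ gen j U :=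
  Subring.subset_closure (Or.inl ⟨r, rfl⟩)

lemma app_mem_gen {U : X.Opens} (e : Γ(E, U)) :
    (show B.presheaf.obj (op U) from j.app U e) ∈ gen j U :=
  Subring.subset_closure (Or.inr ⟨e, rfl⟩)

lemma bres_mem_gen {U V : X.Opens} (h : V ≤ U) {b : B.presheaf.obj (op U)} (hb : b ∈ gen j U) :
    bres B h b ∈ gen j V := by
  refine (show gen j U ≤ (gen j V).comap (bres B h) from Subring.closure_le.mpr ?_) hb
  rintro _ (⟨r, rfl⟩ | ⟨e, rfl⟩)
  · show bres B h (strH B U r) ∈ gen j V
    rw [bres_str]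
    exact str_mem_gen j _
  · exact (app_res j h e).subst (motive := fun z => z ∈ gen j V) (app_mem_gen j (res E h e))

/-- The sections which are locally in the generated subring. -/
def locGen (U : X.Opens) : Subring (B.presheaf.obj (op U)) where
  carrier := {b | ∀ x ∈ U, ∃ (W : X.Opens) (h : W ≤ U), x ∈ W ∧ bres B h b ∈ gen j W}
  mul_mem' {a b} ha hb x hx := by
    obtain ⟨W, h, hxW, hW⟩ := ha x hx
    obtain ⟨W', h', hxW', hW'⟩ := hb x hx
    refine ⟨W ⊓ W', inf_le_left.trans h, ⟨hxW, hxW'⟩, ?_⟩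
    rw [map_mul]
    refine mul_mem ?_ ?_
    · rw [← bres_bres B h inf_le_left]; exact bres_mem_gen j _ hW
    · rw [← bres_bres B h' (inf_le_right : W ⊓ W' ≤ W')]; exact bres_mem_gen j _ hW'
  one_mem' x hx := ⟨U, le_rfl, hx, by rw [map_one]; exact one_mem _⟩
  add_mem' {a b} ha hb x hx := by
    obtain ⟨W, h, hxW, hW⟩ := ha x hx
    obtain ⟨W', h', hxW', hW'⟩ := hb x hx
    refine ⟨W ⊓ W', inf_le_left.trans h, ⟨hxW, hxW'⟩, ?_⟩
    rw [map_add]
    refine add_mem ?_ ?_
    · rw [← bres_bres B h inf_le_left]; exact bres_mem_gen j _ hW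
    · rw [← bres_bres B h' (inf_le_right : W ⊓ W' ≤ W')]; exact bres_mem_gen j _ hW'
  zero_mem' x hx := ⟨U, le_rfl, hx, by rw [map_zero]; exact zero_mem _⟩
  neg_mem' {a} ha x hx := by
    obtain ⟨W, h, hxW, hW⟩ := ha x hx
    exact ⟨W, h, hxW, by rw [map_neg]; exact neg_mem hW⟩

lemma gen_le_locGen (U : X.Opens) : gen j U ≤ locGen j U := fun b hb x hx =>
  ⟨U, le_rfl, hx, by rwa [bres_self]⟩

lemma str_mem_locGen {U : X.Opens} (r : Γ(X, U)) : strH B U r ∈ locGen j U :=
  gen_le_locGen j U (str_mem_gen j r)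

lemma bres_mem_locGen {U V : X.Opens} (h : V ≤ U) {b : B.presheaf.obj (op U)}
    (hb : b ∈ locGen j U) : bres B h b ∈ locGen j V := fun x hx => by
  obtain ⟨W, hW, hxW, hb⟩ := hb x (h hx)
  refine ⟨W ⊓ V, inf_le_right, ⟨hxW, hx⟩, ?_⟩
  rw [bres_bres, ← bres_bres B hW inf_le_left]
  exact bres_mem_gen j _ hb

variable [E.IsQuasicoherent]

/-- Elements of the generated subring of a principal open come from the big one. -/
lemma exists_pow_mul {U : X.Opens} (hU : IsAffineOpen U) (r : Γ(X, U))
    {b : B.presheaf.obj (op (X.basicOpen r))} (hb : b ∈ gen j (X.basicOpen r)) :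
    ∃ (n : ℕ) (t : B.presheaf.obj (op U)), t ∈ gen j U ∧
      bres B (X.basicOpen_le r) t = strH B _ (rres (X.basicOpen_le r) r) ^ n * b := by
  induction hb using Subring.closure_induction with
  | mem x hx =>
    rcases hx with ⟨a, rfl⟩ | ⟨e, rfl⟩
    · have := hU.isLocalization_basicOpen r
      obtain ⟨n, t, ht⟩ := IsLocalization.Away.surj r a
      refine ⟨n, strH B U t, str_mem_gen j t, ?_⟩
      rw [bres_str, ← map_pow, ← map_mul, mul_comm]
      exact congrArg _ ht.symm
    · obtain ⟨n, t, ht⟩ := (isLocalizingAt E hU r).surj e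
      refine ⟨n, _, app_mem_gen j t, ?_⟩
      refine (app_res j (X.basicOpen_le r) t).symm.trans ?_
      rw [ht, Scheme.Modules.Hom.app_smul]
      show strH B _ (rres (X.basicOpen_le r) r ^ n) * _ = _
      rw [map_pow]
  | zero => exact ⟨0, 0, zero_mem _, by simp⟩
  | one => exact ⟨0, 1, one_mem _, by simp⟩
  | add x y _ _ hx hy =>
    obtain ⟨n, t, ht, hx⟩ := hx
    obtain ⟨m, t', ht', hy⟩ := hy
    refine ⟨n + m, strH B U r ^ m * t + strH B U r ^ n * t', add_mem
      (mul_mem (pow_mem (str_mem_gen j r) m) ht) (mul_mem (pow_mem (str_mem_gen j r) n) ht'), ?_⟩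
    rw [map_add, map_mul, map_mul, map_pow, map_pow, bres_str, hx, hy]
    ring
  | neg x _ hx =>
    obtain ⟨n, t, ht, hx⟩ := hx
    exact ⟨n, -t, neg_mem ht, by rw [map_neg, hx]; ring⟩
  | mul x y _ _ hx hy =>
    obtain ⟨n, t, ht, hx⟩ := hx
    obtain ⟨m, t', ht', hy⟩ := hy
    exact ⟨n + m, t * t', mul_mem ht ht', by rw [map_mul, hx, hy]; ring⟩

/-- Over an affine open, locally generated sections are generated. -/
theorem locGen_eq_gen {U : X.Opens} (hU : IsAffineOpen U) : locGen j U = gen j U := by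
  refine le_antisymm (fun b hb => ?_) (gen_le_locGen j U)
  have hM := isQuasicoherent_toModule B
  let J : Ideal Γ(X, U) :=
    { carrier := {a | strH B U a * b ∈ gen j U}
      add_mem' := fun {a a'} ha ha' => by
        show strH B U (a + a') * b ∈ gen j U
        rw [map_add, add_mul]
        exact add_mem ha ha'
      zero_mem' := by
        show strH B U 0 * b ∈ gen j U
        rw [map_zero, zero_mul]
        exact zero_mem _
      smul_mem' := fun c a ha => by
        show strH B U (c * a) * b ∈ gen j U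
        rw [map_mul, mul_assoc]
        exact mul_mem (str_mem_gen j c) ha }
  suffices hJ : J = ⊤ by
    have h1 : (1 : Γ(X, U)) ∈ J := hJ ▸ Submodule.mem_top
    change strH B U 1 * b ∈ gen j U at h1
    rwa [map_one, one_mul] at h1
  rw [← Ideal.radical_eq_top]
  have hcov : ∀ x : U, ∃ r : Γ(X, U), x.1 ∈ X.basicOpen r ∧ r ∈ J.radical := by
    intro x
    obtain ⟨W, hW, hxW, hbW⟩ := hb x.1 x.2
    obtain ⟨r, hr, hxr⟩ := hU.exists_basicOpen_le ⟨x.1, hxW⟩ x.2
    have hbr := bres_mem_gen j hr hbW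
    rw [bres_bres] at hbr
    obtain ⟨n, t, ht, htb⟩ := exists_pow_mul j hU r hbr
    obtain ⟨m, hm⟩ := (isLocalizingAt B.toModule hU r).eq_zero
      (show B.presheaf.obj (op U) from t - strH B U r ^ n * b) (by
        show bres B (X.basicOpen_le r) (t - strH B U r ^ n * b) = 0
        rw [map_sub, htb, map_mul, map_pow, bres_str, sub_self])
    replace hm : strH B U (r ^ m) * (t - strH B U r ^ n * b) = 0 := hm
    refine ⟨r, hxr, ⟨m + n, ?_⟩⟩
    show strH B U (r ^ (m + n)) * b ∈ gen j U
    rw [mul_sub, sub_eq_zero, ← mul_assoc, ← map_pow, ← map_mul, ← pow_add] at hm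
    rw [← hm]
    exact mul_mem (str_mem_gen j _) ht
  choose r hxr hr using hcov
  rw [← top_le_iff, ← hU.self_le_iSup_basicOpen_iff (s := Set.range r) |>.mp fun x hx =>
    Opens.mem_iSup.mpr ⟨⟨_, ⟨x, hx⟩, rfl⟩, hxr ⟨x, hx⟩⟩]
  exact Ideal.span_le.mpr (by rintro _ ⟨x, rfl⟩; exact hr x)

/-- The subalgebra generated by a module. -/
def adjoin : RelSpec.QCAlg X where
  presheaf :=
    { obj := fun U => CommRingCat.of (locGen j U.unop)
      map := fun {U V} f => CommRingCat.ofHom
        (((B.presheaf.map f).hom.comp (locGen j U.unop).subtype).codRestrict (locGen j V.unop)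
          fun b => bres_mem_locGen j f.unop.le b.2)
      map_id := fun U => by
        ext b
        show B.presheaf.map (𝟙 U) b.1 = b.1
        rw [CategoryTheory.Functor.map_id]
        rfl
      map_comp := fun f g => by
        ext b
        show B.presheaf.map (f ≫ g) b.1 = B.presheaf.map g (B.presheaf.map f b.1)
        rw [Functor.map_comp]
        rfl }
  isSheaf := by
    rw [TopCat.Presheaf.isSheaf_iff_isSheafUniqueGluing]
    intro ι U sf hsf
    obtain ⟨s, hs, huniq⟩ := (TopCat.Presheaf.isSheaf_iff_isSheafUniqueGluing _).mp B.isSheaf U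
      (fun i => (show locGen j (U i) from sf i).1) fun a b => congrArg Subtype.val (hsf a b)
    have hmem : s ∈ locGen j (iSup U) := fun x hx => by
      obtain ⟨i, hi⟩ := Opens.mem_iSup.mp hx
      obtain ⟨W, hW, hxW, hgen⟩ := (show locGen j (U i) from sf i).2 x hi
      refine ⟨W, hW.trans (le_iSup U i), hxW, ?_⟩
      rw [← bres_bres B (le_iSup U i) hW]
      exact (hs i).symm ▸ hgen
    exact ⟨⟨s, hmem⟩, fun i => Subtype.ext (hs i),
      fun t ht => Subtype.ext (huniq _ fun i => congrArg Subtype.val (ht i))⟩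
  str :=
    { app := fun U => CommRingCat.ofHom ((strH B U.unop).codRestrict _ fun r => str_mem_locGen j r)
      naturality := fun U V f => by
        ext r
        exact congr($(B.str.naturality f) r) }
  isQC := fun U hU r => by
    let _ := (bres B (X.basicOpen_le r)).toAlgebra
    have hloc : IsLocalization.Away (strH B U r) (B.presheaf.obj (op (X.basicOpen r))) :=
      B.isQC U hU r
    let ρ : locGen j U →+* locGen j (X.basicOpen r) :=
      ((bres B (X.basicOpen_le r)).comp (locGen j U).subtype).codRestrict _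
        fun b => bres_mem_locGen j _ b.2
    let _ := ρ.toAlgebra
    show IsLocalization.Away (⟨strH B U r, str_mem_locGen j r⟩ : locGen j U)
      (locGen j (X.basicOpen r))
    refine IsLocalization.Away.mk _ ?_ (fun z => ?_) fun a b hab => ?_
    · obtain ⟨v, hv⟩ : IsUnit (rres (X.basicOpen_le r) r) :=
      RingedSpace.isUnit_res_basicOpen X.toRingedSpace r
      refine isUnit_iff_exists_inv.mpr ⟨⟨strH B _ (↑v⁻¹), str_mem_locGen j _⟩, Subtype.ext ?_⟩
      show bres B (X.basicOpen_le r) (strH B U r) * strH B _ (↑v⁻¹) = 1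
      rw [bres_str, ← map_mul]
      exact (congrArg (fun z => strH B _ (z * ↑v⁻¹)) hv.symm).trans (by rw [v.mul_inv, map_one])
    · have hz : z.1 ∈ gen j (X.basicOpen r) := locGen_eq_gen j (hU.basicOpen r) ▸ z.2
      obtain ⟨n, t, ht, e⟩ := exists_pow_mul j hU r hz
      refine ⟨n, ⟨t, gen_le_locGen j U ht⟩, Subtype.ext ?_⟩
      show z.1 * (bres B (X.basicOpen_le r) (strH B U r)) ^ n = bres B (X.basicOpen_le r) t
      rw [e, bres_str, mul_comm]
    · have h1 : bres B (X.basicOpen_le r) a.1 = bres B (X.basicOpen_le r) b.1 :=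
        congrArg Subtype.val hab
      obtain ⟨n, hn⟩ := IsLocalization.Away.exists_of_eq (strH B U r) h1
      exact ⟨n, Subtype.ext hn⟩

/-- The inclusion. -/
def adjoinι : adjoin j ⟶ B where
  hom := { app := fun U => CommRingCat.ofHom (locGen j U.unop).subtype }
  comm := rfl

lemma adjoinι_injective (V : X.Opens) : Function.Injective ((adjoinι j).hom.app (op V)).hom :=
  Subtype.val_injective

lemma range_adjoinι (V : X.Opens) :
    Set.range ((adjoinι j).hom.app (op V)).hom = (locGen j V : Set (B.presheaf.obj (op V))) :=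
  Subtype.range_coe

theorem finiteType_adjoin (hE : CohB1.IsFT E) {V : X.Opens} (hV : IsAffineOpen V) :
    ((adjoin j).str.app (op V)).hom.FiniteType := by
  classical
  obtain ⟨s, hs⟩ := ((isFiniteType_iff E).mp hE V hV).fg_top
  let f : Γ(X, V) →+* locGen j V := (strH B V).codRestrict _ fun r => str_mem_locGen j r
  show f.FiniteType
  let _ := f.toAlgebra
  refine ⟨⟨s.image fun e => (⟨j.app V e, gen_le_locGen j V (app_mem_gen j e)⟩ : locGen j V), ?_⟩⟩
  refine top_le_iff.mp fun z _ => ?_
  let A := Algebra.adjoin Γ(X, V)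
    ((s.image fun e => (⟨j.app V e, gen_le_locGen j V (app_mem_gen j e)⟩ : locGen j V) :
      Finset _) : Set (locGen j V))
  have hle : gen j V ≤ A.toSubring.map (locGen j V).subtype := by
    refine Subring.closure_le.mpr ?_
    rintro _ (⟨r, rfl⟩ | ⟨e, rfl⟩)
    · exact ⟨f r, A.algebraMap_mem r, rfl⟩
    · have he : e ∈ Submodule.span Γ(X, V) (s : Set Γ(E, V)) := hs ▸ Submodule.mem_top
      induction he using Submodule.span_induction with
      | mem e he => exact ⟨_, Algebra.subset_adjoin (Finset.mem_image_of_mem _ he), rfl⟩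
      | zero =>
        show (show B.presheaf.obj (op V) from j.app V 0) ∈ _
        rw [show (show B.presheaf.obj (op V) from j.app V 0) = 0 from map_zero (j.app V).hom]
        exact zero_mem _
      | add a b _ _ ha hb =>
        show (show B.presheaf.obj (op V) from j.app V (a + b)) ∈ _
        rw [show (show B.presheaf.obj (op V) from j.app V (a + b)) =
          (show B.presheaf.obj (op V) from j.app V a) + (show B.presheaf.obj (op V) from j.app V b)
          from map_add (j.app V).hom a b]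
        exact add_mem ha hb
      | smul r a _ ha =>
        show (show B.presheaf.obj (op V) from j.app V (r • a)) ∈ _
        rw [show (show B.presheaf.obj (op V) from j.app V (r • a)) =
          strH B V r * (show B.presheaf.obj (op V) from j.app V a)
          from Scheme.Modules.Hom.app_smul j r a]
        exact mul_mem ⟨f r, A.algebraMap_mem r, rfl⟩ ha
  obtain ⟨y, hy, hyz⟩ := hle ((locGen_eq_gen j hV).le z.2)
  rwa [← Subtype.ext hyz]

/-- Generation can be checked on an affine cover. -/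
theorem gen_eq_top (h : ∀ x : X, ∃ W : X.Opens, IsAffineOpen W ∧ x ∈ W ∧ gen j W = ⊤)
    {U : X.Opens} (hU : IsAffineOpen U) : gen j U = ⊤ := by
  rw [← locGen_eq_gen j hU]
  refine top_le_iff.mp fun b _ x hx => ?_
  obtain ⟨W, hW, hxW, htop⟩ := h x
  obtain ⟨r, hr, hxr⟩ := hW.exists_basicOpen_le ⟨x, hx⟩ hxW
  refine ⟨X.basicOpen r, hr, hxr, ?_⟩
  let _ := (bres B (X.basicOpen_le r)).toAlgebra
  have hloc : IsLocalization.Away (strH B W r) (B.presheaf.obj (op (X.basicOpen r))) :=
    B.isQC W hW r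
  obtain ⟨n, t, ht⟩ := IsLocalization.Away.surj (strH B W r) (bres B hr b)
  obtain ⟨v, hv⟩ : IsUnit (rres (X.basicOpen_le r) r) :=
      RingedSpace.isUnit_res_basicOpen X.toRingedSpace r
  have e : bres B hr b = strH B _ (↑v⁻¹ ^ n) * bres B (X.basicOpen_le r) t := by
    rw [show bres B (X.basicOpen_le r) t = bres B hr b * bres B (X.basicOpen_le r) (strH B W r) ^ n
      from ht.symm, bres_str, ← map_pow, mul_comm (bres B hr b), ← mul_assoc, ← map_mul,
      ← mul_pow, show rres (X.basicOpen_le r) r = (v : Γ(X, X.basicOpen r)) from hv.symm,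
      v.inv_mul, one_pow, map_one, one_mul]
  rw [e]
  exact mul_mem (str_mem_gen j _) (bres_mem_gen j _ (htop ▸ Subring.mem_top t))

/-- Finitely many sections over affine opens lie in one finite type submodule. -/
theorem exists_sub (M : X.Modules) [M.IsQuasicoherent]
    (H : ∀ (W : X.Opens), IsAffineOpen W → ∀ s : Γ(M, W),
      ∃ S : SubMod.StalkSub M, SubMod.FTOn S ⊤ ∧ s ∈ Set.range ((SubSheaf.incl S).app W))
    {ι : Type*} [Finite ι] (W : ι → X.Opens) (hW : ∀ i, IsAffineOpen (W i))
    (s : ∀ i, Γ(M, W i)) :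
    ∃ (E : X.Modules) (j : E ⟶ M), Mono j ∧ E.IsQuasicoherent ∧ CohB1.IsFT E ∧
      ∀ i, s i ∈ Set.range (j.app (W i)) := by
  classical
  have := Fintype.ofFinite ι
  choose S hS hs using fun i => H (W i) (hW i) (s i)
  have hsup : ∀ τ : Finset ι, SubMod.FTOn (τ.sup S) ⊤ := by
    intro τ
    induction τ using Finset.induction with
    | empty =>
      intro x _
      obtain ⟨V, hV, hxV, -⟩ := exists_isAffineOpen_mem_and_subset (X := X) (Opens.mem_top x)
      exact ⟨V, hV, hxV, le_top, ∅, fun y hy => by simp [SubMod.spanGerm]⟩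
    | insert a τ _ ih =>
      rw [Finset.sup_insert]
      intro x _
      obtain ⟨V, hV, hxV, -⟩ := exists_isAffineOpen_mem_and_subset (X := X) (Opens.mem_top x)
      obtain ⟨T, hT⟩ := SubMod.exists_genBy (hS a) hV le_top
      obtain ⟨T', hT'⟩ := SubMod.exists_genBy ih hV le_top
      refine ⟨V, hV, hxV, le_top, T ∪ T', fun y hy => ?_⟩
      rw [Pi.sup_apply, hT y hy, hT' y hy, SubMod.spanGerm, SubMod.spanGerm, SubMod.spanGerm,
        Finset.coe_union, Set.image_union, Submodule.span_union]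
  let S' := Finset.univ.sup S
  refine ⟨SubSheaf.sub S', SubSheaf.incl S', inferInstance,
    SubSheaf.isQuasicoherent_sub (hsup _), SubSheaf.isFiniteType_sub (hsup _), fun i => ?_⟩
  refine (SubSheaf.mem_range_incl S' (s i)).mpr fun y hy => ?_
  exact Finset.le_sup (f := S) (Finset.mem_univ i) y ((SubSheaf.mem_range_incl (S i) _).mp (hs i) y hy)

omit B j in
/-- Sections lie in finite type submodules over a locally Noetherian space. -/
theorem exists_through_locallyNoetherian
    (hX : ∀ x : X, ∃ U : X.Opens, x ∈ U ∧ NoetherianSpace (U : Set X)) (M : X.Modules)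
    [M.IsQuasicoherent] (W : X.Opens) (hW : IsAffineOpen W) (s : Γ(M, W)) :
    ∃ S : SubMod.StalkSub M, SubMod.FTOn S ⊤ ∧ s ∈ Set.range ((SubSheaf.incl S).app W) := by
  classical
  let S₀ : SubMod.StalkSub M := fun y =>
    if hy : y ∈ W then SubMod.spanGerm ({s} : Set Γ(M, W)) y hy else ⊥
  have h0 : SubMod.GenBy S₀ W ({s} : Set Γ(M, W)) := fun y hy => dif_pos hy
  obtain ⟨S', hS', h1⟩ := SubExtGen.exists_global_locallyNoetherian hX W S₀
    fun x hx => ⟨W, hW, hx, le_rfl, {s}, by rwa [Finset.coe_singleton]⟩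
  refine ⟨S', hS', (SubSheaf.mem_range_incl S' s).mpr fun y hy => ?_⟩
  rw [h1 y hy, h0 y hy]
  exact Submodule.subset_span ⟨s, rfl, rfl⟩

/-- A finite type algebra on a quasi-compact scheme is generated by a finite type submodule. -/
theorem exists_generating [CompactSpace X] (B : RelSpec.QCAlg X)
    (H : ∀ (W : X.Opens), IsAffineOpen W → ∀ s : Γ(B.toModule, W),
      ∃ S : SubMod.StalkSub B.toModule, SubMod.FTOn S ⊤ ∧ s ∈ Set.range ((SubSheaf.incl S).app W))
    (hB : ∀ U : X.affineOpens, (B.str.app (op (U : X.Opens))).hom.FiniteType) :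
    ∃ (E : X.Modules) (j : E ⟶ B.toModule), Mono j ∧ E.IsQuasicoherent ∧ CohB1.IsFT E ∧
      ∀ U : X.affineOpens, gen j U = ⊤ := by
  classical
  have := isQuasicoherent_toModule B
  obtain ⟨σ, hσ⟩ := isCompact_univ.elim_finite_subcover
    (fun W : X.affineOpens => ((W : X.Opens) : Set X)) (fun W => (W : X.Opens).isOpen) fun x _ => by
      obtain ⟨W, hW, hx, -⟩ := exists_isAffineOpen_mem_and_subset (X := X) (Opens.mem_top x)
      exact Set.mem_iUnion.mpr ⟨⟨W, hW⟩, hx⟩
  have hgens : ∀ W : X.affineOpens, ∃ T : Finset (B.presheaf.obj (op W.1)),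
      Subring.closure (Set.range (strH B W.1) ∪ T) = ⊤ := fun W => by
    let _ := (strH B W.1).toAlgebra
    have h1 : Algebra.FiniteType Γ(X, W.1) (B.presheaf.obj (op W.1)) := hB W
    obtain ⟨T, hT⟩ := h1.out
    exact ⟨T, top_le_iff.mp fun z _ => by
      have hz : z ∈ Algebra.adjoin Γ(X, W.1) (T : Set (B.presheaf.obj (op W.1))) :=
        hT ▸ Algebra.mem_top
      rwa [← Subalgebra.mem_toSubring, Algebra.adjoin_eq_ring_closure] at hz⟩
  choose T hT using hgens
  obtain ⟨E, j, hj, hE, hEft, hs⟩ := exists_sub B.toModule H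
    (fun i : (W : σ) × T W.1 => i.1.1.1) (fun i => i.1.1.2)
    (fun i => (i.2.1 : B.presheaf.obj (op i.1.1.1)))
  refine ⟨E, j, hj, hE, hEft, fun U => gen_eq_top j (fun x => ?_) U.2⟩
  obtain ⟨W, hWσ, hx⟩ := Set.mem_iUnion₂.mp (hσ (Set.mem_univ x))
  refine ⟨W, W.2, hx, top_le_iff.mp (hT W ▸ Subring.closure_le.mpr ?_)⟩
  rintro _ (⟨r, rfl⟩ | ht)
  · exact str_mem_gen j r
  · obtain ⟨e, he⟩ := hs ⟨⟨W, hWσ⟩, ⟨_, ht⟩⟩
    exact Subring.subset_closure (Or.inr ⟨e, he⟩)

/-- Sections lie in subalgebras of finite type. -/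
theorem exists_subalgebra (B : RelSpec.QCAlg X)
    (H : ∀ (W : X.Opens), IsAffineOpen W → ∀ s : Γ(B.toModule, W),
      ∃ S : SubMod.StalkSub B.toModule, SubMod.FTOn S ⊤ ∧ s ∈ Set.range ((SubSheaf.incl S).app W))
    (U : X.affineOpens) (b : B.presheaf.obj (op (U : X.Opens))) :
    ∃ (B' : RelSpec.QCAlg X) (φ : B' ⟶ B),
      (∀ V : X.Opens, Function.Injective (φ.hom.app (op V)).hom) ∧
      (∀ V : X.affineOpens, (B'.str.app (op (V : X.Opens))).hom.FiniteType) ∧
      b ∈ Set.range (φ.hom.app (op (U : X.Opens))).hom := by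
  have := isQuasicoherent_toModule B
  obtain ⟨S, hS, e, he⟩ := H U U.2 b
  have := SubSheaf.isQuasicoherent_sub hS
  refine ⟨adjoin (SubSheaf.incl S), adjoinι _, adjoinι_injective _,
    fun V => finiteType_adjoin _ (SubSheaf.isFiniteType_sub hS) V.2, ?_⟩
  rw [range_adjoinι]
  exact gen_le_locGen _ _ (he ▸ app_mem_gen _ e)

end Groth.Agent.LimTop.SubAlg

end
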