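import Groth.Agent.LimTop.ModSys
import Groth.Agent.LimLib.Sections
import Mathlib.LinearAlgebra.DirectSum.Finsupp
import Mathlib.LinearAlgebra.TensorProduct.RightExactness

/-!
# The system of pullbacks of a module along a limit of schemes with affine transition maps

For a quasi-coherent `G` on the stage `i₀`, the modules `φ_* φ^* G` form a system `pullSys` on `D i₀`
whose cocone to `π_* π^* G` is a colimit on sections over affine opens (`sysColim_pullSys`).
-/

universe u

open CategoryTheory Limits AlgebraicGeometry Opposite TopologicalSpace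
open scoped TensorProduct

namespace Groth.Agent.LimTop

open Groth.Agent.PullStalk.Sky Groth.Agent.PullStalk.Exact Groth.Agent.QCoh

variable {X Y Z : Scheme.{u}}

section trans

variable (p : Z ⟶ X) (g : X ⟶ Y) {r : Z ⟶ Y} (e : p ≫ g = r) (G : Y.Modules)

/-- `(p ≫ g)^* G ≅ p^* g^* G` followed by the pullback of sections along `p`. -/
noncomputable def transSec {W : X.Opens} {V : Z.Opens} (h : V ≤ p ⁻¹ᵁ W) :
    Γ((Scheme.Modules.pullback g).obj G, W) →+ Γ((Scheme.Modules.pullback r).obj G, V) :=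
  (((Scheme.Modules.pullbackComp p g ≪≫ Scheme.Modules.pullbackCongr e).app G).hom.app V).hom.comp
    (unitSec p ((Scheme.Modules.pullback g).obj G) h)

lemma transSec_apply {W : X.Opens} {V : Z.Opens} (h : V ≤ p ⁻¹ᵁ W)
    (t : Γ((Scheme.Modules.pullback g).obj G, W)) :
    transSec p g e G h t =
      ((Scheme.Modules.pullbackComp p g ≪≫ Scheme.Modules.pullbackCongr e).app G).hom.app V
        (unitSec p ((Scheme.Modules.pullback g).obj G) h t) := rfl

lemma transSec_smul {W : X.Opens} {V : Z.Opens} (h : V ≤ p ⁻¹ᵁ W) (a : Γ(X, W))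
    (t : Γ((Scheme.Modules.pullback g).obj G, W)) :
    transSec p g e G h (a • t) = p.appLE W V h a • transSec p g e G h t := by
  rw [transSec_apply, unitSec_smul, Scheme.Modules.Hom.app_smul]
  rfl

lemma res_transSec {W : X.Opens} {V V' : Z.Opens} (h : V ≤ p ⁻¹ᵁ W) (hV : V' ≤ V)
    (t : Γ((Scheme.Modules.pullback g).obj G, W)) :
    res _ hV (transSec p g e G h t) = transSec p g e G (hV.trans h) t := by
  let φ : (Scheme.Modules.pullback p).obj ((Scheme.Modules.pullback g).obj G) ⟶
      (Scheme.Modules.pullback r).obj G :=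
    ((Scheme.Modules.pullbackComp p g ≪≫ Scheme.Modules.pullbackCongr e).app G).hom
  exact (app_res φ hV (unitSec p ((Scheme.Modules.pullback g).obj G) h t)).symm.trans
    (congrArg (φ.app V') (res_unitSec p ((Scheme.Modules.pullback g).obj G) h hV t))

lemma transSec_res {W W' : X.Opens} {V : Z.Opens} (hW : W' ≤ W) (h : V ≤ p ⁻¹ᵁ W')
    (t : Γ((Scheme.Modules.pullback g).obj G, W)) :
    transSec p g e G h (res _ hW t) = transSec p g e G (h.trans (p.preimage_mono hW)) t := by
  rw [transSec_apply, unitSec_res]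
  rfl

lemma transSec_unitSec {U : Y.Opens} {W : X.Opens} {V : Z.Opens} (hW : W ≤ g ⁻¹ᵁ U)
    (h : V ≤ p ⁻¹ᵁ W) (m : Γ(G, U)) :
    transSec p g e G h (unitSec g G hW m) =
      unitSec r G ((h.trans (p.preimage_mono hW)).trans (le_of_eq (by subst e; rfl))) m := by
  rw [transSec_apply]
  exact (congrArg (((Scheme.Modules.pullbackCongr e).hom.app G).app V)
    (unitSec_comp g G hW p h m)).trans (unitSec_congr (p ≫ g) G _ e m)

include e in
lemma preimage_le {U : Y.Opens} : r ⁻¹ᵁ U ≤ p ⁻¹ᵁ (g ⁻¹ᵁ U) := le_of_eq (by subst e; rfl)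

/-- The morphism `g_* g^* G ⟶ r_* r^* G` for `r = p ≫ g`. -/
noncomputable def transHom :
    (Scheme.Modules.pushforward g).obj ((Scheme.Modules.pullback g).obj G) ⟶
      (Scheme.Modules.pushforward r).obj ((Scheme.Modules.pullback r).obj G) :=
  ⟨PresheafOfModules.homMk
    { app := fun U => AddCommGrpCat.ofHom
        (transSec p g e G (preimage_le p g e (U := U.unop)))
      naturality := fun {U U'} i => by
        ext t
        refine (transSec_res p g e G (g.preimage_mono i.unop.le) (preimage_le p g e) t).trans ?_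
        exact (res_transSec p g e G (preimage_le p g e) (r.preimage_mono i.unop.le) t).symm }
    (fun U a t => by
      refine (transSec_smul p g e G (preimage_le p g e) (g.app U.unop a) t).trans ?_
      refine congrArg (· • transSec p g e G (preimage_le p g e (U := U.unop)) t) ?_
      subst e
      rw [g.app_eq_appLE, ← ConcreteCategory.comp_apply, Scheme.Hom.appLE_comp_appLE,
        ← Scheme.Hom.app_eq_appLE]
      rfl)⟩

lemma transHom_app {U : Y.Opens}
    (t : Γ((Scheme.Modules.pullback g).obj G, g ⁻¹ᵁ U)) :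
    (transHom p g e G).app U t = transSec p g e G (preimage_le p g e) t := rfl

end trans

/-- Additive semilinear maps out of sections of a pullback which agree on pulled back sections
agree. -/
lemma eq_of_unitSec (g : X ⟶ Y) (M : Y.Modules) [M.IsQuasicoherent] {U : Y.Opens} {W : X.Opens}
    (h : W ≤ g ⁻¹ᵁ U) (hU : IsAffineOpen U) (hW : IsAffineOpen W) {B : Type*} [CommRing B]
    {P : Type*} [AddCommGroup P] [Module B P] (σ : Γ(X, W) →+* B)
    (a b : Γ((Scheme.Modules.pullback g).obj M, W) →+ P)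
    (ha : ∀ r t, a (r • t) = σ r • a t) (hb : ∀ r t, b (r • t) = σ r • b t)
    (e : ∀ m : Γ(M, U), a (unitSec g M h m) = b (unitSec g M h m)) : a = b := by
  let := (g.appLE U W h).hom.toAlgebra
  let := secModule g M h
  have : IsScalarTower Γ(Y, U) Γ(X, W) Γ((Scheme.Modules.pullback g).obj M, W) :=
    IsScalarTower.of_algebraMap_smul fun _ _ => rfl
  refine AddMonoidHom.ext fun t => ?_
  induction t using (isBaseChange_unitSec g M h hU hW).inductionOn with
  | zero => rw [map_zero, map_zero]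
  | tmul m => exact e m
  | smul r t ht => rw [ha, hb, ht]
  | add t t' ht ht' => rw [map_add, map_add, ht, ht']

lemma hom_ext_affine {M N : X.Modules} (φ ψ : M ⟶ N)
    (h : ∀ U : X.Opens, IsAffineOpen U → φ.app U = ψ.app U) : φ = ψ := by
  ext V m
  refine stalk_ext N _ _ fun x hx => ?_
  obtain ⟨U, hU, hxU, hUV⟩ := exists_isAffineOpen_mem_and_subset hx
  rw [← germM_res N hUV _ x hxU, ← germM_res N hUV _ x hxU, ← app_res, ← app_res, h U hU]

/-! ### A tensor lemma -/

/-- An element of `B_j ⊗ M` vanishing in the colimit vanishes at a stage. -/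
theorem exists_rTensor_eq_zero {A : Type u} [CommRing A] {J : Type u} [SmallCategory J]
    [IsFiltered J] {B : J ⥤ ModuleCat.{u} A} (s : Cocone B)
    (hsurj : ∀ b : s.pt, ∃ (j : J) (x : B.obj j), s.ι.app j x = b)
    (hzero : ∀ (j : J) (x : B.obj j), s.ι.app j x = 0 → ∃ (k : J) (a : j ⟶ k), B.map a x = 0)
    (M : Type u) [AddCommGroup M] [Module A M] {j : J} (x : B.obj j ⊗[A] M)
    (hx : (s.ι.app j).hom.rTensor M x = 0) :
    ∃ (k : J) (a : j ⟶ k), (B.map a).hom.rTensor M x = 0 := by
  classical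
  let sι : ∀ k, B.obj k →ₗ[A] s.pt := fun k => (s.ι.app k).hom
  replace hx : (sι j).rTensor M x = 0 := hx
  let p : (M →₀ A) →ₗ[A] M := Finsupp.linearCombination A id
  have hp : Function.Surjective p := fun m => ⟨Finsupp.single m 1, by simp [p]⟩
  obtain ⟨K, _, _, incl, hex⟩ : ∃ (K : Type u) (_ : AddCommGroup K) (_ : Module A K)
      (incl : K →ₗ[A] M →₀ A), Function.Exact incl p :=
    ⟨LinearMap.ker p, inferInstance, inferInstance, _, LinearMap.exact_subtype_ker_map p⟩
  have hw : ∀ {i k : J} (a : i ⟶ k), (sι k) ∘ₗ (B.map a).hom = (sι i) :=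
    fun a => congrArg ModuleCat.Hom.hom (s.w a)
  have comm : ∀ {P Q : Type u} [AddCommGroup P] [AddCommGroup Q] [Module A P] [Module A Q]
      (f : P →ₗ[A] Q) {R S : Type u} [AddCommGroup R] [AddCommGroup S] [Module A R] [Module A S]
      (g : R →ₗ[A] S) (t : P ⊗[A] R), g.lTensor Q (f.rTensor R t) = f.rTensor S (g.lTensor P t) :=
    fun {P Q} _ _ _ _ f {R S} _ _ _ _ g t => by
      rw [← LinearMap.comp_apply, ← LinearMap.comp_apply, LinearMap.lTensor_comp_rTensor,
        LinearMap.rTensor_comp_lTensor]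
  obtain ⟨y, rfl⟩ := LinearMap.lTensor_surjective (B.obj j) hp x
  obtain ⟨z, hz⟩ := (lTensor_exact s.pt hex hp ((sι j).rTensor (M →₀ A) y)).mp
    (by rw [comm]; exact hx)
  have lift : ∀ z : s.pt ⊗[A] K,
      ∃ (k : J) (z' : B.obj k ⊗[A] K), (sι k).rTensor K z' = z := by
    intro z
    induction z using TensorProduct.induction_on with
    | zero => exact ⟨j, 0, map_zero _⟩
    | tmul b c =>
      obtain ⟨k, b', rfl⟩ := hsurj b
      exact ⟨k, b' ⊗ₜ c, rfl⟩
    | add z₁ z₂ h₁ h₂ =>
      obtain ⟨k₁, w₁, rfl⟩ := h₁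
      obtain ⟨k₂, w₂, rfl⟩ := h₂
      refine ⟨IsFiltered.max k₁ k₂, (B.map (IsFiltered.leftToMax k₁ k₂)).hom.rTensor K w₁ +
        (B.map (IsFiltered.rightToMax k₁ k₂)).hom.rTensor K w₂, ?_⟩
      rw [map_add, ← LinearMap.rTensor_comp_apply, ← LinearMap.rTensor_comp_apply, hw, hw]
  obtain ⟨k, z', rfl⟩ := lift z
  let i := IsFiltered.max j k
  let a := IsFiltered.leftToMax j k
  let b := IsFiltered.rightToMax j k
  let w := (B.map a).hom.rTensor (M →₀ A) y - incl.lTensor (B.obj i) ((B.map b).hom.rTensor K z')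
  have hw0 : (sι i).rTensor (M →₀ A) w = 0 := by
    rw [map_sub, ← comm, ← LinearMap.rTensor_comp_apply, ← LinearMap.rTensor_comp_apply, hw, hw,
      hz, sub_self]
  have nat : ∀ {P Q : Type u} [AddCommGroup P] [AddCommGroup Q] [Module A P] [Module A Q]
      (f : P →ₗ[A] Q) (t : P ⊗[A] (M →₀ A)),
      TensorProduct.finsuppScalarRight A A Q M (f.rTensor _ t) =
        Finsupp.mapRange f f.map_zero (TensorProduct.finsuppScalarRight A A P M t) :=
    fun {P Q} _ _ _ _ f t => by
      induction t using TensorProduct.induction_on with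
      | zero => simp
      | tmul b c => ext m; simp [TensorProduct.finsuppScalarRight_apply_tmul_apply]
      | add t t' h h' =>
        rw [map_add, map_add, h, h', map_add, Finsupp.mapRange_add f.map_add]
  let v := TensorProduct.finsuppScalarRight A A (B.obj i) M w
  have hv : ∀ m, (sι i) (v m) = 0 := fun m => by
    have := congrArg (fun q => TensorProduct.finsuppScalarRight A A s.pt M q m) hw0
    rw [nat] at this
    simpa [v] using this
  choose l c hc using fun m : v.support => hzero i (v m.1) (hv m.1)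
  obtain ⟨L, f, g, hg⟩ := IsFiltered.wideSpan c
  have hf : (B.map f).hom.rTensor (M →₀ A) w = 0 := by
    apply (TensorProduct.finsuppScalarRight A A (B.obj L) M).injective
    rw [nat, map_zero]
    ext m
    rw [Finsupp.mapRange_apply]
    by_cases hm : m ∈ v.support
    · rw [← hg ⟨m, hm⟩, B.map_comp]
      show (B.map (g ⟨m, hm⟩)).hom ((B.map (c ⟨m, hm⟩)) (v m)) = _
      rw [hc ⟨m, hm⟩, map_zero]
      rfl
    · rw [show v m = 0 from Finsupp.notMem_support_iff.mp hm, map_zero]
      rfl
  refine ⟨L, a ≫ f, ?_⟩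
  have h0 : p.lTensor (B.obj i) (incl.lTensor (B.obj i) ((B.map b).hom.rTensor K z')) = 0 := by
    rw [← LinearMap.lTensor_comp_apply, hex.linearMap_comp_eq_zero, LinearMap.lTensor_zero]
    rfl
  have := congrArg (p.lTensor (B.obj L)) hf
  rw [map_zero, comm, map_sub (p.lTensor (B.obj i)), h0, sub_zero, comm,
    ← LinearMap.rTensor_comp_apply] at this
  rw [B.map_comp]
  exact this

/-! ### The system -/

lemma appLE_self_apply (f : X ⟶ X) (hf : f = 𝟙 X) (U : X.Opens) (e : U ≤ f ⁻¹ᵁ U) (r : Γ(X, U)) :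
    f.appLE U U e r = r := by
  subst hf
  simp only [Scheme.Hom.appLE, Scheme.Hom.id_app, CommRingCat.comp_apply, CommRingCat.id_apply]
  exact rres_self e r

lemma resLE_appTop_apply (f : X ⟶ Y) {U : Y.Opens} {V : X.Opens} (e : V ≤ f ⁻¹ᵁ U)
    (t : Γ(U, ⊤)) :
    (f.resLE U V e).appTop t = V.topIso.inv (f.appLE U V e (U.topIso.hom t)) := by
  rw [Scheme.Hom.appTop, Scheme.Hom.resLE_app_top]
  rfl

section system

variable {I : Type u} [SmallCategory I] {D : I ⥤ Scheme.{u}} {c : Cone D} {i₀ : I}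

lemma ring_comp_eq {j k : Over i₀} (ψ : k ⟶ j) : D.map ψ.left ≫ D.map j.hom = D.map k.hom := by
  rw [← D.map_comp, Over.w ψ]

variable [∀ (i j : I) (f : i ⟶ j), IsAffineHom (D.map f)]

/-- The system `φ_* φ^* G`. -/
noncomputable def pullSys (G : (D.obj i₀).Modules) [G.IsQuasicoherent] :
    (Over i₀)ᵒᵖ ⥤ (D.obj i₀).Modules where
  obj j := (Scheme.Modules.pushforward (D.map j.unop.hom)).obj
    ((Scheme.Modules.pullback (D.map j.unop.hom)).obj G)
  map {j k} a := transHom (D.map a.unop.left) (D.map j.unop.hom) (ring_comp_eq a.unop) G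
  map_id j := by
    refine hom_ext_affine _ _ fun U hU => ?_
    ext t
    exact DFunLike.congr_fun (eq_of_unitSec _ G le_rfl hU (hU.preimage _) (RingHom.id _)
      (transSec _ _ (ring_comp_eq (𝟙 j).unop) G (preimage_le _ _ (ring_comp_eq (𝟙 j).unop)))
      (AddMonoidHom.id _)
      (fun r t => (transSec_smul _ _ _ G _ r t).trans (congrArg (· • _) (appLE_self_apply _ (by simp) _ _ r)))
      (fun _ _ => rfl) fun m => transSec_unitSec _ _ _ G _ _ m) t
  map_comp {j k l} a b := by
    refine hom_ext_affine _ _ fun U hU => ?_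
    ext t
    exact DFunLike.congr_fun (eq_of_unitSec _ G le_rfl hU (hU.preimage _)
      ((D.map (a ≫ b).unop.left).appLE _ _ (preimage_le _ _ (ring_comp_eq (a ≫ b).unop))).hom
      (transSec _ _ (ring_comp_eq (a ≫ b).unop) G (preimage_le _ _ (ring_comp_eq (a ≫ b).unop)))
      ((transSec (D.map b.unop.left) (D.map k.unop.hom) (ring_comp_eq b.unop) G
          (preimage_le _ _ (ring_comp_eq b.unop) (U := U))).comp
        (transSec _ _ (ring_comp_eq a.unop) G (preimage_le _ _ (ring_comp_eq a.unop))))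
      (fun r t => transSec_smul _ _ _ G _ r t)
      (fun r t => by
        rw [AddMonoidHom.comp_apply, transSec_smul, transSec_smul]
        refine congrArg (· • _) ?_
        rw [← CommRingCat.comp_apply, Scheme.Hom.appLE_comp_appLE]
        simp only [unop_comp, Over.comp_left, Functor.map_comp])
      fun m => by
        rw [AddMonoidHom.comp_apply, transSec_unitSec, transSec_unitSec, transSec_unitSec]) t

/-- The cocone `φ_* φ^* G ⟶ π_* π^* G`. -/
noncomputable def pullCocone (c : Cone D) (hc : IsLimit c) [IsCofiltered I] (G : (D.obj i₀).Modules)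
    [G.IsQuasicoherent] : Cocone (pullSys (i₀ := i₀) G) where
  pt := (Scheme.Modules.pushforward (c.π.app i₀)).obj ((Scheme.Modules.pullback (c.π.app i₀)).obj G)
  ι :=
    { app := fun j => transHom (c.π.app j.unop.left) (D.map j.unop.hom) (c.w j.unop.hom) G
      naturality := fun {j k} a => by
        refine hom_ext_affine _ _ fun U hU => ?_
        ext t
        exact DFunLike.congr_fun (eq_of_unitSec _ G le_rfl hU (hU.preimage _)
          ((c.π.app j.unop.left).appLE _ _ (preimage_le _ _ (c.w j.unop.hom))).hom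
          ((transSec (c.π.app k.unop.left) (D.map k.unop.hom) (c.w k.unop.hom) G
              (preimage_le _ _ (c.w k.unop.hom) (U := U))).comp
            (transSec _ _ (ring_comp_eq a.unop) G (preimage_le _ _ (ring_comp_eq a.unop))))
          (transSec _ _ (c.w j.unop.hom) G (preimage_le _ _ (c.w j.unop.hom)))
          (fun r t => by
            rw [AddMonoidHom.comp_apply, transSec_smul, transSec_smul]
            refine congrArg (· • _) ?_
            rw [← CommRingCat.comp_apply, Scheme.Hom.appLE_comp_appLE]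
            simp only [c.w])
          (fun r t => transSec_smul _ _ _ G _ r t)
          fun m => by
            rw [AddMonoidHom.comp_apply, transSec_unitSec, transSec_unitSec, transSec_unitSec]) t }

variable [IsCofiltered I] (hc : IsLimit c)

include hc in
lemma exists_lift_ring {U : (D.obj i₀).Opens} (hU : IsAffineOpen U)
    (b : Γ(c.pt, c.π.app i₀ ⁻¹ᵁ U)) :
    ∃ (j : Over i₀) (b' : Γ(D.obj j.left, D.map j.hom ⁻¹ᵁ U)),
      (c.π.app j.left).appLE _ _ (preimage_le _ _ (c.w j.hom)) b' = b := by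
  have (j : Over i₀) : IsAffine ((opensDiagram D i₀ U).obj j) := hU.preimage _
  obtain ⟨j, -, t, ht⟩ := LimLib.exists_lifts_over (isLimitOpensCone D c hc i₀ U) (Over.mk (𝟙 i₀))
    (fun _ : Unit => (c.π.app i₀ ⁻¹ᵁ U).topIso.inv b)
  refine ⟨j, (D.map j.hom ⁻¹ᵁ U).topIso.hom (t ()), ?_⟩
  have h := congrArg (c.π.app i₀ ⁻¹ᵁ U).topIso.hom
    ((resLE_appTop_apply (c.π.app j.left) _ (t ())).symm.trans (ht ()))
  erw [Iso.inv_hom_id_apply, Iso.inv_hom_id_apply] at h
  exact h

include hc in
lemma exists_zero_ring {U : (D.obj i₀).Opens} (hU : IsAffineOpen U) (j : Over i₀)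
    (b : Γ(D.obj j.left, D.map j.hom ⁻¹ᵁ U))
    (hb : (c.π.app j.left).appLE _ _ (preimage_le _ _ (c.w j.hom)) b = 0) :
    ∃ (k : Over i₀) (ψ : k ⟶ j),
      (D.map ψ.left).appLE _ _ (preimage_le _ _ (ring_comp_eq ψ)) b = 0 := by
  have (j : Over i₀) : IsAffine ((opensDiagram D i₀ U).obj j) := hU.preimage _
  obtain ⟨k, ψ, hk⟩ := LimLib.exists_vanish (isLimitOpensCone D c hc i₀ U) j
    (fun _ : Unit => (D.map j.hom ⁻¹ᵁ U).topIso.inv b) fun _ => by
      refine (resLE_appTop_apply (c.π.app j.left) _ _).trans ?_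
      erw [Iso.inv_hom_id_apply, hb, map_zero]
      rfl
  refine ⟨k, ψ, ?_⟩
  have h := congrArg (D.map k.hom ⁻¹ᵁ U).topIso.hom
    ((resLE_appTop_apply (D.map ψ.left) _ _).symm.trans (hk ()))
  erw [Iso.inv_hom_id_apply, Iso.inv_hom_id_apply, map_zero] at h
  exact h

/-- The functions on the preimage of `U`, as a module over the functions on `U`. -/
noncomputable def preMod (g : X ⟶ Y) (U : Y.Opens) : ModuleCat.{u} Γ(Y, U) :=
  letI := Module.compHom Γ(X, g ⁻¹ᵁ U) (g.appLE U _ le_rfl).hom
  ModuleCat.of _ Γ(X, g ⁻¹ᵁ U)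

/-- The map on functions induced by a factorisation `r = p ≫ g`. -/
noncomputable def preTrans (p : Z ⟶ X) (g : X ⟶ Y) {r : Z ⟶ Y} (e : p ≫ g = r) (U : Y.Opens) :
    preMod g U ⟶ preMod r U :=
  letI := Module.compHom Γ(X, g ⁻¹ᵁ U) (g.appLE U _ le_rfl).hom
  letI := Module.compHom Γ(Z, r ⁻¹ᵁ U) (r.appLE U _ le_rfl).hom
  ModuleCat.ofHom
    { toFun := p.appLE _ _ (preimage_le p g e)
      map_add' := map_add _
      map_smul' := fun a x => by
        show p.appLE _ _ _ (g.appLE U _ le_rfl a * x) = r.appLE U _ le_rfl a * _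
        rw [map_mul, ← CommRingCat.comp_apply, Scheme.Hom.appLE_comp_appLE]
        simp only [e] }

lemma preTrans_apply (p : Z ⟶ X) (g : X ⟶ Y) {r : Z ⟶ Y} (e : p ≫ g = r) (U : Y.Opens)
    (x : Γ(X, g ⁻¹ᵁ U)) : (preTrans p g e U).hom x = p.appLE _ _ (preimage_le p g e) x := rfl

/-- The functions on the preimages of `U`, as modules over the functions on `U`. -/
noncomputable def ringSys (U : (D.obj i₀).Opens) :
    (Over i₀)ᵒᵖ ⥤ ModuleCat.{u} Γ(D.obj i₀, U) where
  obj j := preMod (D.map j.unop.hom) U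
  map {j k} a := preTrans (D.map a.unop.left) _ (ring_comp_eq a.unop) U
  map_id j := by
    refine ModuleCat.hom_ext (LinearMap.ext fun x => ?_)
    show (D.map (𝟙 j).unop.left).appLE _ _ _ x = x
    exact appLE_self_apply _ (by simp) _ _ x
  map_comp {j k l} a b := by
    refine ModuleCat.hom_ext (LinearMap.ext fun x => ?_)
    show (D.map (a ≫ b).unop.left).appLE _ _ _ x =
      (D.map b.unop.left).appLE _ _ _ ((D.map a.unop.left).appLE _ _ _ x)
    rw [← CommRingCat.comp_apply, Scheme.Hom.appLE_comp_appLE]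
    simp only [unop_comp, Over.comp_left, Functor.map_comp]

/-- The cocone of functions. -/
noncomputable def ringCocone (c : Cone D) (U : (D.obj i₀).Opens) :
    Cocone (ringSys (D := D) U) where
  pt := preMod (c.π.app i₀) U
  ι :=
    { app := fun j => preTrans (c.π.app j.unop.left) _ (c.w j.unop.hom) U
      naturality := fun {j k} a => by
        refine ModuleCat.hom_ext (LinearMap.ext fun x => ?_)
        show (c.π.app k.unop.left).appLE _ _ _ ((D.map a.unop.left).appLE _ _ _ x) =
          (c.π.app j.unop.left).appLE _ _ _ x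
        rw [← CommRingCat.comp_apply, Scheme.Hom.appLE_comp_appLE]
        simp only [c.w] }

/-- `(g_* g^* G)(U)` is the base change of `G(U)`: the comparison map. -/
theorem exists_tensor_equiv (g : X ⟶ Y) (G : Y.Modules) [G.IsQuasicoherent] {U : Y.Opens}
    (hU : IsAffineOpen U) (hW : IsAffineOpen (g ⁻¹ᵁ U)) :
    ∃ e : preMod g U ⊗[Γ(Y, U)] Γ(G, U) ≃+ Γ((Scheme.Modules.pullback g).obj G, g ⁻¹ᵁ U),
      ∀ (b : Γ(X, g ⁻¹ᵁ U)) (m : Γ(G, U)),
        e (TensorProduct.tmul Γ(Y, U) (show preMod g U from b) m) = b • unitSec g G le_rfl m := by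
  letI := Module.compHom Γ(X, g ⁻¹ᵁ U) (g.appLE U _ le_rfl).hom
  letI := (g.appLE U (g ⁻¹ᵁ U) le_rfl).hom.toAlgebra
  letI := secModule g G (le_refl (g ⁻¹ᵁ U))
  haveI : IsScalarTower Γ(Y, U) Γ(X, g ⁻¹ᵁ U) Γ((Scheme.Modules.pullback g).obj G, g ⁻¹ᵁ U) :=
    IsScalarTower.of_algebraMap_smul fun _ _ => rfl
  have hb := isBaseChange_unitSec g G le_rfl hU hW
  exact ⟨hb.equiv.toAddEquiv, fun b m => IsBaseChange.equiv_tmul hb b m⟩

include hc in
/-- The system of pullbacks is a colimit on affine sections. -/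
theorem sysColim_pullSys (G : (D.obj i₀).Modules) [G.IsQuasicoherent] :
    SysColim (pullCocone (i₀ := i₀) c hc G) where
  surj U hU t := by
    have : IsAffineHom (c.π.app i₀) := isAffineHom_π_app D c hc i₀
    let : Algebra Γ(D.obj i₀, U) Γ(c.pt, c.π.app i₀ ⁻¹ᵁ U) :=
      ((c.π.app i₀).appLE U (c.π.app i₀ ⁻¹ᵁ U) le_rfl).hom.toAlgebra
    let : Module Γ(D.obj i₀, U) Γ((Scheme.Modules.pullback (c.π.app i₀)).obj G, c.π.app i₀ ⁻¹ᵁ U) :=
      secModule (c.π.app i₀) G (le_refl (c.π.app i₀ ⁻¹ᵁ U))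
    have : IsScalarTower Γ(D.obj i₀, U) Γ(c.pt, c.π.app i₀ ⁻¹ᵁ U)
        Γ((Scheme.Modules.pullback (c.π.app i₀)).obj G, c.π.app i₀ ⁻¹ᵁ U) :=
      IsScalarTower.of_algebraMap_smul fun _ _ => rfl
    change ∃ (j : (Over i₀)ᵒᵖ) (t' : Γ((pullSys G).obj j, U)),
      ((pullCocone (i₀ := i₀) c hc G).ι.app j).app U t' = t
    induction t using
        (isBaseChange_unitSec (X := c.pt) (c.π.app i₀) G le_rfl hU (hU.preimage _)).inductionOn with
    | zero => exact ⟨op (Over.mk (𝟙 i₀)), 0, map_zero _⟩
    | tmul m =>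
      exact ⟨op (Over.mk (𝟙 i₀)), unitSec _ G le_rfl m, transSec_unitSec _ _ _ G _ _ m⟩
    | smul b t ht =>
      obtain ⟨j, t', rfl⟩ := ht
      obtain ⟨k, b', rfl⟩ := exists_lift_ring hc hU b
      let a₁ := IsFiltered.leftToMax j (op k)
      let a₂ := IsFiltered.rightToMax j (op k)
      refine ⟨IsFiltered.max j (op k),
        (show Γ((Scheme.Modules.pullback _).obj G, D.map (IsFiltered.max j (op k)).unop.hom ⁻¹ᵁ U) from
          (D.map a₂.unop.left).appLE _ _ (preimage_le _ _ (ring_comp_eq a₂.unop)) b' •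
            (show Γ((Scheme.Modules.pullback _).obj G, D.map (IsFiltered.max j (op k)).unop.hom ⁻¹ᵁ U)
              from ((pullSys G).map a₁).app U t')), ?_⟩
      refine (transSec_smul _ _ _ G _ _ _).trans ?_
      refine congrArg₂ (· • ·) ?_ (ι_app_map (s := pullCocone (i₀ := i₀) c hc G) a₁ t')
      rw [← CommRingCat.comp_apply, Scheme.Hom.appLE_comp_appLE]
      simp only [c.w]
    | add t₁ t₂ h₁ h₂ =>
      obtain ⟨j₁, s₁, rfl⟩ := h₁
      obtain ⟨j₂, s₂, rfl⟩ := h₂
      refine ⟨IsFiltered.max j₁ j₂, ((pullSys G).map (IsFiltered.leftToMax j₁ j₂)).app U s₁ +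
        ((pullSys G).map (IsFiltered.rightToMax j₁ j₂)).app U s₂, ?_⟩
      exact (map_add _ _ _).trans (congrArg₂ (· + ·) (ι_app_map _ s₁) (ι_app_map _ s₂))
  zero U hU j t ht := by
    have : IsAffineHom (c.π.app i₀) := isAffineHom_π_app D c hc i₀
    obtain ⟨e, he⟩ := exists_tensor_equiv (D.map j.unop.hom) G hU (hU.preimage _)
    obtain ⟨e', he'⟩ := exists_tensor_equiv (c.π.app i₀) G hU (hU.preimage _)
    obtain ⟨x, rfl⟩ := e.surjective t
    have key : ∀ x : (ringSys (D := D) U).obj j ⊗[Γ(D.obj i₀, U)] Γ(G, U),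
        ((pullCocone (i₀ := i₀) c hc G).ι.app j).app U (e x) =
          e' (((ringCocone c U).ι.app j).hom.rTensor Γ(G, U) x) := fun x => by
      induction x using TensorProduct.induction_on with
      | zero => exact (congrArg _ (map_zero e)).trans ((map_zero _).trans (map_zero e').symm)
      | tmul b m =>
        refine (congrArg _ (he b m)).trans ((transSec_smul _ _ _ G _ _ _).trans ?_)
        rw [transSec_unitSec]
        exact (he' _ m).symm
      | add x y hx hy =>
        refine (congrArg _ (map_add e x y)).trans ((map_add _ _ _).trans ?_)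
        refine (congrArg₂ (· + ·) hx hy).trans ?_
        rw [map_add]
        exact (map_add e' _ _).symm
    obtain ⟨k, a, hk⟩ := exists_rTensor_eq_zero (ringCocone c U)
      (fun b => by
        obtain ⟨k, b', hb⟩ := exists_lift_ring hc hU b
        exact ⟨op k, b', hb⟩)
      (fun j b hb => by
        obtain ⟨k, ψ, hk⟩ := exists_zero_ring hc hU j.unop b hb
        exact ⟨op k, ψ.op, hk⟩)
      Γ(G, U) x (e'.injective (((key x).symm.trans ht).trans (map_zero e').symm))
    refine ⟨k, a, ?_⟩
    obtain ⟨e₂, he₂⟩ := exists_tensor_equiv (D.map k.unop.hom) G hU (hU.preimage _)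
    have key₂ : ∀ x : (ringSys (D := D) U).obj j ⊗[Γ(D.obj i₀, U)] Γ(G, U),
        ((pullSys G).map a).app U (e x) =
          e₂ (((ringSys (D := D) U).map a).hom.rTensor Γ(G, U) x) := fun x => by
      induction x using TensorProduct.induction_on with
      | zero => exact (congrArg _ (map_zero e)).trans ((map_zero _).trans (map_zero e₂).symm)
      | tmul b m =>
        refine (congrArg _ (he b m)).trans ((transSec_smul _ _ _ G _ _ _).trans ?_)
        rw [transSec_unitSec]
        exact (he₂ _ m).symm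
      | add x y hx hy =>
        refine (congrArg _ (map_add e x y)).trans ((map_add _ _ _).trans ?_)
        refine (congrArg₂ (· + ·) hx hy).trans ?_
        rw [map_add]
        exact (map_add e₂ _ _).symm
    exact (key₂ x).trans ((congrArg e₂ hk).trans (map_zero e₂))

end system

end Groth.Agent.LimTop
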