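import Groth.Agent.LimTop.Descend

/-!
Constructible subsets of a limit come from a stage.
-/

universe u

open CategoryTheory AlgebraicGeometry Limits Topology TopologicalSpace Opposite

namespace Groth.Agent.LimTop

variable {I : Type u} [SmallCategory I] {D : I ⥤ Scheme.{u}} {c : Cone D}
variable [∀ (i j : I) (f : i ⟶ j), IsAffineHom (D.map f)] [IsCofiltered I]

/-- Any constructible subset of a limit comes from a qcqs stage. -/
theorem exists_isConstructible_preimage (hc : IsLimit c) (i₀ : I) [CompactSpace (D.obj i₀)]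
    [QuasiSeparatedSpace (D.obj i₀)] {Z : Set c.pt} (hZ : IsConstructible Z) :
    ∃ (i : I) (_ : i ⟶ i₀) (Zi : Set (D.obj i)), IsConstructible Zi ∧ c.π.app i ⁻¹' Zi = Z := by
  have hπ : IsAffineHom (c.π.app i₀) := isAffineHom_π_app _ _ hc i₀
  have : CompactSpace c.pt := QuasiCompact.compactSpace_of_compactSpace (c.π.app i₀)
  induction hZ using IsConstructible.empty_union_induction with
  | open_retrocompact U ho hr =>
    obtain ⟨i, V, hV, e⟩ := exists_preimage_eq D c hc ⟨U, ho⟩ hr.isCompact
    refine ⟨IsCofiltered.min i i₀, IsCofiltered.minToRight _ _,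
      D.map (IsCofiltered.minToLeft i i₀) ⁻¹' (V : Set (D.obj i)), ?_, ?_⟩
    · have : CompactSpace (D.obj (IsCofiltered.min i i₀)) :=
        QuasiCompact.compactSpace_of_compactSpace (D.map (IsCofiltered.minToRight i i₀))
      have : QuasiSeparatedSpace (D.obj (IsCofiltered.min i i₀)) :=
        quasiSeparatedSpace_of_quasiSeparated (D.map (IsCofiltered.minToRight i i₀))
      exact (QuasiCompact.isCompact_preimage (f := D.map (IsCofiltered.minToLeft i i₀)) _ V.2 hV).isConstructible
        (V.2.preimage (D.map _).continuous)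
    · rw [preimage_π]
      exact congrArg (fun W : c.pt.Opens ↦ (W : Set c.pt)) e
  | union s _ t _ hs ht =>
    obtain ⟨i, φ, A, hA, rfl⟩ := hs
    obtain ⟨j, ψ, B, hB, rfl⟩ := ht
    obtain ⟨k, a, b, -⟩ := IsCofiltered.cospan φ ψ
    refine ⟨k, a ≫ φ, D.map a ⁻¹' A ∪ D.map b ⁻¹' B,
      ((D.map a).isConstructible_preimage hA).union ((D.map b).isConstructible_preimage hB), ?_⟩
    rw [Set.preimage_union, preimage_π, preimage_π]
  | compl s _ hs =>
    obtain ⟨i, φ, A, hA, rfl⟩ := hs
    exact ⟨i, φ, Aᶜ, hA.compl, rfl⟩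

end Groth.Agent.LimTop
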