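import Groth.Agent.LimTop.Basic
import Mathlib.AlgebraicGeometry.Morphisms.Flat
import Mathlib.AlgebraicGeometry.Morphisms.UniversallyOpen
import Mathlib.RingTheory.Flat.EquationalCriterion

/-!
Flatness of projections of limits.
-/

universe u

open CategoryTheory AlgebraicGeometry Limits Topology TopologicalSpace Opposite

namespace Groth.Agent.LimTop

/-- A filtered colimit of flat algebras is flat. -/
theorem flat_of_isColimit {R : CommRingCat.{u}} {J : Type u} [SmallCategory J] [IsFiltered J]
    {F : J ⥤ CommRingCat.{u}} {s : Cocone F} (hs : IsColimit s) (a : ∀ j, R ⟶ F.obj j)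
    (ha : ∀ {i j : J} (f : i ⟶ j), a i ≫ F.map f = a j) (g : R ⟶ s.pt)
    (hg : ∀ j, a j ≫ s.ι.app j = g) (h : ∀ j, (a j).hom.Flat) : g.hom.Flat := by
  classical
  algebraize [g.hom]
  refine Module.Flat.of_forall_isTrivialRelation fun {l f x} hfx ↦ ?_
  have hF := isColimitOfPreserves (forget CommRingCat.{u}) hs
  choose j y hy using fun k ↦ Types.jointly_surjective_of_isColimit hF (x k)
  obtain ⟨j₀, hj₀⟩ := IsFiltered.sup_objs_exists (Finset.univ.image j)
  let t (k) : j k ⟶ j₀ := (hj₀ (Finset.mem_image_of_mem _ (Finset.mem_univ k))).some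
  let y₀ (k) : F.obj j₀ := F.map (t k) (y k)
  have hy₀ (k) : s.ι.app j₀ (y₀ k) = x k := by
    show (F.map (t k) ≫ s.ι.app j₀) (y k) = _
    rw [s.w]; exact hy k
  have hsum : s.ι.app j₀ (∑ k, a j₀ (f k) * y₀ k) = s.ι.app j₀ 0 := by
    rw [map_sum, map_zero, ← hfx]
    refine Finset.sum_congr rfl fun k _ ↦ ?_
    rw [map_mul, hy₀, Algebra.smul_def, ← CommRingCat.comp_apply, hg]
    rfl
  obtain ⟨j₁, p, q, e⟩ := (Types.FilteredColimit.isColimit_eq_iff _ hF).mp hsum
  have e' : F.map p (∑ k, a j₀ (f k) * y₀ k) = F.map q 0 := e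
  rw [map_zero, map_sum] at e'
  simp only [map_mul, ← CommRingCat.comp_apply, ha] at e'
  have h₁ := h j₁
  algebraize [(a j₁).hom]
  obtain ⟨K, A, z, hz, hA⟩ := Module.Flat.iff_forall_isTrivialRelation.mp
    (show Module.Flat R (F.obj j₁) from h₁) (l := l) (f := f) (x := fun k ↦ F.map p (y₀ k))
    (by simp only [Algebra.smul_def]; exact e')
  refine ⟨K, A, fun m ↦ s.ι.app j₁ (z m), fun k ↦ ?_, hA⟩
  have h1 : s.ι.app j₁ (F.map p (y₀ k)) = s.ι.app j₁ (∑ m, A k m • z m) := congrArg _ (hz k)
  rw [← hy₀ k, ← s.w p]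
  refine h1.trans ?_
  rw [map_sum]
  refine Finset.sum_congr rfl fun m _ ↦ ?_
  rw [Algebra.smul_def, Algebra.smul_def, map_mul]
  exact congrArg (· * _) (congr($(hg j₁) (A k m)))

variable {I : Type u} [SmallCategory I] {D : I ⥤ Scheme.{u}} {c : Cone D}
variable [∀ (i j : I) (f : i ⟶ j), IsAffineHom (D.map f)] [IsCofiltered I]

/-- If the transition maps to `i` are flat, so is the projection to `i`. -/
theorem flat_π (hc : IsLimit c) (i : I) (hf : ∀ (j : I) (φ : j ⟶ i), Flat (D.map φ)) :
    Flat (c.π.app i) := by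
  have : IsZariskiLocalAtSource (P := (@Flat.{u} : MorphismProperty Scheme.{u})) := HasRingHomProperty.instIsZariskiLocalAtSource (Q := RingHom.Flat)
  have : IsZariskiLocalAtTarget (P := (@Flat.{u} : MorphismProperty Scheme.{u})) := HasRingHomProperty.instIsZariskiLocalAtTarget (P := (@Flat.{u} : MorphismProperty Scheme.{u})) (Q := RingHom.Flat)
  refine IsZariskiLocalAtSource.of_openCover (P := @Flat.{u})
    ((D.obj i).affineCover.pullback₁ (c.π.app i)) fun (k : (D.obj i).affineCover.I₀) ↦ ?_
  let U : (D.obj i).Opens := ((D.obj i).affineCover.f k).opensRange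
  have hU : IsAffineOpen U := isAffineOpen_opensRange _
  suffices Flat ((c.π.app i ⁻¹ᵁ U).ι ≫ c.π.app i) by
    have e : Set.range (((D.obj i).affineCover.pullback₁ (c.π.app i)).f k) ⊆
        Set.range (c.π.app i ⁻¹ᵁ U).ι := by
      show Set.range (pullback.fst (c.π.app i) ((D.obj i).affineCover.f k)) ⊆ _
      rw [Scheme.Pullback.range_fst, Scheme.Opens.range_ι]
      exact subset_rfl
    have : IsOpenImmersion (pullback.fst (c.π.app i) ((D.obj i).affineCover.f k)) := inferInstance
    have : IsOpenImmersion (((D.obj i).affineCover.pullback₁ (c.π.app i)).f k) := this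
    rw [← IsOpenImmersion.lift_fac _ _ e, Category.assoc]
    have : IsOpenImmersion (IsOpenImmersion.lift (c.π.app i ⁻¹ᵁ U).ι (((D.obj i).affineCover.pullback₁ (c.π.app i)).f k) e) :=
      IsOpenImmersion.of_comp _ (c.π.app i ⁻¹ᵁ U).ι
    exact Flat.comp _ _
  have haff (j : Over i) : IsAffine ((opensDiagram D i U).obj j) := hU.preimage _
  have hfl {j : Over i} (φ : j ⟶ Over.mk (𝟙 i)) : Flat ((opensDiagram D i U).map φ) := by
    have : Flat (D.map φ.left) := hf _ φ.left
    exact IsZariskiLocalAtSource.resLE (P := @Flat.{u}) _ this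
  have : IsAffine (opensCone D c i U).pt :=
    Scheme.isAffine_of_isLimit _ (isLimitOpensCone D c hc i U)
  have (j : (Over i)ᵒᵖ) : IsAffine ((opensDiagram D i U).op.obj j).unop := haff _
  have hcol := isColimitOfPreserves Scheme.Γ (isLimitOpensCone D c hc i U).op
  let top : Over i := Over.mk (𝟙 i)
  let p (j : Over i) : j ⟶ top := Over.homMk j.hom
  have hflat : Flat ((opensCone D c i U).π.app top) := by
    have : IsAffine (((Functor.const (Over i)).obj (opensCone D c i U).pt).obj top) :=
      inferInstanceAs (IsAffine (opensCone D c i U).pt)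
    rw [HasRingHomProperty.iff_of_isAffine (P := @Flat.{u})]
    refine flat_of_isColimit hcol (fun j ↦ ((opensDiagram D i U).map (p j.unop)).appTop)
      (fun {a b} f ↦ ?_) _ (fun j ↦ ?_) (fun j ↦ ?_)
    · show _ ≫ ((opensDiagram D i U).map f.unop).appTop = _
      rw [← Scheme.Hom.comp_appTop, ← Functor.map_comp]
      congr 3
      exact Over.OverMorphism.ext (Over.w f.unop)
    · show _ ≫ ((opensCone D c i U).π.app j.unop).appTop = _
      rw [← Scheme.Hom.comp_appTop, (opensCone D c i U).w]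
    · exact (HasRingHomProperty.iff_of_isAffine (P := @Flat.{u})).mp (hfl _)
  have : Flat ((opensDiagramι D i U).app top) := inferInstance
  have e : (opensCone D c i U).π.app top ≫ (opensDiagramι D i U).app top =
      (c.π.app i ⁻¹ᵁ U).ι ≫ c.π.app i := by
    exact Scheme.Hom.resLE_comp_ι _ _
  rw [← e]
  exact @Flat.comp _ _ _ _ _ hflat this

end Groth.Agent.LimTop
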