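import Groth.Agent.LimTop.PullSys
import Groth.Agent.LimTop.FPLocal
import Groth.Agent.LimTop.FlatLim
import Groth.Agent.FDesc.Stalk
import Mathlib.CategoryTheory.Abelian.Exact

/-!
# Descent of morphisms of modules along limits of schemes
-/

universe u

open CategoryTheory Limits AlgebraicGeometry Opposite TopologicalSpace

namespace Groth.Agent.LimTop

open Groth.Agent.PullStalk.Sky Groth.Agent.PullStalk.Exact Groth.Agent.QCoh

variable {X Y Z : Scheme.{u}}

/-- `p^* g^* ≅ r^*` for `r = p ≫ g`. -/
noncomputable def compIso (p : Z ⟶ X) (g : X ⟶ Y) {r : Z ⟶ Y} (e : p ≫ g = r) :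
    Scheme.Modules.pullback g ⋙ Scheme.Modules.pullback p ≅ Scheme.Modules.pullback r :=
  Scheme.Modules.pullbackComp p g ≪≫ Scheme.Modules.pullbackCongr e

instance (p : Z ⟶ X) : (Scheme.Modules.pullback p).PreservesZeroMorphisms :=
  have := (Scheme.Modules.pullbackPushforwardAdjunction p).isLeftAdjoint
  inferInstance

instance (p : Z ⟶ X) : PreservesColimitsOfSize.{0, 0} (Scheme.Modules.pullback p) :=
  (Scheme.Modules.pullbackPushforwardAdjunction p).leftAdjoint_preservesColimits

instance (p : Z ⟶ X) : (Scheme.Modules.pullback p).PreservesEpimorphisms :=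
  (Scheme.Modules.pullback p).preservesEpimorphisms_of_adjunction
    (Scheme.Modules.pullbackPushforwardAdjunction p)

/-- Transposing the transported pullback of a morphism. -/
lemma homEquiv_transport (p : Z ⟶ X) (g : X ⟶ Y) {r : Z ⟶ Y} (e : p ≫ g = r) (F G : Y.Modules)
    (hj : (Scheme.Modules.pullback g).obj F ⟶ (Scheme.Modules.pullback g).obj G) :
    (Scheme.Modules.pullbackPushforwardAdjunction r).homEquiv _ _
        (((compIso p g e).app F).inv ≫ (Scheme.Modules.pullback p).map hj ≫
          ((compIso p g e).app G).hom) =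
      (Scheme.Modules.pullbackPushforwardAdjunction g).homEquiv _ _ hj ≫ transHom p g e G := by
  rw [Adjunction.homEquiv_unit, Adjunction.homEquiv_unit]
  ext U m
  have h1 : ((Scheme.Modules.pullbackPushforwardAdjunction r).unit.app F).app U m =
      ((compIso p g e).app F).hom.app (r ⁻¹ᵁ U)
        (unitSec p ((Scheme.Modules.pullback g).obj F) (preimage_le p g e)
          (unitSec g F le_rfl m)) := by
    refine Eq.trans ?_ (transSec_unitSec p g e F le_rfl (preimage_le p g e) m).symm
    exact (res_self ((Scheme.Modules.pullback r).obj F) (le_refl (r ⁻¹ᵁ U)) _).symm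
  have h2 : ((Scheme.Modules.pullbackPushforwardAdjunction g).unit.app F).app U m =
      unitSec g F le_rfl m :=
    (res_self ((Scheme.Modules.pullback g).obj F) (le_refl (g ⁻¹ᵁ U)) _).symm
  show ((compIso p g e).app G).hom.app _ (((Scheme.Modules.pullback p).map hj).app _
      (((compIso p g e).app F).inv.app _
        (((Scheme.Modules.pullbackPushforwardAdjunction r).unit.app F).app U m))) =
    transSec p g e G (preimage_le p g e)
      (hj.app (g ⁻¹ᵁ U) (((Scheme.Modules.pullbackPushforwardAdjunction g).unit.app F).app U m))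
  rw [h1, h2, transSec_apply]
  refine congrArg (((compIso p g e).app G).hom.app _) ?_
  refine (congrArg (((Scheme.Modules.pullback p).map hj).app _) ?_).trans
    (unitSec_map p _ _ hj _)
  exact congr(Scheme.Modules.Hom.app $(((compIso p g e).app F).hom_inv_id) (r ⁻¹ᵁ U)
    (unitSec p ((Scheme.Modules.pullback g).obj F) (preimage_le p g e) (unitSec g F le_rfl m)))

/-- Transposing the pullback along a composite. -/
lemma homEquiv_map (p : Z ⟶ X) (g : X ⟶ Y) {r : Z ⟶ Y} (e : p ≫ g = r) {F G : Y.Modules}
    (φ : F ⟶ G) :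
    (Scheme.Modules.pullbackPushforwardAdjunction r).homEquiv _ _
        ((Scheme.Modules.pullback r).map φ) =
      (Scheme.Modules.pullbackPushforwardAdjunction g).homEquiv _ _
        ((Scheme.Modules.pullback g).map φ) ≫ transHom p g e G := by
  rw [← homEquiv_transport]
  congr 1
  rw [Iso.eq_inv_comp]
  exact ((compIso p g e).hom.naturality φ).symm

section natIso

variable {C C' : Type*} [Category C] [Category C'] {F₁ F₂ : C ⥤ C'} (E : F₁ ≅ F₂) {A B : C}

include E in
lemma map_eq_of_natIso {a b : A ⟶ B} (h : F₁.map a = F₁.map b) : F₂.map a = F₂.map b := by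
  rw [← cancel_epi (E.hom.app A), ← E.hom.naturality, ← E.hom.naturality, h]

include E in
lemma epi_of_natIso (f : A ⟶ B) (h : Epi (F₁.map f)) : Epi (F₂.map f) := by
  have : Epi (E.hom.app A ≫ F₂.map f) := by
    rw [← E.hom.naturality]; infer_instance
  exact epi_of_epi (E.hom.app A) _

end natIso

/-- The kernel of an epimorphism from a finite type to a finitely presented module is finite. -/
theorem finOn_kernel {F G : X.Modules} [F.IsQuasicoherent] [G.IsQuasicoherent] {W : X.Opens}
    (hF : FinOn F W) (hG : FPOn G W) (f : F ⟶ G) [Epi f] : FinOn (kernel f) W := fun x hx => by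
  obtain ⟨U, hU, hxU, hUW, hfp⟩ := hG x hx
  obtain ⟨V, hV, hxV, hVU, hfin⟩ := hF.mono F hUW x hxU
  obtain ⟨r, hr, hxr⟩ := hU.exists_basicOpen_le ⟨x, hxV⟩ hxU
  have := finitePresentation_basicOpen G hU r
  obtain ⟨V', hV', hxV', hV'le, hfin'⟩ :=
    hF.mono F ((X.basicOpen_le r).trans hUW) x hxr
  obtain ⟨q, r', hq, hxq⟩ := exists_basicOpen_le_affine_inter (hU.basicOpen r) hV' x ⟨hxr, hxV'⟩
  have hFq : Module.Finite Γ(X, X.basicOpen r') Γ(F, X.basicOpen r') := finite_basicOpen F hV' r'
  have hGq : Module.FinitePresentation Γ(X, X.basicOpen r') Γ(G, X.basicOpen r') :=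
    hq ▸ finitePresentation_basicOpen G (hU.basicOpen r) q
  refine ⟨X.basicOpen r', hV'.basicOpen r', hq ▸ hxq, ((X.basicOpen_le r').trans hV'le).trans
    ((X.basicOpen_le r).trans hUW), ?_⟩
  have hAff := hV'.basicOpen r'
  have hs : Function.Surjective (appLin f (X.basicOpen r')) := app_surjective_of_epi f hAff
  have hker := Module.FinitePresentation.fg_ker (appLin f (X.basicOpen r')) hs
  refine ⟨Submodule.fg_of_fg_map_injective (appLin (kernel.ι f) (X.basicOpen r'))
    (app_injective_of_mono (kernel.ι f) _) ?_⟩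
  rw [Submodule.map_top]
  have e : LinearMap.range (appLin (kernel.ι f) (X.basicOpen r')) =
      LinearMap.ker (appLin f (X.basicOpen r')) := by
    refine le_antisymm ?_ fun y hy => ?_
    · rintro _ ⟨y, rfl⟩
      exact app_app_eq_zero (ShortComplex.mk (kernel.ι f) f (kernel.condition f)) _ y
    · exact exists_app_eq_of_app_eq_zero
        (ShortComplex.mk (kernel.ι f) f (kernel.condition f))
        (ShortComplex.exact_of_f_is_kernel _ (kernelIsKernel f)) _ y hy
  rw [e]
  exact hker

/-- Cokernels of maps into finite modules are finite. -/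
theorem finOn_of_epi {F G : X.Modules} [F.IsQuasicoherent] [G.IsQuasicoherent] {W : X.Opens}
    (hF : FinOn F W) (f : F ⟶ G) [Epi f] : FinOn G W := fun x hx => by
  obtain ⟨U, hU, hxU, hUW, hfin⟩ := hF x hx
  exact ⟨U, hU, hxU, hUW, Module.Finite.of_surjective (appLin f U) (app_surjective_of_epi f hU)⟩

/-- Pullback along a flat morphism preserves monomorphisms. -/
theorem preservesMonomorphisms_pullback (g : X ⟶ Y) [Flat g] :
    (Scheme.Modules.pullback g).PreservesMonomorphisms where
  preserves {M N} φ _ := by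
    refine ⟨fun {P} a b hab => hom_ext_stalk a b fun x => LinearMap.ext fun t => ?_⟩
    have hinj : Function.Injective (stalkLin ((Scheme.Modules.pullback g).map φ) x) := by
      let := (g.stalkMap x).hom.toAlgebra
      have hfl : Module.Flat (Y.presheaf.stalk (g x)) (X.presheaf.stalk x) :=
        (Flat.iff_flat_stalkMap g).mp inferInstance x
      obtain ⟨eM, heM⟩ := FDesc.Stalk.exists_stalk_equiv g M x
      obtain ⟨eN, heN⟩ := FDesc.Stalk.exists_stalk_equiv g N x
      have hφ : Function.Injective (stalkLin φ (g x)) :=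
        TopCat.Presheaf.stalkFunctor_map_injective_of_app_injective
          (F := M.presheaf) (G := N.presheaf) (f := φ.mapPresheaf)
          (fun U => app_injective_of_mono φ U) (g x)
      have key : ∀ z, stalkLin ((Scheme.Modules.pullback g).map φ) x (eM z) =
          eN ((stalkLin φ (g x)).lTensor (X.presheaf.stalk x) z) := by
        intro z
        induction z using TensorProduct.induction_on with
        | zero => simp
        | tmul r t =>
          rw [heM, map_smul, LinearMap.lTensor_tmul, heN]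
          exact congrArg (r • ·) (FDesc.Stalk.unitStalkHom_natural g φ x t).symm
        | add z₁ z₂ h₁ h₂ => simp [h₁, h₂]
      intro u v huv
      obtain ⟨u, rfl⟩ := eM.surjective u
      obtain ⟨v, rfl⟩ := eM.surjective v
      rw [key, key] at huv
      exact congrArg eM (Module.Flat.lTensor_preserves_injective_linearMap _ hφ (eN.injective huv))
    refine hinj ?_
    rw [← stalkLin_comp, ← stalkLin_comp, hab]

/-- Pullback along a flat morphism is exact. -/
theorem preservesHomology_pullback (g : X ⟶ Y) [Flat g] :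
    (Scheme.Modules.pullback g).PreservesHomology := by
  have := preservesMonomorphisms_pullback g
  exact Functor.preservesHomology_of_preservesMonos_and_cokernels _

section limit

variable {I : Type u} [SmallCategory I] [IsCofiltered I] {D : I ⥤ Scheme.{u}} {c : Cone D}
  (hc : IsLimit c) [∀ (i j : I) (f : i ⟶ j), IsAffineHom (D.map f)] {i₀ : I}

omit [IsCofiltered I] [∀ (i j : I) (f : i ⟶ j), IsAffineHom (D.map f)] in
lemma w_comp {j k : I} (ψ : k ⟶ j) (φ : j ⟶ i₀) : D.map ψ ≫ D.map φ = D.map (ψ ≫ φ) :=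
  (D.map_comp ψ φ).symm

omit [IsCofiltered I] in
lemma compactSpace_stage [CompactSpace (D.obj i₀)] {j : I} (φ : j ⟶ i₀) :
    CompactSpace (D.obj j) := QuasiCompact.compactSpace_of_compactSpace (D.map φ)

include hc in
/-- Maps out of a finite type module which agree on the limit agree at a stage. -/
theorem eventually_map_eq [CompactSpace (D.obj i₀)] {F G : (D.obj i₀).Modules} [F.IsQuasicoherent]
    [G.IsQuasicoherent] (hF : FinOn F ⊤) (a b : F ⟶ G)
    (h : (Scheme.Modules.pullback (c.π.app i₀)).map a =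
      (Scheme.Modules.pullback (c.π.app i₀)).map b) :
    ∃ (j : I) (φ : j ⟶ i₀), (Scheme.Modules.pullback (D.map φ)).map a =
      (Scheme.Modules.pullback (D.map φ)).map b := by
  let j₀ : (Over i₀)ᵒᵖ := op (Over.mk (𝟙 i₀))
  let A (x : F ⟶ G) : F ⟶ (pullSys (i₀ := i₀) G).obj j₀ :=
    (Scheme.Modules.pullbackPushforwardAdjunction _).homEquiv _ _
      ((Scheme.Modules.pullback (D.map j₀.unop.hom)).map x)
  have hι : A a ≫ (pullCocone (i₀ := i₀) c hc G).ι.app j₀ =
      A b ≫ (pullCocone (i₀ := i₀) c hc G).ι.app j₀ := by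
    refine (homEquiv_map _ _ (c.w j₀.unop.hom) a).symm.trans ?_
    rw [h]
    exact homEquiv_map _ _ (c.w j₀.unop.hom) b
  obtain ⟨k, α, hα⟩ := (sysColim_pullSys hc G).exists_stage_eq F (W := ⊤) isCompact_univ hF
    (LHom.ofHom ⊤ (A a)) (LHom.ofHom ⊤ (A b)) fun x _ => LinearMap.ext fun t => by
      show stalkLin _ x (stalkLin (A a) x t) = stalkLin _ x (stalkLin (A b) x t)
      rw [← stalkLin_comp, ← stalkLin_comp, hι]
  have hk : A a ≫ (pullSys (i₀ := i₀) G).map α = A b ≫ (pullSys (i₀ := i₀) G).map α :=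
    hom_ext_stalk _ _ fun x => LinearMap.ext fun t => by
      rw [stalkLin_comp, stalkLin_comp]
      exact LinearMap.congr_fun (hα x trivial) t
  refine ⟨k.unop.left, k.unop.hom,
    ((Scheme.Modules.pullbackPushforwardAdjunction _).homEquiv _ _).injective ?_⟩
  exact (homEquiv_map _ _ (ring_comp_eq α.unop) a).trans
    (hk.trans (homEquiv_map _ _ (ring_comp_eq α.unop) b).symm)

omit [IsCofiltered I] [∀ (i j : I) (f : i ⟶ j), IsAffineHom (D.map f)] in
/-- Equalities persist. -/
lemma map_eq_finer {j k : I} (ψ : k ⟶ j) (φ : j ⟶ i₀) {F G : (D.obj i₀).Modules} {a b : F ⟶ G}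
    (h : (Scheme.Modules.pullback (D.map φ)).map a = (Scheme.Modules.pullback (D.map φ)).map b) :
    (Scheme.Modules.pullback (D.map (ψ ≫ φ))).map a =
      (Scheme.Modules.pullback (D.map (ψ ≫ φ))).map b :=
  map_eq_of_natIso (compIso (D.map ψ) (D.map φ) (w_comp ψ φ))
    (congrArg (Scheme.Modules.pullback (D.map ψ)).map h)

omit [IsCofiltered I] [∀ (i j : I) (f : i ⟶ j), IsAffineHom (D.map f)] in
/-- Equalities at a stage hold in the limit. -/
lemma map_eq_limit {j : I} (φ : j ⟶ i₀) {F G : (D.obj i₀).Modules} {a b : F ⟶ G}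
    (h : (Scheme.Modules.pullback (D.map φ)).map a = (Scheme.Modules.pullback (D.map φ)).map b) :
    (Scheme.Modules.pullback (c.π.app i₀)).map a =
      (Scheme.Modules.pullback (c.π.app i₀)).map b :=
  map_eq_of_natIso (compIso (c.π.app j) (D.map φ) (c.w φ))
    (congrArg (Scheme.Modules.pullback (c.π.app j)).map h)

include hc in
/-- Morphisms out of a finitely presented module descend to a stage. -/
theorem exists_hom_descend [CompactSpace (D.obj i₀)] [QuasiSeparatedSpace (D.obj i₀)]
    (F G : (D.obj i₀).Modules) [F.IsQuasicoherent] [G.IsQuasicoherent] (hF : FPOn F ⊤)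
    (h : (Scheme.Modules.pullback (c.π.app i₀)).obj F ⟶
      (Scheme.Modules.pullback (c.π.app i₀)).obj G) :
    ∃ (j : I) (φ : j ⟶ i₀)
      (hj : (Scheme.Modules.pullback (D.map φ)).obj F ⟶ (Scheme.Modules.pullback (D.map φ)).obj G),
      ((compIso (c.π.app j) (D.map φ) (c.w φ)).app F).inv ≫
        (Scheme.Modules.pullback (c.π.app j)).map hj ≫
          ((compIso (c.π.app j) (D.map φ) (c.w φ)).app G).hom = h := by
  let a : F ⟶ (pullCocone (i₀ := i₀) c hc G).pt :=
    (Scheme.Modules.pullbackPushforwardAdjunction _).homEquiv _ _ h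
  obtain ⟨k, l, hl⟩ := (sysColim_pullSys hc G).exists_stage_lift F (W := ⊤) isCompact_univ hF
    (LHom.ofHom ⊤ a)
  have hla : l.toHom ≫ (pullCocone (i₀ := i₀) c hc G).ι.app k = a :=
    hom_ext_stalk _ _ fun x => LinearMap.ext fun t => by
      rw [stalkLin_comp, LHom.stalkLin_toHom]
      exact LinearMap.congr_fun (hl x trivial) t
  refine ⟨k.unop.left, k.unop.hom,
    ((Scheme.Modules.pullbackPushforwardAdjunction _).homEquiv _ _).symm l.toHom,
    ((Scheme.Modules.pullbackPushforwardAdjunction _).homEquiv _ _).injective ?_⟩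
  rw [homEquiv_transport, Equiv.apply_symm_apply]
  exact hla

include hc in
/-- A module of finite type which vanishes on the limit vanishes at a stage. -/
theorem eventually_isZero [CompactSpace (D.obj i₀)] (F : (D.obj i₀).Modules) [F.IsQuasicoherent]
    (hF : FinOn F ⊤) (h : IsZero ((Scheme.Modules.pullback (c.π.app i₀)).obj F)) :
    ∃ (j : I) (φ : j ⟶ i₀), IsZero ((Scheme.Modules.pullback (D.map φ)).obj F) := by
  obtain ⟨j, φ, hj⟩ := eventually_map_eq hc hF (𝟙 F) 0 (h.eq_of_src _ _)
  rw [CategoryTheory.Functor.map_id, Functor.map_zero] at hj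
  exact ⟨j, φ, (IsZero.iff_id_eq_zero _).mpr hj⟩

include hc in
/-- Surjectivity descends for targets of finite type. -/
theorem eventually_epi [CompactSpace (D.obj i₀)] {F G : (D.obj i₀).Modules} [F.IsQuasicoherent]
    [G.IsQuasicoherent] (hG : FinOn G ⊤) (f : F ⟶ G)
    (h : Epi ((Scheme.Modules.pullback (c.π.app i₀)).map f)) :
    ∃ (j : I) (φ : j ⟶ i₀), Epi ((Scheme.Modules.pullback (D.map φ)).map f) := by
  have hC : (cokernel f).IsQuasicoherent := isQuasicoherent_cokernel f
  obtain ⟨j, φ, hj⟩ := eventually_isZero hc (cokernel f) (finOn_of_epi hG (cokernel.π f))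
    ((isZero_cokernel_of_epi _).of_iso (PreservesCokernel.iso _ f))
  exact ⟨j, φ, Preadditive.epi_of_isZero_cokernel _ (hj.of_iso (PreservesCokernel.iso _ f).symm)⟩

include hc in
/-- Isomorphy descends. -/
theorem eventually_isIso [CompactSpace (D.obj i₀)] {F G : (D.obj i₀).Modules} [F.IsQuasicoherent]
    [G.IsQuasicoherent] (hF : FinOn F ⊤) (hG : FPOn G ⊤) (f : F ⟶ G)
    (h : IsIso ((Scheme.Modules.pullback (c.π.app i₀)).map f)) :
    ∃ (j : I) (φ : j ⟶ i₀), IsIso ((Scheme.Modules.pullback (D.map φ)).map f) := by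
  obtain ⟨j, φ, hepi⟩ := eventually_epi hc hG.finOn f inferInstance
  have := compactSpace_stage (D := D) φ
  let fj := (Scheme.Modules.pullback (D.map φ)).map f
  have : (kernel fj).IsQuasicoherent := isQuasicoherent_kernel fj
  have hK : FinOn (kernel fj) ⊤ := finOn_kernel (hF.pullback _ le_top) (hG.pullback _ le_top) fj
  have hiso : IsIso ((Scheme.Modules.pullback (c.π.app j)).map fj) :=
    (NatIso.isIso_map_iff (compIso (c.π.app j) (D.map φ) (c.w φ)) f).mpr h
  obtain ⟨k, ψ, hk⟩ := eventually_map_eq hc hK (kernel.ι fj) 0 (by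
    rw [← cancel_mono ((Scheme.Modules.pullback (c.π.app j)).map fj), ← Functor.map_comp,
      ← Functor.map_comp, kernel.condition, zero_comp])
  let S := ShortComplex.mk (kernel.ι fj) fj (kernel.condition fj)
  have hS : S.Exact := ShortComplex.exact_of_f_is_kernel _ (kernelIsKernel fj)
  have hex := hS.map_of_epi_of_preservesCokernel (Scheme.Modules.pullback (D.map ψ)) hepi
    inferInstance
  have hm : Mono ((Scheme.Modules.pullback (D.map ψ)).map fj) :=
    (ShortComplex.exact_iff_mono _ (hk.trans (Functor.map_zero _ _ _))).mp hex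
  have hi : IsIso ((Scheme.Modules.pullback (D.map ψ)).map fj) := isIso_of_mono_of_epi _
  exact ⟨k, ψ ≫ φ, (NatIso.isIso_map_iff (compIso (D.map ψ) (D.map φ) (w_comp ψ φ)) f).mp hi⟩

end limit

end Groth.Agent.LimTop
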