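import Groth.Agent.LimTop.Reduced
import Mathlib.RingTheory.Nilpotent.Lemmas
import Mathlib.AlgebraicGeometry.Noetherian

/-!
The reduced locus is open when the nilradical is of finite type.
-/

universe u

open CategoryTheory AlgebraicGeometry Limits Topology TopologicalSpace Opposite

namespace Groth.Agent.LimTop

theorem isOpen_setOf_isReduced_stalk {X : Scheme.{u}}
    (hN : ∀ U : X.affineOpens, (nilradical Γ(X, U)).FG) :
    IsOpen {x : X | _root_.IsReduced (X.presheaf.stalk x)} := by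
  classical
  rw [isOpen_iff_forall_mem_open]
  intro x hx
  have hx' : _root_.IsReduced (X.presheaf.stalk x) := hx
  obtain ⟨_, ⟨U, hU, rfl⟩, hxU, -⟩ :=
    X.isBasis_affineOpens.exists_subset_of_mem_open (Set.mem_univ x) isOpen_univ
  obtain ⟨s, hs⟩ := hN ⟨U, hU⟩
  have hz : ∀ g : s, X.presheaf.germ U x hxU g.1 = X.presheaf.germ U x hxU 0 := fun g ↦ by
    rw [map_zero]
    exact IsReduced.eq_zero _ ((mem_nilradical.mp (hs ▸ Submodule.subset_span g.2)).map _)
  choose W hxW l₁ l₂ hW using fun g : s ↦ X.presheaf.germ_eq x hxU hxU _ _ (hz g)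
  let W' : X.Opens := U ⊓ Finset.univ.inf W
  refine ⟨W', fun y hy ↦ ?_, W'.2, ⟨hxU, ?_⟩⟩
  swap
  · show x ∈ Finset.univ.inf W
    induction (Finset.univ : Finset s) using Finset.induction with
    | empty => simp
    | insert a t ha ih => rw [Finset.inf_insert]; exact ⟨hxW a, ih⟩
  have hyU : y ∈ U := hy.1
  have hy0 : ∀ g : s, X.presheaf.germ U y hyU g.1 = 0 := fun g ↦ by
    have hyW : y ∈ W g := (Finset.inf_le (f := W) (Finset.mem_univ g)) hy.2
    rw [← X.presheaf.germ_res_apply (l₁ g) y hyW, hW g, map_zero, map_zero]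
  have hnil : ∀ a : Γ(X, U), IsNilpotent a → X.presheaf.germ U y hyU a = 0 := by
    intro a ha
    have : a ∈ Ideal.span (s : Set Γ(X, U)) := by
      rw [show Ideal.span (s : Set Γ(X, U)) = nilradical Γ(X, U) from hs]
      exact ha
    have hle : Ideal.span (s : Set Γ(X, U)) ≤ RingHom.ker (X.presheaf.germ U y hyU).hom :=
      Ideal.span_le.mpr fun g hg ↦ hy0 ⟨g, hg⟩
    exact hle this
  letI : Algebra Γ(X, U) (X.presheaf.stalk y) := TopCat.Presheaf.algebra_section_stalk X.presheaf ⟨y, hyU⟩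
  haveI := hU.isLocalization_stalk ⟨y, hyU⟩
  refine ⟨fun z ⟨n, hn⟩ ↦ ?_⟩
  obtain ⟨a, t, rfl⟩ := IsLocalization.exists_mk'_eq (hU.primeIdealOf ⟨y, hyU⟩).asIdeal.primeCompl z
  have hn1 : (IsLocalization.mk' (X.presheaf.stalk y) a t) ^ (n + 1) = 0 := by
    rw [pow_succ, hn, zero_mul]
  rw [← IsLocalization.mk'_pow, IsLocalization.mk'_eq_zero_iff] at hn1
  obtain ⟨m, hm⟩ := hn1
  have hnilp : IsNilpotent ((m : Γ(X, U)) * a) := ⟨n + 1, by
    rw [mul_pow, pow_succ (m : Γ(X, U)) n, mul_assoc, hm, mul_zero]⟩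
  have h0 := hnil _ hnilp
  rw [map_mul] at h0
  have hmu : IsUnit (X.presheaf.germ U y hyU (m : Γ(X, U))) :=
    IsLocalization.map_units (X.presheaf.stalk y) m
  rw [IsLocalization.mk'_eq_zero_iff]
  have ha0 := (hmu.mul_right_eq_zero).mp h0
  exact (IsLocalization.map_eq_zero_iff (hU.primeIdealOf ⟨y, hyU⟩).asIdeal.primeCompl _ a).mp ha0

end Groth.Agent.LimTop
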