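import Groth.Agent.LimTop.Basic
import Mathlib.CategoryTheory.CofilteredSystem

/-!
Maximal points (generic points of irreducible components) along limits.
-/

universe u

open CategoryTheory AlgebraicGeometry Limits Topology TopologicalSpace Opposite

namespace Groth.Agent.LimTop

/-- A point without proper generizations. -/
def IsMaxPt {X : Type*} [TopologicalSpace X] (s : X) : Prop := ∀ z : X, z ⤳ s → z = s

section Top

variable {X : Scheme.{u}}

lemma exists_isMaxPt_specializes (x : X) : ∃ η : X, IsMaxPt η ∧ η ⤳ x := by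
  obtain ⟨η, hη⟩ := QuasiSober.sober (S := irreducibleComponent x) isIrreducible_irreducibleComponent
    isClosed_irreducibleComponent
  refine ⟨η, fun z hz ↦ ?_, hη.specializes mem_irreducibleComponent⟩
  have hsub : irreducibleComponent x ⊆ closure {z} := by
    rw [← hη.def]
    exact closure_minimal (Set.singleton_subset_iff.mpr hz.mem_closure) isClosed_closure
  have he := eq_irreducibleComponent (isPreirreducible_singleton.closure) hsub
  have h1 : η ⤳ z := specializes_iff_mem_closure.mpr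
    (by rw [hη.def]; exact he ▸ subset_closure rfl)
  exact (hz.antisymm h1).eq

lemma dense_of_isMaxPt_mem {V : Set X} (h : ∀ η : X, IsMaxPt η → η ∈ V) : Dense V := by
  rw [dense_iff_inter_open]
  rintro W hW ⟨x, hx⟩
  obtain ⟨η, hη, hηx⟩ := exists_isMaxPt_specializes x
  exact ⟨η, hηx.mem_open hW hx, h η hη⟩

lemma isMaxPt_mem_of_dense (hfin : {s : X | IsMaxPt s}.Finite) {V : Set X} (hV : IsOpen V)
    (hd : Dense V) {η : X} (hη : IsMaxPt η) : η ∈ V := by
  let W : Set X := (⋃ θ ∈ {s : X | IsMaxPt s} \ {η}, closure {θ})ᶜ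
  have hW : IsOpen W := ((hfin.subset Set.sdiff_subset).isClosed_biUnion fun θ _ ↦ isClosed_closure).isOpen_compl
  have hηW : η ∈ W := by
    simp only [W, Set.mem_compl_iff, Set.mem_iUnion, not_exists]
    intro θ ⟨hθ, hne⟩ hmem
    exact hne (hη θ (specializes_iff_mem_closure.mpr hmem))
  obtain ⟨w, hwW, hwV⟩ := dense_iff_inter_open.mp hd W hW ⟨η, hηW⟩
  obtain ⟨θ, hθ, hθw⟩ := exists_isMaxPt_specializes w
  by_cases e : θ = η
  · exact e ▸ hθw.mem_open hV hwV
  · refine (hwW ?_).elim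
    exact Set.mem_iUnion₂.mpr ⟨θ, ⟨hθ, e⟩, hθw.mem_closure⟩

end Top

variable {I : Type u} [SmallCategory I] [IsCofiltered I] {D : I ⥤ Scheme.{u}} {c : Cone D}
variable [∀ (i j : I) (f : i ⟶ j), IsAffineHom (D.map f)]

/-- A compatible system of finite nonempty subsets gives a point of the limit. -/
theorem exists_mem_of_finite (hc : IsLimit c) {i₀ : I} (C : ∀ j, (j ⟶ i₀) → Set (D.obj j))
    (hfin : ∀ j φ, (C j φ).Finite) (hne : ∀ j φ, (C j φ).Nonempty)
    (hm : ∀ (j k : I) (ψ : k ⟶ j) (φ : j ⟶ i₀), Set.MapsTo (D.map ψ) (C k (ψ ≫ φ)) (C j φ)) :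
    ∃ s : c.pt, ∀ (j : I) (φ : j ⟶ i₀), c.π.app j s ∈ C j φ := by
  have hmaps {j k : Over i₀} (f : j ⟶ k) :
      Set.MapsTo (D.map f.left) (C j.left j.hom) (C k.left k.hom) := by
    have := hm k.left j.left f.left k.hom
    rwa [Over.w f] at this
  let F : Over i₀ ⥤ Type u :=
    { obj j := C j.left j.hom
      map f := ↾(hmaps f).restrict
      map_id j := by
        ext x
        exact map_id_apply D x.1
      map_comp f g := by
        ext x
        exact map_comp_apply D f.left g.left x.1 }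
  have (j : Over i₀) : Finite (F.obj j) := (hfin j.left j.hom).to_subtype
  have (j : Over i₀) : Nonempty (F.obj j) := (hne j.left j.hom).to_subtype
  obtain ⟨x, hx⟩ := nonempty_sections_of_finite_cofiltered_system F
  obtain ⟨s, hs⟩ := exists_point_over hc (fun j φ ↦ (x (Over.mk φ)).1)
    (fun j k ψ φ ↦ congrArg Subtype.val (hx (Over.homMk ψ : Over.mk (ψ ≫ φ) ⟶ Over.mk φ)))
  exact ⟨s, fun j φ ↦ hs j φ ▸ (x (Over.mk φ)).2⟩

theorem isMaxPt_iff (hc : IsLimit c) (hfin : ∀ i, {s : D.obj i | IsMaxPt s}.Finite)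
    (hsys : ∀ (i j : I) (g : i ⟶ j) (s : D.obj i), IsMaxPt s → IsMaxPt (D.map g s)) (s : c.pt) :
    IsMaxPt s ↔ ∀ i, IsMaxPt (c.π.app i s) := by
  obtain ⟨i₀⟩ := IsCofiltered.nonempty (C := I)
  refine ⟨fun hs i ↦ ?_, fun h z hz ↦ point_ext hc i₀ fun j _ ↦
    h j _ (hz.map (c.π.app j).continuous)⟩
  obtain ⟨z, hz⟩ := exists_mem_of_finite hc (i₀ := i)
    (fun j _ ↦ {m | IsMaxPt m ∧ m ⤳ c.π.app j s})
    (fun j _ ↦ (hfin j).subset fun m hm ↦ hm.1)
    (fun j _ ↦ exists_isMaxPt_specializes _)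
    (fun j k ψ _ m hm ↦ ⟨hsys _ _ ψ m hm.1, by
      have := hm.2.map (D.map ψ).continuous
      rwa [π_apply] at this⟩)
  have hzs : z ⤳ s := by
    rw [specializes_iff_forall_open]
    intro W hW hsW
    obtain ⟨j, φ, V, -, hsV, hVW⟩ := exists_nhd hc i hW hsW
    exact hVW (((hz j φ).2).mem_open V.2 hsV)
  have := (hz i (𝟙 i)).1
  rwa [hs z hzs] at this

end Groth.Agent.LimTop
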