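import Groth.Agent.LimTop.Connected
import Groth.Agent.LimTop.Maximal
import Mathlib.Topology.NoetherianSpace

/-!
Irreducible and connected components of a Noetherian limit with dominant projections.
-/

universe u

open CategoryTheory AlgebraicGeometry Limits Topology TopologicalSpace Opposite

namespace Groth.Agent.LimTop

/-- A dense map which keeps the components incomparable induces a bijection on components. -/
theorem bijOn_irreducibleComponents {X Y : Type*} [TopologicalSpace X] [TopologicalSpace Y]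
    [NoetherianSpace X] (f : X → Y) (hf : Continuous f) (hd : DenseRange f)
    (hinc : ∀ A ∈ irreducibleComponents X, ∀ B ∈ irreducibleComponents X,
      closure (f '' A) ⊆ closure (f '' B) → A = B) :
    Set.BijOn (fun A : Set X ↦ closure (f '' A)) (irreducibleComponents X) (irreducibleComponents Y) := by
  classical
  have hfin := NoetherianSpace.finite_irreducibleComponents (α := X)
  have hirr : ∀ A ∈ irreducibleComponents X, IsIrreducible (closure (f '' A)) := fun A hA ↦
    (hA.1.image f hf.continuousOn).closure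
  have huniv : (Set.univ : Set Y) ⊆ ⋃ A ∈ irreducibleComponents X, closure (f '' A) := by
    rw [← hd.closure_range]
    refine closure_minimal ?_ (hfin.isClosed_biUnion fun A _ ↦ isClosed_closure)
    rintro _ ⟨x, rfl⟩
    obtain ⟨A, hA, hxA⟩ := Set.mem_sUnion.mp ((sUnion_irreducibleComponents (X := X)).symm ▸ Set.mem_univ x)
    exact Set.mem_iUnion₂.mpr ⟨A, hA, subset_closure ⟨x, hxA, rfl⟩⟩
  have hmax : ∀ Z : Set Y, IsIrreducible Z → ∃ A ∈ irreducibleComponents X, Z ⊆ closure (f '' A) := by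
    intro Z hZ
    have := (isIrreducible_iff_sUnion_isClosed.mp hZ) (hfin.toFinset.image fun A ↦ closure (f '' A))
      (by simp) (fun y _ ↦ by simpa using huniv (Set.mem_univ y))
    simpa using this
  refine ⟨fun A hA ↦ ⟨hirr A hA, fun Z hZ hsub ↦ ?_⟩, fun A hA B hB h ↦ hinc A hA B hB h.le,
    fun Z hZ ↦ ?_⟩
  · obtain ⟨B, hB, hZB⟩ := hmax Z hZ
    obtain rfl := hinc A hA B hB (hsub.trans hZB)
    exact hZB
  · obtain ⟨A, hA, hZA⟩ := hmax Z hZ.1
    exact ⟨A, hA, (hZ.2 (hirr A hA) hZA).antisymm hZA⟩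

lemma finite_range_connectedComponent {X : Type*} [TopologicalSpace X] [NoetherianSpace X] :
    (Set.range (connectedComponent : X → Set X)).Finite := by
  classical
  have hfin := NoetherianSpace.finite_irreducibleComponents (α := X)
  choose A hA hxA using fun x : X ↦
    Set.mem_sUnion.mp ((sUnion_irreducibleComponents (X := X)).symm ▸ Set.mem_univ x)
  let g : Set X → Set X := fun A ↦ if h : A.Nonempty then connectedComponent h.some else ∅
  refine (hfin.image g).subset ?_
  rintro _ ⟨x, rfl⟩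
  refine ⟨A x, hA x, ?_⟩
  have hne : (A x).Nonempty := ⟨x, hxA x⟩
  simp only [g, dif_pos hne]
  exact connectedComponent_eq
    ((hA x).1.isConnected.isPreconnected.subset_connectedComponent hne.some_mem (hxA x))

lemma isOpen_connectedComponent_of_noetherianSpace {X : Type*} [TopologicalSpace X]
    [NoetherianSpace X] (x : X) : IsOpen (connectedComponent x) := by
  rw [← isClosed_compl_iff]
  have : (connectedComponent x)ᶜ =
      ⋃ C ∈ Set.range (connectedComponent : X → Set X) \ {connectedComponent x}, C := by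
    ext y
    simp only [Set.mem_compl_iff, Set.mem_iUnion]
    constructor
    · exact fun hy ↦ ⟨connectedComponent y, ⟨⟨y, rfl⟩, fun h ↦ hy ((h : connectedComponent y = _) ▸
        mem_connectedComponent)⟩, mem_connectedComponent⟩
    · rintro ⟨_, ⟨⟨z, rfl⟩, hne⟩, hyC⟩ hy
      exact hne ((connectedComponent_eq hyC).trans (connectedComponent_eq hy).symm)
  rw [this]
  exact (finite_range_connectedComponent.subset Set.sdiff_subset).isClosed_biUnion
    fun C ⟨⟨z, hz⟩, _⟩ ↦ hz ▸ isClosed_connectedComponent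

variable {I : Type u} [SmallCategory I] [IsCofiltered I] {D : I ⥤ Scheme.{u}} {c : Cone D}
variable [∀ (i j : I) (f : i ⟶ j), IsAffineHom (D.map f)]

/-- Irreducible components along a Noetherian limit with dominant transition maps. -/
theorem eventually_bijOn_irreducibleComponents (hc : IsLimit c) (i₀ : I)
    [NoetherianSpace c.pt] (hd : ∀ (j k : I) (φ : j ⟶ k) (_ : k ⟶ i₀), IsDominant (D.map φ)) :
    ∃ (i : I) (_ : i ⟶ i₀), ∀ (j : I) (_ : j ⟶ i),
      Set.BijOn (fun Y : Set c.pt ↦ closure (c.π.app j '' Y)) (irreducibleComponents c.pt)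
        (irreducibleComponents (D.obj j)) := by
  classical
  have hfin := NoetherianSpace.finite_irreducibleComponents (α := c.pt)
  have key : ∀ A ∈ irreducibleComponents c.pt, ∀ B ∈ irreducibleComponents c.pt, A ≠ B →
      ∃ (i : I) (_ : i ⟶ i₀), ∀ (j : I) (_ : j ⟶ i),
        ¬ closure (c.π.app j '' A) ⊆ closure (c.π.app j '' B) := by
    intro A hA B hB hne
    obtain ⟨a, haA, haB⟩ := Set.not_subset.mp (fun h : A ⊆ B ↦ hne (h.antisymm (hA.2 hB.1 h)))
    have hBc := isClosed_of_mem_irreducibleComponents B hB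
    obtain ⟨i, φ, V, -, haV, hVB⟩ := exists_nhd hc i₀ hBc.isOpen_compl haB
    refine ⟨i, φ, fun j ψ hsub ↦ ?_⟩
    obtain ⟨_, hy, b, hb, rfl⟩ := mem_closure_iff.mp (hsub (subset_closure ⟨a, haA, rfl⟩))
      (D.map ψ ⁻¹' (V : Set (D.obj i))) (V.2.preimage (D.map ψ).continuous)
      (show D.map ψ (c.π.app j a) ∈ V by rwa [π_apply])
    refine hVB ?_ hb
    show c.π.app i b ∈ V
    rw [← π_apply c ψ]
    exact hy
  let K := {p : irreducibleComponents c.pt × irreducibleComponents c.pt // p.1 ≠ p.2}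
  have : Finite (irreducibleComponents c.pt) := hfin.to_subtype
  choose w φ hw using fun p : K ↦
    key p.1.1.1 p.1.1.2 p.1.2.1 p.1.2.2 (fun h ↦ p.2 (Subtype.ext h))
  obtain ⟨i, g, q, -⟩ := IsCofiltered.wideCospan φ
  refine ⟨i, g, fun j ψ ↦ ?_⟩
  have hdom : IsDominant (c.π.app j) := isDominant_π hc j fun k χ ↦ hd k j χ (ψ ≫ g)
  refine bijOn_irreducibleComponents _ (c.π.app j).continuous (c.π.app j).denseRange
    fun A hA B hB hsub ↦ ?_
  by_contra hne
  let p : K := ⟨(⟨A, hA⟩, ⟨B, hB⟩), fun h ↦ hne (congrArg Subtype.val h)⟩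
  exact hw p j (ψ ≫ q p) hsub

/-- Connected components along a Noetherian limit with dominant transition maps. -/
theorem eventually_bijOn_connectedComponents (hc : IsLimit c) (i₀ : I) [CompactSpace (D.obj i₀)]
    [NoetherianSpace c.pt] (hd : ∀ (j k : I) (φ : j ⟶ k) (_ : k ⟶ i₀), IsDominant (D.map φ)) :
    ∃ (i : I) (_ : i ⟶ i₀), ∀ (j : I) (_ : j ⟶ i),
      Set.BijOn (fun C : Set c.pt ↦ closure (c.π.app j '' C))
        (Set.range (connectedComponent : c.pt → Set c.pt))
        (Set.range (connectedComponent : D.obj j → Set (D.obj j))) := by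
  classical
  have : Finite (Set.range (connectedComponent : c.pt → Set c.pt)) :=
    finite_range_connectedComponent.to_subtype
  have hopen : ∀ C : Set.range (connectedComponent : c.pt → Set c.pt), IsOpen C.1 := by
    rintro ⟨_, x, rfl⟩
    exact isOpen_connectedComponent_of_noetherianSpace x
  choose a fa V hV hVC using fun C : Set.range (connectedComponent : c.pt → Set c.pt) ↦
    exists_open_preimage hc i₀ (hopen C) (NoetherianSpace.isCompact _)
  obtain ⟨b, g, p, hp⟩ := IsCofiltered.wideCospan fa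
  let O : Set.range (connectedComponent : c.pt → Set c.pt) → Set (D.obj b) :=
    fun C ↦ D.map (p C) ⁻¹' (V C : Set (D.obj (a C)))
  have hO : ∀ C, IsOpen (O C) := fun C ↦ (V C).2.preimage (D.map (p C)).continuous
  have hOC : ∀ C, c.π.app b ⁻¹' O C = C.1 := fun C ↦ (preimage_π c (p C) _).trans (hVC C)
  have : CompactSpace (D.obj b) := QuasiCompact.compactSpace_of_compactSpace (D.map g)
  obtain ⟨i, ψ, hi⟩ := exists_map_preimage_le_map_preimage D c hc (U := ⊤)
    (V := ⨆ C, (⟨O C, hO C⟩ : (D.obj b).Opens)) isCompact_univ (fun x _ ↦ by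
      show c.π.app b x ∈ ⨆ C, (⟨O C, hO C⟩ : (D.obj b).Opens)
      rw [Opens.mem_iSup]
      exact ⟨⟨_, x, rfl⟩, (hOC ⟨_, x, rfl⟩).ge mem_connectedComponent⟩)
  refine ⟨i, ψ ≫ g, fun j χ ↦ ?_⟩
  have hdom : IsDominant (c.π.app j) := isDominant_π hc j fun k θ ↦ hd k j θ (χ ≫ ψ ≫ g)
  let P : Set.range (connectedComponent : c.pt → Set c.pt) → Set (D.obj j) :=
    fun C ↦ D.map (χ ≫ ψ) ⁻¹' O C
  have hP : ∀ C, IsOpen (P C) := fun C ↦ (hO C).preimage (D.map (χ ≫ ψ)).continuous
  have hPC : ∀ C, c.π.app j ⁻¹' P C = C.1 := fun C ↦ (preimage_π c (χ ≫ ψ) _).trans (hOC C)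
  have hcov : ∀ y, ∃ C, y ∈ P C := by
    intro y
    have := hi (show D.map χ y ∈ D.map ψ ⁻¹ᵁ (⊤ : (D.obj b).Opens) from trivial)
    obtain ⟨C, hC⟩ := Opens.mem_iSup.mp this
    exact ⟨C, show D.map (χ ≫ ψ) y ∈ O C by rw [map_comp_apply]; exact hC⟩
  have hdisj : ∀ C C' y, y ∈ P C → y ∈ P C' → C = C' := by
    intro C C' y hy hy'
    by_contra hne
    refine Set.eq_empty_iff_forall_notMem.mp (eq_empty_of_preimage_eq_empty (c.π.app j)
      ((hP C).inter (hP C')) ?_) y ⟨hy, hy'⟩
    rw [Set.preimage_inter, hPC, hPC, Set.eq_empty_iff_forall_notMem]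
    rintro z ⟨hz, hz'⟩
    obtain ⟨_, x, rfl⟩ := C
    obtain ⟨_, x', rfl⟩ := C'
    exact hne (Subtype.ext ((connectedComponent_eq hz).trans (connectedComponent_eq hz').symm))
  have hclopen : ∀ C, IsClopen (P C) := fun C ↦ by
    refine ⟨⟨?_⟩, hP C⟩
    have : (P C)ᶜ = ⋃ C' ∈ {C' | C' ≠ C}, P C' := by
      ext y
      simp only [Set.mem_compl_iff, Set.mem_iUnion, Set.mem_ofPred_eq]
      exact ⟨fun hy ↦ let ⟨C', h'⟩ := hcov y; ⟨C', fun e ↦ hy (e ▸ h'), h'⟩,
        fun ⟨C', hne, h'⟩ h ↦ hne (hdisj C' C y h' h)⟩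
    rw [this]
    exact isOpen_biUnion fun C' _ ↦ hP C'
  have hsub : ∀ C, closure (c.π.app j '' C.1) ⊆ P C := fun C ↦
    closure_minimal (Set.image_subset_iff.mpr (hPC C).ge) (hclopen C).isClosed
  have hPeq : ∀ C, P C = closure (c.π.app j '' C.1) := fun C ↦ by
    refine (Set.Subset.antisymm (fun y hy ↦ ?_) (hsub C))
    have hy' : y ∈ ⋃ C' : Set.range (connectedComponent : c.pt → Set c.pt), closure (c.π.app j '' C'.1) := by
      refine (isClosed_iUnion_of_finite fun _ ↦ isClosed_closure).closure_subset_iff.mpr ?_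
        ((c.π.app j).denseRange y)
      rintro _ ⟨x, rfl⟩
      exact Set.mem_iUnion.mpr ⟨⟨_, x, rfl⟩, subset_closure ⟨x, mem_connectedComponent, rfl⟩⟩
    obtain ⟨C', hC'⟩ := Set.mem_iUnion.mp hy'
    exact hdisj C' C y (hsub C' hC') hy ▸ hC'
  have hcomp : ∀ C y, y ∈ P C → connectedComponent y = closure (c.π.app j '' C.1) := by
    intro C y hy
    refine ((hclopen C).connectedComponent_subset hy).trans (hPeq C).le |>.antisymm ?_
    have hconn : _root_.IsPreconnected (closure (c.π.app j '' C.1)) := by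
      obtain ⟨_, x, rfl⟩ := C
      exact (isPreconnected_connectedComponent.image _ (c.π.app j).continuous.continuousOn).closure
    exact hconn.subset_connectedComponent ((hPeq C).le hy)
  refine ⟨?_, ?_, ?_⟩
  · rintro _ ⟨x, rfl⟩
    exact ⟨c.π.app j x, hcomp ⟨_, x, rfl⟩ _ ((hPC ⟨_, x, rfl⟩).ge mem_connectedComponent)⟩
  · rintro _ ⟨x, rfl⟩ _ ⟨x', rfl⟩ h
    have h1 : c.π.app j x ∈ P ⟨_, x, rfl⟩ := (hPC ⟨_, x, rfl⟩).ge mem_connectedComponent
    have h2 : c.π.app j x ∈ P ⟨_, x', rfl⟩ := by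
      rw [hPeq] at h1 ⊢
      exact h.le h1
    exact congrArg Subtype.val (hdisj _ _ _ h1 h2)
  · rintro _ ⟨y, rfl⟩
    obtain ⟨C, hC⟩ := hcov y
    exact ⟨C.1, C.2, (hcomp C y hC).symm⟩

end Groth.Agent.LimTop
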