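import Groth.Agent.LimTop.Components

/-!
Systems whose transition maps are embeddings become eventually dominant.
-/

universe u

open CategoryTheory AlgebraicGeometry Limits Topology TopologicalSpace Opposite

namespace Groth.Agent.LimTop

variable {I : Type u} [SmallCategory I] [IsCofiltered I] {D : I ⥤ Scheme.{u}}

theorem exists_eventually_isDominant (i₀ : I) [NoetherianSpace (D.obj i₀)]
    (he : ∀ (i j : I) (φ : i ⟶ j), Topology.IsEmbedding (D.map φ)) :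
    ∃ (i : I) (_ : i ⟶ i₀), ∀ (j k : I) (φ : j ⟶ k) (_ : k ⟶ i), IsDominant (D.map φ) := by
  obtain ⟨G, ⟨⟨i, φ, hG⟩, hmin⟩⟩ := WellFounded.has_min
    (wellFounded_lt (α := Closeds (D.obj i₀)))
    {G | ∃ (j : I) (φ : j ⟶ i₀), (G : Set (D.obj i₀)) = closure (Set.range (D.map φ))}
    ⟨⟨_, isClosed_closure⟩, i₀, 𝟙 _, rfl⟩
  refine ⟨i, φ, fun j k ψ χ ↦ ⟨?_⟩⟩
  have heq : closure (Set.range (D.map (ψ ≫ χ ≫ φ))) = closure (Set.range (D.map (χ ≫ φ))) := by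
    have hle : ∀ {a b : I} (f : a ⟶ b) (g : b ⟶ i₀),
        closure (Set.range (D.map (f ≫ g))) ⊆ closure (Set.range (D.map g)) := fun f g ↦
      closure_mono (by rintro _ ⟨x, rfl⟩; exact ⟨D.map f x, (map_comp_apply D f g x).symm⟩)
    refine (hle ψ _).antisymm ((hle χ φ).trans ?_)
    have := hmin ⟨_, isClosed_closure⟩ ⟨j, ψ ≫ χ ≫ φ, rfl⟩
    by_contra hne
    refine this (lt_of_le_of_ne ?_ ?_)
    · show closure _ ⊆ (G : Set (D.obj i₀))
      rw [hG]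
      exact (hle ψ _).trans (hle χ φ)
    · intro e
      exact hne (hG ▸ (congrArg (fun G : Closeds (D.obj i₀) ↦ (G : Set (D.obj i₀))) e).ge)
  rw [DenseRange, dense_iff_inter_open]
  intro W hW ⟨x, hx⟩
  obtain ⟨V, hV, rfl⟩ := (he k i₀ (χ ≫ φ)).isInducing.isOpen_iff.mp hW
  have hmem : D.map (χ ≫ φ) x ∈ closure (Set.range (D.map (ψ ≫ χ ≫ φ))) := by
    rw [heq]; exact subset_closure ⟨x, rfl⟩
  obtain ⟨_, hyV, ⟨y, rfl⟩⟩ := mem_closure_iff.mp hmem V hV hx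
  exact ⟨D.map ψ y, show D.map (χ ≫ φ) (D.map ψ y) ∈ V by rwa [← map_comp_apply], y, rfl⟩

end Groth.Agent.LimTop
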