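import Mathlib.Algebra.Category.ModuleCat.FilteredColimits
import Mathlib.Algebra.Module.FinitePresentation
import Mathlib.CategoryTheory.Limits.Types.Filtered

/-!
Maps from finite / finitely presented modules into filtered colimits of modules.
-/

universe u

open CategoryTheory Limits Opposite

namespace Groth.Agent.LimTop.HomColimit

variable {A : Type u} [CommRing A] {J : Type u} [SmallCategory J] [IsFiltered J]
  {N : J ⥤ ModuleCat.{u} A} {c : Cocone N}

theorem exists_map_eq (hc : IsColimit c) {ι : Type} [Finite ι] {i : J} (x y : ι → N.obj i)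
    (h : ∀ t, c.ι.app i (x t) = c.ι.app i (y t)) :
    ∃ (k : J) (f : i ⟶ k), ∀ t, N.map f (x t) = N.map f (y t) := by
  classical
  have hF := isColimitOfPreserves (forget (ModuleCat.{u} A)) hc
  choose k f g e using fun t ↦ (Types.FilteredColimit.isColimit_eq_iff _ hF).mp (h t)
  choose k' p e' using fun t ↦
    let ⟨k', q, hq⟩ := IsFilteredOrEmpty.cocone_maps (f t) (g t)
    show ∃ (k' : J) (p : i ⟶ k'), N.map p (x t) = N.map p (y t) from
      ⟨k', f t ≫ q, by
        have he : N.map (f t) (x t) = N.map (g t) (y t) := e t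
        conv_lhs => rw [N.map_comp, ModuleCat.comp_apply, he, ← ModuleCat.comp_apply, ← N.map_comp,
          ← hq]⟩
  have := Fintype.ofFinite ι
  obtain ⟨m, hm, hm'⟩ := IsFiltered.sup_exists (insert i (Finset.univ.image k'))
    (Finset.univ.image fun t ↦ (⟨i, k' t, Finset.mem_insert_self _ _,
      Finset.mem_insert_of_mem (Finset.mem_image_of_mem _ (Finset.mem_univ t)), p t⟩ :
        Σ' (X Y : J) (_ : X ∈ insert i (Finset.univ.image k')) (_ : Y ∈ insert i (Finset.univ.image k')), X ⟶ Y))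
  refine ⟨m, hm (Finset.mem_insert_self _ _), fun t ↦ ?_⟩
  rw [← hm' (Finset.mem_insert_self _ _)
    (Finset.mem_insert_of_mem (Finset.mem_image_of_mem _ (Finset.mem_univ t)))
    (Finset.mem_image.mpr ⟨t, Finset.mem_univ t, rfl⟩)]
  rw [N.map_comp, ModuleCat.comp_apply, ModuleCat.comp_apply, e']

theorem exists_comp_eq (hc : IsColimit c) (M : ModuleCat.{u} A) [Module.Finite A M] {i : J}
    (f g : M ⟶ N.obj i) (h : f ≫ c.ι.app i = g ≫ c.ι.app i) :
    ∃ (k : J) (p : i ⟶ k), f ≫ N.map p = g ≫ N.map p := by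
  obtain ⟨n, s, hs⟩ := Module.Finite.exists_fin (R := A) (M := M)
  obtain ⟨k, p, hp⟩ := exists_map_eq hc (fun t ↦ f (s t)) (fun t ↦ g (s t))
    fun t ↦ congr($h (s t))
  refine ⟨k, p, ModuleCat.hom_ext (LinearMap.ext_on hs ?_)⟩
  rintro _ ⟨t, rfl⟩
  exact hp t

theorem exists_lift (hc : IsColimit c) (M : ModuleCat.{u} A) [Module.FinitePresentation A M]
    (h : M ⟶ c.pt) : ∃ (i : J) (f : M ⟶ N.obj i), f ≫ c.ι.app i = h := by
  classical
  obtain ⟨n, m, f, g, hf, hfg⟩ := Module.FinitePresentation.exists_fin' A M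
  have hF := isColimitOfPreserves (forget (ModuleCat.{u} A)) hc
  choose j y hy using fun t : Fin n ↦ Types.jointly_surjective_of_isColimit hF (h (f (Pi.single t 1)))
  obtain ⟨i₀, hi₀⟩ := IsFiltered.sup_objs_exists (Finset.univ.image j)
  let y₀ : Fin n → N.obj i₀ := fun t ↦
    N.map (hi₀ (Finset.mem_image_of_mem j (Finset.mem_univ t))).some (y t)
  have hy₀ : ∀ t, c.ι.app i₀ (y₀ t) = h (f (Pi.single t 1)) := fun t ↦ by
    show (N.map _ ≫ c.ι.app i₀) (y t) = _
    rw [c.w]; exact hy t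
  let L := (Pi.basisFun A (Fin n)).constr A y₀
  have hL : (c.ι.app i₀).hom ∘ₗ L = h.hom ∘ₗ f := by
    refine (Pi.basisFun A (Fin n)).ext fun t ↦ ?_
    show c.ι.app i₀ (L (Pi.basisFun A (Fin n) t)) = h (f (Pi.basisFun A (Fin n) t))
    rw [Module.Basis.constr_basis, Pi.basisFun_apply]
    exact hy₀ t
  have hrel : ∀ t : Fin m, c.ι.app i₀ (L (g (Pi.single t 1))) = c.ι.app i₀ (0 : N.obj i₀) := by
    intro t
    have := LinearMap.congr_fun hL (g (Pi.single t 1))
    rw [map_zero]
    refine this.trans ?_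
    show h (f (g _)) = 0
    rw [hfg.apply_apply_eq_zero, map_zero]
  obtain ⟨k, p, hp⟩ := exists_map_eq hc _ _ hrel
  let L' := (N.map p).hom ∘ₗ L
  have hker : LinearMap.ker f ≤ LinearMap.ker L' := by
    rw [hfg.linearMap_ker_eq, LinearMap.range_le_ker_iff]
    refine (Pi.basisFun A (Fin m)).ext fun t ↦ ?_
    show N.map p (L (g (Pi.basisFun A (Fin m) t))) = 0
    rw [Pi.basisFun_apply, hp t, map_zero]
  let q : M →ₗ[A] N.obj k :=
    (LinearMap.ker f).liftQ L' hker ∘ₗ (LinearMap.quotKerEquivOfSurjective f hf).symm.toLinearMap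
  refine ⟨k, ModuleCat.ofHom q, ModuleCat.hom_ext (LinearMap.ext fun z ↦ ?_)⟩
  obtain ⟨v, rfl⟩ := hf z
  show c.ι.app k (q (f v)) = h (f v)
  have hq : q (f v) = L' v := by
    show (LinearMap.ker f).liftQ L' hker ((LinearMap.quotKerEquivOfSurjective f hf).symm (f v)) = _
    rw [show (LinearMap.quotKerEquivOfSurjective f hf).symm (f v) = Submodule.Quotient.mk v from
      (LinearEquiv.symm_apply_eq _).mpr rfl]
    rfl
  rw [hq]
  show (N.map p ≫ c.ι.app k) (L v) = _
  rw [c.w]
  exact LinearMap.congr_fun hL v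

end Groth.Agent.LimTop.HomColimit
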