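import Groth.Agent.LimTop.PullSec

/-!
# Quasi-coherence from stalks: sections over affine opens localizing to the stalks
-/

universe u

open CategoryTheory Limits AlgebraicGeometry Opposite TopologicalSpace

noncomputable section

namespace Groth.Agent.LimTop

open Groth.Agent.PullStalk.Sky Groth.Agent.QCoh

variable {X : Scheme.{u}} {H : X.Modules} {U : X.Opens} {Q : Type u} [AddCommGroup Q]
  [Module Γ(X, U) Q] (hU : IsAffineOpen U) (θ : Q →ₗ[Γ(X, U)] Γ(H, U))

/-- `θ` followed by germs is the localization at every point. -/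
def IsStalkwiseLoc : Prop :=
  ∀ (x : X) (hx : x ∈ U), letI := stalkModule H hx
    IsLocalizedModule.AtPrime (hU.primeIdealOf ⟨x, hx⟩).asIdeal ((germLin H hx).comp θ)

variable {hU θ} (hθ : IsStalkwiseLoc hU θ)

lemma mem_primeCompl_iff {x : X} (hx : x ∈ U) (r : Γ(X, U)) :
    r ∈ (hU.primeIdealOf ⟨x, hx⟩).asIdeal.primeCompl ↔ x ∈ X.basicOpen r := by
  letI : Algebra Γ(X, U) (X.presheaf.stalk x) := (X.presheaf.germ U x hx).hom.toAlgebra
  haveI := hU.isLocalization_stalk ⟨x, hx⟩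
  exact (IsLocalization.AtPrime.isUnit_to_map_iff (X.presheaf.stalk x)
    (hU.primeIdealOf ⟨x, hx⟩).asIdeal r).symm.trans (X.mem_basicOpen r x hx).symm

include hθ in
/-- An element whose section vanishes on `D(r)` is killed by a power of `r`. -/
theorem exists_pow_smul_eq_zero_of_res {r : Γ(X, U)} {q : Q}
    (hq : res H (X.basicOpen_le r) (θ q) = 0) : ∃ n : ℕ, r ^ n • q = 0 := by
  have key : r ∈ (show Ideal Γ(X, U) from
      LinearMap.ker (LinearMap.toSpanSingleton Γ(X, U) Q q)).radical := by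
    rw [Ideal.radical_eq_sInf, Ideal.mem_sInf]
    rintro P ⟨hle, hP⟩
    by_contra hr
    have hx : hU.fromSpec ⟨P, hP⟩ ∈ U := hU.range_fromSpec.le ⟨_, rfl⟩
    have hPx : (hU.primeIdealOf ⟨_, hx⟩).asIdeal = P := congrArg PrimeSpectrum.asIdeal
      (hU.fromSpec.isOpenEmbedding.injective (hU.fromSpec_primeIdealOf ⟨_, hx⟩))
    have hxr : hU.fromSpec ⟨P, hP⟩ ∈ X.basicOpen r := by
      rw [← mem_primeCompl_iff (hU := hU) hx]
      exact fun h => hr (hPx ▸ h)
    letI := stalkModule H hx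
    haveI := hθ _ hx
    obtain ⟨⟨a, ha⟩, hc⟩ := (IsLocalizedModule.eq_zero_iff
      (hU.primeIdealOf ⟨_, hx⟩).asIdeal.primeCompl ((germLin H hx).comp θ) (m := q)).mp (by
        show germM H U _ hx (θ q) = 0
        have e : germM H (X.basicOpen r) _ hxr (res H (X.basicOpen_le r) (θ q)) =
            germM H U _ hx (θ q) := H.presheaf.germ_res_apply _ _ hxr _
        rw [← e, hq]
        exact map_zero (H.presheaf.germ (X.basicOpen r) _ hxr).hom)
    exact ha (hPx.symm ▸ hle (show a • q = 0 from hc))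
  obtain ⟨n, hn⟩ := key
  exact ⟨n, hn⟩

include hθ in
/-- Sections over `D(r)` come from `Q` up to a power of `r`. -/
theorem exists_pow_smul_eq_res {r : Γ(X, U)} (s : Γ(H, X.basicOpen r)) :
    ∃ (n : ℕ) (q : Q), res H (X.basicOpen_le r) (θ q) = rres (X.basicOpen_le r) r ^ n • s := by
  classical
  have hloc : ∀ x : X.basicOpen r, ∃ (g : Γ(X, U)) (hg : X.basicOpen g ≤ X.basicOpen r),
      x.1 ∈ X.basicOpen g ∧ ∃ (k : ℕ) (q : Q),
        res H (X.basicOpen_le g) (θ q) = rres (X.basicOpen_le g) g ^ k • res H hg s := by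
    rintro ⟨x, hxr⟩
    have hx := X.basicOpen_le r hxr
    letI := stalkModule H hx
    haveI := hθ x hx
    obtain ⟨⟨q, ⟨a, ha⟩⟩, hqa⟩ := IsLocalizedModule.surj
      (hU.primeIdealOf ⟨x, hx⟩).asIdeal.primeCompl ((germLin H hx).comp θ)
      (germM H (X.basicOpen r) x hxr s)
    replace hqa : X.presheaf.germ U x hx a • germM H (X.basicOpen r) x hxr s =
        germM H U x hx (θ q) := hqa
    have e1 : germM H (X.basicOpen r) x hxr (rres (X.basicOpen_le r) a • s) =
        germM H U x hx (θ q) := by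
      rw [germM_smul, X.presheaf.germ_res_apply]
      exact hqa
    obtain ⟨V, hxV, i₁, i₂, eV⟩ := H.presheaf.germ_eq x hxr hx _ _ e1
    have hxa : x ∈ X.basicOpen a := (mem_primeCompl_iff hx a).mp ha
    obtain ⟨g, hgle, hxg⟩ := hU.exists_basicOpen_le (V := V ⊓ X.basicOpen a ⊓ X.basicOpen r)
      ⟨x, ⟨⟨hxV, hxa⟩, hxr⟩⟩ hx
    have hga : X.basicOpen g ≤ X.basicOpen a :=
      hgle.trans (inf_le_left.trans inf_le_right)
    have hgV : X.basicOpen g ≤ V := hgle.trans (inf_le_left.trans inf_le_left)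
    have hgr : X.basicOpen g ≤ X.basicOpen r := hgle.trans inf_le_right
    haveI := hU.isLocalization_basicOpen g
    have hu : IsUnit (rres (X.basicOpen_le g) a) := by
      have h0 : IsUnit (rres (X.basicOpen_le a) a) :=
        RingedSpace.isUnit_res_basicOpen X.toRingedSpace a
      have h := h0.map (rres hga).hom
      rwa [show (rres hga).hom (rres (X.basicOpen_le a) a) = rres (X.basicOpen_le g) a from
        rres_rres (X.basicOpen_le a) hga a] at h
    obtain ⟨v, hv⟩ := hu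
    obtain ⟨⟨c, ⟨_, k, rfl⟩⟩, hc⟩ := IsLocalization.surj (M := Submonoid.powers g)
      (S := Γ(X, X.basicOpen g)) (↑v⁻¹ : Γ(X, X.basicOpen g))
    replace hc : (↑v⁻¹ : Γ(X, X.basicOpen g)) * rres (X.basicOpen_le g) (g ^ k) =
        rres (X.basicOpen_le g) c := hc
    refine ⟨g, hgr, hxg, k, c • q, ?_⟩
    have eV' := congrArg (res H hgV) (show res H (leOfHom i₁) (rres (X.basicOpen_le r) a • s) =
      res H (leOfHom i₂) (θ q) from eV)
    rw [res_res, res_res, res_smul, rres_rres] at eV'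
    rw [map_smul, res_smul, ← eV', ← hc, map_pow, smul_smul]
    congr 1
    rw [show rres (X.basicOpen_le g) a = (v : Γ(X, X.basicOpen g)) from hv.symm,
      mul_comm (↑v⁻¹ : Γ(X, X.basicOpen g)) _, mul_assoc, v.inv_mul, mul_one]
  choose g hg hxg k q hq using hloc
  obtain ⟨σ, hσ⟩ := (hU.basicOpen r).isCompact.elim_finite_subcover
    (fun x : X.basicOpen r => (X.basicOpen (g x) : Set X)) (fun x => (X.basicOpen (g x)).isOpen)
    fun x hx => Set.mem_iUnion.mpr ⟨⟨x, hx⟩, hxg ⟨x, hx⟩⟩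
  obtain ⟨k₀, hk₀⟩ : ∃ k₀, ∀ i : σ, k i.1 ≤ k₀ := Finite.exists_le _
  let q₀ : σ → Q := fun i => g i.1 ^ (k₀ - k i.1) • q i.1
  have hq₀ : ∀ i : σ, res H (X.basicOpen_le (g i.1)) (θ (q₀ i)) =
      rres (X.basicOpen_le (g i.1)) (g i.1) ^ k₀ • res H (hg i.1) s := fun i => by
    rw [map_smul, res_smul, hq, map_pow, smul_smul, ← pow_add, Nat.sub_add_cancel (hk₀ i)]
  clear_value q₀
  have hpair : ∀ p : σ × σ, ∃ m : ℕ, (g p.1.1 * g p.2.1) ^ m •
      (g p.2.1 ^ k₀ • q₀ p.1 - g p.1.1 ^ k₀ • q₀ p.2) = 0 := by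
    rintro ⟨i, j⟩
    refine exists_pow_smul_eq_zero_of_res hθ ?_
    have hi : X.basicOpen (g i.1 * g j.1) ≤ X.basicOpen (g i.1) := by
      rw [X.basicOpen_mul]; exact inf_le_left
    have hj : X.basicOpen (g i.1 * g j.1) ≤ X.basicOpen (g j.1) := by
      rw [X.basicOpen_mul]; exact inf_le_right
    rw [map_sub, map_sub, LinearMap.map_smul, LinearMap.map_smul, res_smul, res_smul,
      ← res_res H (X.basicOpen_le (g i.1)) hi, hq₀,
      ← res_res H (X.basicOpen_le (g j.1)) hj, hq₀, res_smul, res_smul, res_res, res_res,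
      map_pow, map_pow, map_pow, map_pow, rres_rres, rres_rres, smul_smul, smul_smul, sub_eq_zero]
    congr 1
    exact mul_comm _ _
  choose m hm using hpair
  obtain ⟨m₀, hm₀⟩ : ∃ m₀, ∀ p, m p ≤ m₀ := Finite.exists_le _
  let K := k₀ + m₀
  let q₁ : σ → Q := fun i => g i.1 ^ m₀ • q₀ i
  have hq₁ : ∀ i j : σ, g j.1 ^ K • q₁ i = g i.1 ^ K • q₁ j := fun i j => by
    have h := congrArg (((g i.1 * g j.1) ^ (m₀ - m (i, j))) • ·) (hm (i, j))
    simp only [smul_smul, ← pow_add, Nat.sub_add_cancel (hm₀ (i, j)), smul_zero, smul_sub,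
      sub_eq_zero] at h
    simp only [q₁, K, smul_smul]
    have hsplit : ∀ a : Γ(X, U), a ^ m₀ = a ^ (m₀ - m (i, j)) * a ^ m (i, j) := fun a => by
      rw [← pow_add, Nat.sub_add_cancel (hm₀ (i, j))]
    convert h using 2 <;> (rw [pow_add, hsplit (g i.1), hsplit (g j.1)]; ring)
  have hspan : r ∈ (Ideal.span (Set.range fun i : σ => g i.1 ^ K)).radical := by
    rw [Ideal.radical_eq_sInf, Ideal.mem_sInf]
    rintro P ⟨hle, hP⟩
    by_contra hr
    have hx : hU.fromSpec ⟨P, hP⟩ ∈ U := hU.range_fromSpec.le ⟨_, rfl⟩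
    have hPx : (hU.primeIdealOf ⟨_, hx⟩).asIdeal = P := congrArg PrimeSpectrum.asIdeal
      (hU.fromSpec.isOpenEmbedding.injective (hU.fromSpec_primeIdealOf ⟨_, hx⟩))
    have hxr : hU.fromSpec ⟨P, hP⟩ ∈ X.basicOpen r := by
      rw [← mem_primeCompl_iff (hU := hU) hx]
      exact fun h => hr (hPx ▸ h)
    obtain ⟨i, hi, hxi⟩ := Set.mem_iUnion₂.mp (hσ hxr)
    exact (mem_primeCompl_iff (hU := hU) hx _).mpr hxi
      (hPx.symm ▸ hP.mem_of_pow_mem _ (hle (Ideal.subset_span ⟨⟨i, hi⟩, rfl⟩)))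
  obtain ⟨N, hN⟩ := hspan
  obtain ⟨c, hc⟩ := Ideal.mem_span_range_iff_exists_fun.mp hN
  refine ⟨N, ∑ i, c i • q₁ i, eq_of_locally_eq H (U := fun i : σ => X.basicOpen (g i.1))
    (fun i => hg i.1) (fun x hx => ?_) _ _ fun j => ?_⟩
  · obtain ⟨i, hi, hxi⟩ := Set.mem_iUnion₂.mp (hσ hx)
    exact Opens.mem_iSup.mpr ⟨⟨i, hi⟩, hxi⟩
  · have hu : IsUnit (rres (X.basicOpen_le (g j.1)) (g j.1) ^ K) :=
      (RingedSpace.isUnit_res_basicOpen X.toRingedSpace (g j.1)).pow K
    refine hu.smul_left_cancel.mp ?_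
    have e : g j.1 ^ K • (∑ i, c i • q₁ i) = r ^ N • q₁ j := by
      rw [← hc, Finset.smul_sum, Finset.sum_smul]
      refine Finset.sum_congr rfl fun i _ => ?_
      rw [smul_comm, hq₁ i j, smul_smul]
    rw [res_res, ← map_pow, ← res_smul, ← map_smul, e]
    simp only [q₁, map_smul, res_smul, hq₀, smul_smul, map_mul, map_pow, rres_rres, K]
    congr 1
    ring

include hθ in
/-- Restriction to principal opens is a localization. -/
theorem isLocalizingAt_of_stalkwise (r : Γ(X, U)) : IsLocalizingAt H r := by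
  refine ⟨fun s => ?_, fun t ht => ?_⟩
  · obtain ⟨n, q, hq⟩ := exists_pow_smul_eq_res hθ s
    exact ⟨n, θ q, hq⟩
  · have e1 : X.basicOpen (1 : Γ(X, U)) = U := Scheme.basicOpen_of_isUnit _ isUnit_one
    obtain ⟨n, q, hq⟩ := exists_pow_smul_eq_res hθ (r := (1 : Γ(X, U))) (res H e1.le t)
    rw [map_one, one_pow, one_smul] at hq
    have ht' : θ q = t := by
      have h := congrArg (res H e1.ge) hq
      rwa [res_res, res_res, res_self, res_self] at h
    obtain ⟨k, hk⟩ := exists_pow_smul_eq_zero_of_res hθ (r := r) (q := q) (by rw [ht', ht])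
    exact ⟨k, by rw [← ht', ← map_smul, hk, map_zero]⟩

include hθ in
/-- `θ` is surjective. -/
theorem surjective_of_stalkwise : Function.Surjective θ := fun t => by
  have e1 : X.basicOpen (1 : Γ(X, U)) = U := Scheme.basicOpen_of_isUnit _ isUnit_one
  obtain ⟨n, q, hq⟩ := exists_pow_smul_eq_res hθ (r := (1 : Γ(X, U))) (res H e1.le t)
  rw [map_one, one_pow, one_smul] at hq
  have h := congrArg (res H e1.ge) hq
  rw [res_res, res_res, res_self, res_self] at h
  exact ⟨q, h⟩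

end Groth.Agent.LimTop
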