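import Groth.Agent.LimTop.StalkHom
import Mathlib.Algebra.Module.FinitePresentation
import Mathlib.RingTheory.Localization.Finiteness

/-!
# Homomorphisms from finitely presented modules into filtered systems of modules

`SysColim s`: a cocone of modules which is the colimit on sections over affine opens.
`exists_stage_eq`, `exists_stage_lift`: Hom out of modules of finite type / presentation on a
quasi-compact open.
-/

universe u

open CategoryTheory Limits AlgebraicGeometry Opposite TopologicalSpace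

namespace Groth.Agent.LimTop

open Groth.Agent.PullStalk.Sky Groth.Agent.PullStalk.Exact Groth.Agent.QCoh

variable {X : Scheme.{u}}

/-- Sections over small affine opens inside `W` are finite. -/
def FinOn (F : X.Modules) (W : X.Opens) : Prop :=
  ∀ x ∈ W, ∃ U : X.Opens, IsAffineOpen U ∧ x ∈ U ∧ U ≤ W ∧ Module.Finite Γ(X, U) Γ(F, U)

/-- Sections over small affine opens inside `W` are finitely presented. -/
def FPOn (F : X.Modules) (W : X.Opens) : Prop :=
  ∀ x ∈ W, ∃ U : X.Opens, IsAffineOpen U ∧ x ∈ U ∧ U ≤ W ∧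
    Module.FinitePresentation Γ(X, U) Γ(F, U)

lemma FPOn.finOn {F : X.Modules} {W : X.Opens} (h : FPOn F W) : FinOn F W := fun x hx => by
  obtain ⟨U, hU, hxU, hUW, hf⟩ := h x hx
  exact ⟨U, hU, hxU, hUW, inferInstance⟩

section basicOpen

variable (F : X.Modules) {U : X.Opens}

/-- Sections over a basic open as a module over the functions on the big open. -/
noncomputable abbrev resModule (r : Γ(X, U)) : Module Γ(X, U) Γ(F, X.basicOpen r) :=
  Module.compHom _ (rres (X.basicOpen_le r)).hom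

/-- Restriction to a basic open as a linear map. -/
noncomputable def resLin (r : Γ(X, U)) :
    letI := resModule F r
    Γ(F, U) →ₗ[Γ(X, U)] Γ(F, X.basicOpen r) :=
  letI := resModule F r
  { toFun := res F (X.basicOpen_le r)
    map_add' := map_add (res F (X.basicOpen_le r)).hom
    map_smul' := res_smul F (X.basicOpen_le r) }

theorem isLocalizedModule_resLin [F.IsQuasicoherent] (hU : IsAffineOpen U) (r : Γ(X, U)) :
    letI := resModule F r
    IsLocalizedModule.Away r (resLin F r) := by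
  letI := resModule F r
  have hu : IsUnit (rres (X.basicOpen_le r) r) :=
    RingedSpace.isUnit_res_basicOpen X.toRingedSpace r
  refine IsLocalizedModule.Away.mk_of_addCommGroup ?_ ?_ ?_
  · rw [Module.End.isUnit_iff]
    constructor
    · intro a b (hab : rres (X.basicOpen_le r) r • a = rres (X.basicOpen_le r) r • b)
      exact hu.smul_left_cancel.mp hab
    · intro a
      refine ⟨(↑hu.unit⁻¹ : Γ(X, X.basicOpen r)) • a, ?_⟩
      show rres (X.basicOpen_le r) r • (↑hu.unit⁻¹ : Γ(X, X.basicOpen r)) • a = a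
      rw [smul_smul, hu.mul_val_inv, one_smul]
  · intro x
    obtain ⟨n, t, ht⟩ := (isLocalizingAt F hU r).surj x
    refine ⟨n, t, ?_⟩
    show rres (X.basicOpen_le r) (r ^ n) • x = res F (X.basicOpen_le r) t
    rw [ht, map_pow]
  · intro x hx
    exact (isLocalizingAt F hU r).eq_zero x hx

theorem finite_basicOpen [F.IsQuasicoherent] (hU : IsAffineOpen U) (r : Γ(X, U))
    [Module.Finite Γ(X, U) Γ(F, U)] :
    Module.Finite Γ(X, X.basicOpen r) Γ(F, X.basicOpen r) := by
  letI := resModule F r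
  letI : Algebra Γ(X, U) Γ(X, X.basicOpen r) := (rres (X.basicOpen_le r)).hom.toAlgebra
  haveI : IsScalarTower Γ(X, U) Γ(X, X.basicOpen r) Γ(F, X.basicOpen r) :=
    IsScalarTower.of_algebraMap_smul fun _ _ => rfl
  haveI : IsLocalization (Submonoid.powers r) Γ(X, X.basicOpen r) := hU.isLocalization_basicOpen r
  haveI := isLocalizedModule_resLin F hU r
  exact Module.Finite.of_isLocalizedModule (Submonoid.powers r) (Rₚ := Γ(X, X.basicOpen r)) (resLin F r)

theorem finitePresentation_basicOpen [F.IsQuasicoherent] (hU : IsAffineOpen U) (r : Γ(X, U))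
    [Module.FinitePresentation Γ(X, U) Γ(F, U)] :
    Module.FinitePresentation Γ(X, X.basicOpen r) Γ(F, X.basicOpen r) := by
  letI := resModule F r
  letI : Algebra Γ(X, U) Γ(X, X.basicOpen r) := (rres (X.basicOpen_le r)).hom.toAlgebra
  haveI : IsScalarTower Γ(X, U) Γ(X, X.basicOpen r) Γ(F, X.basicOpen r) :=
    IsScalarTower.of_algebraMap_smul fun _ _ => rfl
  haveI : IsLocalization (Submonoid.powers r) Γ(X, X.basicOpen r) := hU.isLocalization_basicOpen r
  haveI := isLocalizedModule_resLin F hU r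
  exact FinitePresentation.of_isBaseChange (resLin F r)
    ((isLocalizedModule_iff_isBaseChange (Submonoid.powers r) _ _).mp inferInstance)

theorem FinOn.mono [F.IsQuasicoherent] {W W' : X.Opens} (h : FinOn F W) (hW : W' ≤ W) :
    FinOn F W' := fun x hx => by
  obtain ⟨U, hU, hxU, -, hf⟩ := h x (hW hx)
  obtain ⟨r, hr, hxr⟩ := hU.exists_basicOpen_le ⟨x, hx⟩ hxU
  exact ⟨X.basicOpen r, hU.basicOpen r, hxr, hr, finite_basicOpen F hU r⟩

theorem FPOn.mono [F.IsQuasicoherent] {W W' : X.Opens} (h : FPOn F W) (hW : W' ≤ W) :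
    FPOn F W' := fun x hx => by
  obtain ⟨U, hU, hxU, -, hf⟩ := h x (hW hx)
  obtain ⟨r, hr, hxr⟩ := hU.exists_basicOpen_le ⟨x, hx⟩ hxU
  exact ⟨X.basicOpen r, hU.basicOpen r, hxr, hr, finitePresentation_basicOpen F hU r⟩

end basicOpen

/-- The linear map on sections of stalk maps. -/
noncomputable def LHom.secLin {W : X.Opens} {F N : X.Modules} (l : LHom W F N) {V : X.Opens}
    (hV : V ≤ W) : Γ(F, V) →ₗ[Γ(X, V)] Γ(N, V) where
  toFun := l.sec hV
  map_add' := l.sec_add hV
  map_smul' := l.sec_smul hV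

/-- A morphism on sections, as a linear map. -/
noncomputable def appLin {M N : X.Modules} (φ : M ⟶ N) (V : X.Opens) :
    Γ(M, V) →ₗ[Γ(X, V)] Γ(N, V) where
  toFun := φ.app V
  map_add' := map_add (φ.app V).hom
  map_smul' r m := Scheme.Modules.Hom.app_smul φ r m

variable {J : Type u} [SmallCategory J] [IsFiltered J] {N : J ⥤ X.Modules} {s : Cocone N}

/-- The cocone is a colimit on sections over affine opens. -/
structure SysColim (s : Cocone N) : Prop where
  surj : ∀ U : X.Opens, IsAffineOpen U → ∀ t : Γ(s.pt, U), ∃ j t', (s.ι.app j).app U t' = t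
  zero : ∀ U : X.Opens, IsAffineOpen U → ∀ (j : J) (t : Γ(N.obj j, U)),
    (s.ι.app j).app U t = 0 → ∃ (k : J) (a : j ⟶ k), (N.map a).app U t = 0

omit [IsFiltered J] in
lemma map_app_comp {i j k : J} (a : i ⟶ j) (b : j ⟶ k) {V : X.Opens} (t : Γ(N.obj i, V)) :
    (N.map (a ≫ b)).app V t = (N.map b).app V ((N.map a).app V t) := by
  rw [N.map_comp]; rfl

omit [IsFiltered J] in
lemma ι_app_map {i j : J} (a : i ⟶ j) {V : X.Opens} (t : Γ(N.obj i, V)) :
    (s.ι.app j).app V ((N.map a).app V t) = (s.ι.app i).app V t := by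
  rw [← ConcreteCategory.comp_apply, ← Scheme.Modules.Hom.comp_app, s.w]

/-- Finitely many sections vanishing at the colimit vanish at one stage. -/
lemma SysColim.exists_zero_family (h : SysColim s) {U : X.Opens} (hU : IsAffineOpen U) {j : J}
    {ι : Type*} [Finite ι] (t : ι → Γ(N.obj j, U)) (ht : ∀ i, (s.ι.app j).app U (t i) = 0) :
    ∃ (k : J) (a : j ⟶ k), ∀ i, (N.map a).app U (t i) = 0 := by
  choose k a ha using fun i => h.zero U hU j (t i) (ht i)
  obtain ⟨l, f, g, hg⟩ := IsFiltered.wideSpan a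
  exact ⟨l, f, fun i => by rw [← hg i, map_app_comp, ha, map_zero]⟩

/-- A section over a quasi-compact open vanishing at the colimit vanishes at a stage. -/
lemma SysColim.exists_zero (h : SysColim s) {V : X.Opens} (hV : IsCompact (V : Set X)) {j : J}
    (t : Γ(N.obj j, V)) (ht : (s.ι.app j).app V t = 0) :
    ∃ (k : J) (a : j ⟶ k), (N.map a).app V t = 0 := by
  obtain ⟨T, hT, e⟩ := isCompact_iff_finite_and_eq_biUnion_affineOpens.mp hV
  have hle (i : T) : i.1.1 ≤ V := e ▸ le_iSup₂_of_le i.1 i.2 le_rfl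
  have := hT.to_subtype
  choose k a ha using fun i : T => h.zero i.1.1 i.1.2 j (res (N.obj j) (hle i) t) (by
    rw [app_res, ht, map_zero])
  obtain ⟨l, f, g, hg⟩ := IsFiltered.wideSpan a
  refine ⟨l, f, eq_zero_of_locally_eq_zero (N.obj l) hle ?_ _ fun i => ?_⟩
  · rw [e]
    exact iSup₂_le fun i hi => le_iSup (fun i : T => i.1.1) ⟨i, hi⟩
  · rw [← app_res, ← hg i, map_app_comp, ha, map_zero]

/-- Stalk maps out of a module of finite type which agree at the colimit agree at a stage. -/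
theorem SysColim.exists_stage_eq (h : SysColim s) (F : X.Modules) [F.IsQuasicoherent]
    {W : X.Opens} (hW : IsCompact (W : Set X)) (hF : FinOn F W) {j : J}
    (l l' : LHom W F (N.obj j))
    (e : ∀ x hx, (stalkLin (s.ι.app j) x).comp (l.toFun x hx) =
      (stalkLin (s.ι.app j) x).comp (l'.toFun x hx)) :
    ∃ (k : J) (a : j ⟶ k), ∀ x hx, (stalkLin (N.map a) x).comp (l.toFun x hx) =
      (stalkLin (N.map a) x).comp (l'.toFun x hx) := by
  choose U hU hxU hUW hfin using fun x : W => hF x.1 x.2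
  obtain ⟨T, hT⟩ := hW.elim_finite_subcover (fun x : W => (U x : Set X)) (fun x => (U x).2)
    fun x hx => Set.mem_iUnion.mpr ⟨⟨x, hx⟩, hxU ⟨x, hx⟩⟩
  choose G hG using fun x : W => (hfin x).fg_top
  have hd : ∀ i : (x : T) × ↥(G x.1), ∃ (k : J) (a : j ⟶ k), (N.map a).app (U i.1.1)
      (l.sec (hUW i.1.1) i.2.1 - l'.sec (hUW i.1.1) i.2.1) = 0 := fun ⟨x, m⟩ => by
    refine h.zero _ (hU _) j _ (stalk_ext _ _ _ fun y hy => ?_)
    rw [← stalkLin_germ]
    change stalkLin (s.ι.app j) y ((N.obj j).presheaf.germ (U x.1) y hy (_ - _)) =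
      s.pt.presheaf.germ (U x.1) y hy 0
    rw [map_sub, map_sub, map_zero, sub_eq_zero]
    refine (congrArg (stalkLin _ y) (l.germ_sec _ _ y hy)).trans ?_
    refine Eq.trans ?_ (congrArg (stalkLin _ y) (l'.germ_sec _ _ y hy)).symm
    exact LinearMap.congr_fun (e y (hUW x.1 hy)) _
  choose k a ha using hd
  obtain ⟨K, f, g, hg⟩ := IsFiltered.wideSpan a
  refine ⟨K, f, fun x hx => ?_⟩
  obtain ⟨x₀, hx₀, hxU₀⟩ := Set.mem_iUnion₂.mp (hT hx)
  have hlin : (appLin (N.map f) (U x₀)).comp (l.secLin (hUW x₀)) =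
      (appLin (N.map f) (U x₀)).comp (l'.secLin (hUW x₀)) := by
    refine LinearMap.ext_on (hG x₀) fun m hm => ?_
    show (N.map f).app _ (l.sec _ m) = (N.map f).app _ (l'.sec _ m)
    rw [← sub_eq_zero, ← map_sub, ← hg ⟨⟨x₀, hx₀⟩, ⟨m, hm⟩⟩, map_app_comp, ha, map_zero]
  refine stalk_hom_ext (hU x₀) hxU₀ _ _ fun m => ?_
  show stalkLin (N.map f) x (l.toFun x hx _) = stalkLin (N.map f) x (l'.toFun x hx _)
  rw [← l.germ_sec (hUW x₀) m x hxU₀, ← l'.germ_sec (hUW x₀) m x hxU₀, stalkLin_germ,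
    stalkLin_germ]
  exact congrArg _ (LinearMap.congr_fun hlin m)

/-- A linear map from finitely presented sections factors through a stage. -/
lemma SysColim.exists_lift_lin (h : SysColim s) {U : X.Opens} (hU : IsAffineOpen U) (M : Type u)
    [AddCommGroup M] [Module Γ(X, U) M] [Module.FinitePresentation Γ(X, U) M]
    (θ : M →ₗ[Γ(X, U)] Γ(s.pt, U)) :
    ∃ (j : J) (η : M →ₗ[Γ(X, U)] Γ(N.obj j, U)), (appLin (s.ι.app j) U).comp η = θ := by
  classical
  obtain ⟨n, m, f, g, hf, hfg⟩ := Module.FinitePresentation.exists_fin' Γ(X, U) M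
  choose j y hy using fun t : Fin n => h.surj U hU (θ (f (Pi.single t 1)))
  obtain ⟨i₀, hi₀⟩ := IsFiltered.sup_objs_exists (Finset.univ.image j)
  let y₀ : Fin n → Γ(N.obj i₀, U) := fun t =>
    (N.map (hi₀ (Finset.mem_image_of_mem j (Finset.mem_univ t))).some).app U (y t)
  let L := (Pi.basisFun Γ(X, U) (Fin n)).constr Γ(X, U) y₀
  have hL : (appLin (s.ι.app i₀) U).comp L = θ.comp f := by
    refine (Pi.basisFun Γ(X, U) (Fin n)).ext fun t => ?_
    show (s.ι.app i₀).app U (L (Pi.basisFun Γ(X, U) (Fin n) t)) =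
      θ (f (Pi.basisFun Γ(X, U) (Fin n) t))
    rw [Module.Basis.constr_basis, Pi.basisFun_apply, ι_app_map, hy]
  obtain ⟨k, p, hp⟩ := h.exists_zero_family hU (fun t : Fin m => L (g (Pi.single t 1))) fun t => by
    refine (LinearMap.congr_fun hL _).trans ?_
    rw [LinearMap.comp_apply, hfg.apply_apply_eq_zero, map_zero]
  let L' := (appLin (N.map p) U).comp L
  have hker : LinearMap.ker f ≤ LinearMap.ker L' := by
    rw [hfg.linearMap_ker_eq, LinearMap.range_le_ker_iff]
    refine (Pi.basisFun Γ(X, U) (Fin m)).ext fun t => ?_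
    rw [Pi.basisFun_apply]
    exact hp t
  let q : M →ₗ[Γ(X, U)] Γ(N.obj k, U) :=
    (LinearMap.ker f).liftQ L' hker ∘ₗ (LinearMap.quotKerEquivOfSurjective f hf).symm.toLinearMap
  refine ⟨k, q, LinearMap.ext fun z => ?_⟩
  obtain ⟨v, rfl⟩ := hf z
  have hq : q (f v) = L' v := by
    show (LinearMap.ker f).liftQ L' hker
      ((LinearMap.quotKerEquivOfSurjective f hf).symm (f v)) = _
    rw [show (LinearMap.quotKerEquivOfSurjective f hf).symm (f v) = Submodule.Quotient.mk v from
      (LinearEquiv.symm_apply_eq _).mpr rfl]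
    rfl
  show (s.ι.app k).app U (q (f v)) = θ (f v)
  rw [hq]
  exact (ι_app_map p (L v)).trans (LinearMap.congr_fun hL v)

/-- Stalk maps out of a module of finite presentation into the colimit factor through a stage. -/
theorem SysColim.exists_stage_lift [QuasiSeparatedSpace X] (h : SysColim s) (F : X.Modules)
    [F.IsQuasicoherent] {W : X.Opens} (hW : IsCompact (W : Set X)) (hF : FPOn F W)
    (θ : LHom W F s.pt) :
    ∃ (j : J) (l : LHom W F (N.obj j)),
      ∀ x hx, (stalkLin (s.ι.app j) x).comp (l.toFun x hx) = θ.toFun x hx := by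
  classical
  choose U hU hxU hUW hfp using fun x : W => hF x.1 x.2
  obtain ⟨T, hT⟩ := hW.elim_finite_subcover (fun x : W => (U x : Set X)) (fun x => (U x).2)
    fun x hx => Set.mem_iUnion.mpr ⟨⟨x, hx⟩, hxU ⟨x, hx⟩⟩
  choose j' η' hη' using fun x : T =>
    have := hfp x.1
    h.exists_lift_lin (hU x.1) Γ(F, U x.1) (θ.secLin (hUW x.1))
  obtain ⟨j₀, hj₀⟩ := IsFiltered.sup_objs_exists (Finset.univ.image j')
  let c : ∀ x : T, j' x ⟶ j₀ := fun x => (hj₀ (Finset.mem_image_of_mem j' (Finset.mem_univ x))).some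
  let η : ∀ x : T, LHom (U x.1) F (N.obj j₀) := fun x =>
    lhomOfAffine (hU x.1) ((appLin (N.map (c x)) (U x.1)).comp (η' x))
  have hη : ∀ (x : T) (y : X) (hy : y ∈ U x.1),
      (stalkLin (s.ι.app j₀) y).comp ((η x).toFun y hy) = θ.toFun y (hUW x.1 hy) := fun x y hy => by
    refine stalk_hom_ext (hU x.1) hy _ _ fun m => ?_
    show stalkLin (s.ι.app j₀) y (stalkExt (hU x.1) _ hy (germM F _ y hy m)) = _
    rw [stalkExt_germ, stalkLin_germ]
    refine (congrArg _ ((ι_app_map (c x) (η' x m)).trans (LinearMap.congr_fun (hη' x) m))).trans ?_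
    exact θ.germ_sec _ _ y hy
  have hpair : ∀ p : T × T, ∃ (k : J) (a : j₀ ⟶ k), ∀ y (hy : y ∈ U p.1.1 ⊓ U p.2.1),
      (stalkLin (N.map a) y).comp ((η p.1).toFun y hy.1) =
        (stalkLin (N.map a) y).comp ((η p.2).toFun y hy.2) := fun p => by
    refine h.exists_stage_eq F (W := U p.1.1 ⊓ U p.2.1)
      ((hU p.1.1).isCompact.inter_of_isOpen (hU p.2.1).isCompact (U p.1.1).2 (U p.2.1).2)
      (hF.finOn.mono F (inf_le_left.trans (hUW p.1.1))) ((η p.1).restrict inf_le_left)
      ((η p.2).restrict inf_le_right) fun y hy => ?_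
    exact (hη p.1 y hy.1).trans (hη p.2 y hy.2).symm
  choose k a ha using hpair
  obtain ⟨K, f, g, hg⟩ := IsFiltered.wideSpan a
  have hK : ∀ (x x' : T) (y : X) (hy : y ∈ U x.1) (hy' : y ∈ U x'.1),
      (stalkLin (N.map f) y).comp ((η x).toFun y hy) =
        (stalkLin (N.map f) y).comp ((η x').toFun y hy') := fun x x' y hy hy' => by
    refine LinearMap.ext fun t => ?_
    rw [← hg (x, x'), N.map_comp, LinearMap.comp_apply, LinearMap.comp_apply, stalkLin_comp,
      stalkLin_comp]
    exact congrArg _ (LinearMap.congr_fun (ha (x, x') y ⟨hy, hy'⟩) t)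
  have hmem : ∀ y ∈ W, ∃ x : T, y ∈ U x.1 := fun y hy => by
    obtain ⟨x₀, hx₀, hyU⟩ := Set.mem_iUnion₂.mp (hT hy)
    exact ⟨⟨x₀, hx₀⟩, hyU⟩
  choose ch hch using hmem
  refine ⟨K,
    { toFun := fun y hy => (stalkLin (N.map f) y).comp ((η (ch y hy)).toFun y (hch y hy))
      exists_sec := fun V m y hyV hyW => ?_ }, fun y hy => ?_⟩
  · obtain ⟨V', hV, hU', hy', t, ht⟩ :=
      ((η (ch y hyW)).comp (N.map f)).exists_sec V m y hyV (hch y hyW)
    refine ⟨V', hV, hU'.trans (hUW _), hy', t, fun z hz => (ht z hz).trans ?_⟩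
    exact LinearMap.congr_fun
      (hK _ _ z (hU' hz) (hch z (hUW _ (hU' hz)))) _
  · rw [← hη (ch y hy) y (hch y hy)]
    refine LinearMap.ext fun t => ?_
    show stalkLin (s.ι.app K) y (stalkLin (N.map f) y _) = _
    rw [← stalkLin_comp, s.w]
    rfl

end Groth.Agent.LimTop
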