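import Groth.Agent.LimLib.Smooth

/-!
Descent of properties to a stage, over a base which is only quasi-compact.
-/

set_option backward.isDefEq.respectTransparency false
set_option backward.defeqAttrib.useBackward true

universe u

open CategoryTheory Limits AlgebraicGeometry Groth.Agent.LimLib

namespace Groth.Agent.LimTop

variable {I : Type u} [SmallCategory I] {D : I ⥤ Scheme.{u}} {c : Cone D} {i₀ : I}
  {Y₀ Y X₀ X : Scheme.{u}} {g₀ : Y₀ ⟶ D.obj i₀} {qY : Y ⟶ Y₀} {g : Y ⟶ c.pt}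
  {f₀ : X₀ ⟶ Y₀} {f : X ⟶ Y} {qX : X ⟶ X₀}
  {P Q : MorphismProperty Scheme.{u}}

/-- A property stable under base change passes from a stage to the limit. -/
lemma property_limit_of_stage [P.IsStableUnderBaseChange]
    (hY : IsPullback qY g g₀ (c.π.app i₀)) (hX : IsPullback qX f f₀ qY)
    (h : ∃ (j : I) (φ : j ⟶ i₀) (Xj Yj : Scheme.{u}) (fj : Xj ⟶ Yj) (gj : Yj ⟶ D.obj j)
      (pY : Yj ⟶ Y₀) (pX : Xj ⟶ X₀),
      IsPullback pY gj g₀ (D.map φ) ∧ IsPullback pX fj f₀ pY ∧ P fj) : P f := by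
  obtain ⟨j, φ, Xj, Yj, fj, gj, pY, pX, hYj, hXj, hP⟩ := h
  exact property_of_factor hXj hX (hYj.lift qY (g ≫ c.π.app j) (by rw [hY.w, Category.assoc, c.w]))
    (hYj.lift_fst _ _ _) hP

variable [IsCofiltered I] [∀ (i j : I) (a : i ⟶ j), IsAffineHom (D.map a)]

/-- Descent to a stage of a property local on the target, over a quasi-compact base. -/
theorem exists_stage_of_compact [IsZariskiLocalAtTarget P] [P.IsStableUnderBaseChange]
    [Q.IsStableUnderBaseChange] (h : Descends P Q) (hc : IsLimit c) [CompactSpace Y₀]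
    [QuasiCompact f₀] [QuasiSeparated f₀] (hQ : Q f₀)
    (hY : IsPullback qY g g₀ (c.π.app i₀)) (hX : IsPullback qX f f₀ qY) (hP : P f) :
    ∃ (j : I) (φ : j ⟶ i₀), P (pullback.snd f₀ (pullback.fst g₀ (D.map φ))) := by
  let 𝒰 := Y₀.affineCover.finiteSubcover
  have (a : 𝒰.I₀) : IsAffine (𝒰.X a) := inferInstanceAs (IsAffine (Spec _))
  have key (a : 𝒰.I₀) : ∃ (j : I) (φ : j ⟶ i₀),
      P (pullback.snd f₀ (pullback.fst (𝒰.f a ≫ g₀) (D.map φ) ≫ 𝒰.f a)) := by
    have : CompactSpace ↑(pullback f₀ (𝒰.f a)) :=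
      QuasiCompact.compactSpace_of_compactSpace (pullback.snd f₀ (𝒰.f a))
    have : QuasiSeparatedSpace ↑(pullback f₀ (𝒰.f a)) :=
      quasiSeparatedSpace_of_quasiSeparated (pullback.snd f₀ (𝒰.f a))
    have hY' : IsPullback (pullback.fst (𝒰.f a) qY) (pullback.snd (𝒰.f a) qY ≫ g) (𝒰.f a ≫ g₀)
        (c.π.app i₀) := (IsPullback.of_hasPullback (𝒰.f a) qY).paste_vert hY
    let qX' : pullback f (pullback.snd (𝒰.f a) qY) ⟶ pullback f₀ (𝒰.f a) :=
      pullback.lift (pullback.fst _ _ ≫ qX) (pullback.snd _ _ ≫ pullback.fst _ _) (by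
        rw [Category.assoc, hX.w, pullback.condition_assoc, Category.assoc, ← pullback.condition])
    have hX' : IsPullback qX' (pullback.snd f (pullback.snd (𝒰.f a) qY))
        (pullback.snd f₀ (𝒰.f a)) (pullback.fst (𝒰.f a) qY) := by
      refine IsPullback.of_right ?_ (by simp [qX']) (IsPullback.of_hasPullback _ _)
      simpa [qX', pullback.condition] using (IsPullback.of_hasPullback _ _).paste_horiz hX
    obtain ⟨j, φ, Xj, Yj, fj, gj, pY, pX, hYj, hXj, hPj⟩ :=
      h.exists_stage hc (pullback.snd f₀ (𝒰.f a)) hY' hX' (Q.pullback_snd _ _ hQ)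
        (P.pullback_snd _ _ hP)
    refine ⟨j, φ, property_of_factor (hXj.paste_horiz (IsPullback.of_hasPullback _ _))
      (IsPullback.of_hasPullback _ _) hYj.isoPullback.inv (by simp) hPj⟩
  choose j φ hj using key
  obtain ⟨k, φ₀, ψ, hψ⟩ := IsCofiltered.wideCospan φ
  refine ⟨k, φ₀, IsZariskiLocalAtTarget.of_openCover (P := P)
    (𝒰.pullback₁ (pullback.fst g₀ (D.map φ₀))) fun a => ?_⟩
  refine property_of_factor (IsPullback.of_hasPullback _ _)
    ((IsPullback.of_hasPullback _ _).paste_horiz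
      (IsPullback.of_hasPullback f₀ (pullback.fst g₀ (D.map φ₀))))
    (pullback.lift (pullback.snd _ _) (pullback.fst _ _ ≫ pullback.snd _ _ ≫ D.map (ψ a))
      (by
        have e := pullback.condition (f := pullback.fst g₀ (D.map φ₀)) (g := 𝒰.f a)
        rw [← reassoc_of% e, pullback.condition (f := g₀)]
        simp [← D.map_comp, hψ])) ?_ (hj a)
  dsimp only [Precoverage.ZeroHypercover.pullback₁_toPreZeroHypercover,
    PreZeroHypercover.pullback₁_f]
  rw [pullback.lift_fst_assoc, ← pullback.condition]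

/-- `exists_stage_of_compact`, in the form of a pair of pullback squares. -/
theorem exists_stage_of_compact' [IsZariskiLocalAtTarget P] [P.IsStableUnderBaseChange]
    [Q.IsStableUnderBaseChange] (h : Descends P Q) (hc : IsLimit c) [CompactSpace Y₀]
    [QuasiCompact f₀] [QuasiSeparated f₀] (hQ : Q f₀)
    (hY : IsPullback qY g g₀ (c.π.app i₀)) (hX : IsPullback qX f f₀ qY) (hP : P f) :
    ∃ (j : I) (φ : j ⟶ i₀) (Xj Yj : Scheme.{u}) (fj : Xj ⟶ Yj) (gj : Yj ⟶ D.obj j)
      (pY : Yj ⟶ Y₀) (pX : Xj ⟶ X₀),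
      IsPullback pY gj g₀ (D.map φ) ∧ IsPullback pX fj f₀ pY ∧ P fj := by
  obtain ⟨j, φ, hj⟩ := exists_stage_of_compact h hc hQ hY hX hP
  exact ⟨j, φ, _, _, _, _, _, _, IsPullback.of_hasPullback _ _, IsPullback.of_hasPullback _ _, hj⟩

/-- A property of a morphism to the stage descends iff it holds over the limit. -/
theorem pullback_iff_eventually [IsZariskiLocalAtTarget P] [P.IsStableUnderBaseChange]
    [Q.IsStableUnderBaseChange] (h : Descends P Q) (hc : IsLimit c) (i₀ : I)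
    [CompactSpace (D.obj i₀)] {Z₀ : Scheme.{u}} (z : Z₀ ⟶ D.obj i₀) [QuasiCompact z]
    [QuasiSeparated z] (hQ : Q z) :
    P (pullback.snd z (c.π.app i₀)) ↔
      ∃ (j : I) (φ : j ⟶ i₀), P (pullback.snd z (D.map φ)) := by
  refine ⟨fun hP => ?_, ?_⟩
  · have hY : IsPullback (c.π.app i₀) (𝟙 c.pt) (𝟙 (D.obj i₀)) (c.π.app i₀) :=
      IsPullback.of_id_snd
    obtain ⟨j, φ, Xj, Yj, fj, gj, pY, pX, hYj, hXj, hPj⟩ :=
      exists_stage_of_compact' h hc hQ hY (IsPullback.of_hasPullback _ _) hP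
    exact ⟨j, φ, property_of_factor hXj (IsPullback.of_hasPullback _ _)
      (hYj.lift (D.map φ) (𝟙 _) (by simp)) (hYj.lift_fst _ _ _) hPj⟩
  · rintro ⟨j, φ, hP⟩
    exact property_of_factor (IsPullback.of_hasPullback _ _) (IsPullback.of_hasPullback _ _)
      (c.π.app j) (c.w φ) hP

end Groth.Agent.LimTop
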